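import Cfsg.Agent.Mrg.Omega.TC.Crit_m3
import Cfsg.Agent.Mrg.Omega.NOThreeL.RTools.Two_m3
import Cfsg.Agent.Mrg.Omega.All.HOneKer_m3
import Cfsg.Agent.MinSimple.VModule
import Mathlib
import Cfsg.Agent.Lib.CoprimeHyperplane
import Cfsg.Agent.Mrg.Omega.FFMutual
import Cfsg.Agent.Omega.NOThreeL.ATwo.Fam_m3
import Cfsg.Agent.Mrg.Omega.FrameI
import Cfsg.Agent.PLocal.OffenderStep
import Cfsg.Agent.ZN.ChoiceSit
import Cfsg.Agent.FastGrp
import Cfsg.Agent.Prune
set_option linter.all false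

section
prune_inst 0x7ffcfefb2ffcaddfdfff7e7faff5dffc3dd0dfffefdffd4bffe0ebff4fdf03802be5fba78de050fe4ef6e2b410b87853f9fece7fea6bdc7ffffd5ff45ffbee0fb5e6bd0811d498340f340ffe63f07f8e7f3fffffffffffffffffffffffffffbefffdffffffff

-- part: Mrg/Omega/TC/OneEnd
section
prune_inst 0x1008000122020000180000a0001c02d2000102000b0001f140080004c67c41a0058621f0e00b1000108c5420388040131800100238000020008a00411d04a194027682b248b10c86001980f807100000000000000000000000000000041000200000000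
set_option linter.all false
open scoped Cfsg.Agent.FastGrp


/-!
# Two centres, `1 ≠ [N₀, N₁] ≤ Ω₁Z(T)` (helper609 R6 #20647 (4), helper118 #18644) over the frame `TC.Fr`

`false_of (D : Fr T V P v) (h01 : [N_1, N_0] ≤ Ω₁Z(T)) (hne : [N_0, N_1] ≠ 1) (hfix : ∀ i, FixE T v i) : False`
(`FixE` = LEMMA FIX for `E_i / ⟨v_i⟩`, see `TC.DOne`).

* `In.same`, `In.mv`, `In.comm_eq` : `N_j ∖ C(N_i)` is one coset of `C_{N_j}(N_i)`, and acts on `N_i` as the transvection
  with centre `v_j v_i`; `In.tdat` : the hypotheses of the structure lemma `OM.KTwo.StrSp` for `N_i` (both sides);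
* `In.perp_le` : `v_i^⊥ ≤ W_i` (in `N_j`); `In.inter` : `N_i ∩ N_j ≤ Ω₁Z(T)`; `In.comm_WN` : `[W_i, N_j] ≤ ⟨v_0 v_1⟩`;
* `R_i = ⟨N_j ^ C_i⟩` : `In.comm_WR`, `In.DR_le`, `In.RC_le`, `In.R_le_N` : `R_i ≤ N(V_i)`; then `Fr.lem0`, `Fr.comp`.
-/

set_option autoImplicit false
set_option linter.unusedSectionVars false

namespace Cfsg.Agent.Omega.TC.OneEnd

open Subgroup Cfsg Cfsg.Agent.ZN Cfsg.Agent.Omega.MinPar
open Cfsg.Agent.Omega.OM.KTwo (CC QQ WU NU EU FF ne_add_one eq_add_one add_one_add_one le_normalizer_V le_V)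
open Cfsg.Agent.Omega.NoFF.Basic (conj_conj mem_conj conj_le_iff conj_le_centralizer comm_symm comm_mono
  Z_le_V V_le conj_V_mul)
open Cfsg.Agent.ZN.ChoiceSit (Syl)
open Cfsg.Agent.MinSimple.VModule (mem_zc zc_le normalizer_le_normalizer_zc le_normalizer_o2 le_o2 o2_le
  o2_isPGroup zc_le_centralizer le_centralizer_zc)
open Cfsg.Agent.Omega.OM.KTwo.StrSp (Pts Tr TDat Frm)
open DOne
open scoped Pointwise

universe u

variable {G : Type u} [Group G] [Finite G] {T : Subgroup G} {V P : Fin 2 → Subgroup G} {v : Fin 2 → G}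

/-- the situation -/
structure In (T : Subgroup G) (V P : Fin 2 → Subgroup G) (v : Fin 2 → G) : Prop where
  fr : Fr T V P v
  comm : ∀ i j, i ≠ j → ∀ x ∈ NU V v j, ∀ e ∈ NU V v i, x * e * x⁻¹ * e⁻¹ ∈ zc T
  ne : ∀ i j, i ≠ j → ¬ NU V v j ≤ centralizer (NU V v i : Set G)
  fix : ∀ i, FixE T v i

namespace In

variable (h : In T V P v)
include h

theorem z_eq {i j : Fin 2} (hij : i ≠ j) : v j * v i = v 0 * v 1 := by
  have h1 : v 0 * v 1 = v 1 * v 0 := (h.fr.comm_v 1 (h.fr.v_mem_T 0))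
  rcases Fin.exists_fin_two.1 ⟨i, rfl⟩ with hi | hi
  · have hj : j = 1 := by rw [hi] at hij; revert hij; revert j; decide
    rw [hi, hj, h1]
  · have hj : j = 0 := by rw [hi] at hij; revert hij; revert j; decide
    rw [hi, hj]

theorem zc_cases {i j : Fin 2} (hij : i ≠ j) {x : G} (hx : x ∈ zc T) : x = 1 ∨ x = v i ∨ x = v j ∨ x = v j * v i := by
  rw [h.z_eq hij]
  rcases (h.fr.zT x).1 hx with hx | hx | hx | hx
  · exact Or.inl hx
  · rcases eq_or_ne i 0 with hi | hi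
    · exact Or.inr (Or.inl (by rw [hx, hi]))
    · have hj : j = 0 := by revert hij hi; revert i j; decide
      exact Or.inr (Or.inr (Or.inl (by rw [hx, hj])))
  · rcases eq_or_ne i 1 with hi | hi
    · exact Or.inr (Or.inl (by rw [hx, hi]))
    · have hj : j = 1 := by revert hij hi; revert i j; decide
      exact Or.inr (Or.inr (Or.inl (by rw [hx, hj])))
  · exact Or.inr (Or.inr (Or.inr hx))

theorem vj_notin {i j : Fin 2} (hij : i ≠ j) : v j ∉ zpowers (v i) := by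
  obtain rfl := eq_add_one hij
  intro h1
  exact h.fr.ne (i + 1) (notin_V h.fr (h.fr.mem (i + 1)) h1)

theorem vji_notin {i j : Fin 2} (hij : i ≠ j) : v j * v i ∉ zpowers (v i) := by
  intro h1
  apply h.vj_notin hij
  have := mul_mem h1 (inv_mem (mem_zpowers (v i)))
  rwa [mul_inv_cancel_right] at this

theorem zc_conj {t z : G} (ht : t ∈ T) (hz : z ∈ zc T) : t * z * t⁻¹ = z := by
  rw [mem_centralizer_iff.1 (le_centralizer_zc T ht) z hz |>.symm, mul_inv_cancel_right]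

theorem commE {i j : Fin 2} (hij : i ≠ j) {x e : G} (hx : x ∈ NU V v j) (he : e ∈ EU T v i) :
    x * e * x⁻¹ * e⁻¹ ∈ zc T := by
  let K : Subgroup G :=
    { carrier := {e | e ∈ T ∧ x * e * x⁻¹ * e⁻¹ ∈ zc T}
      one_mem' := ⟨one_mem _, by simp⟩
      mul_mem' := by
        rintro a b ⟨ha, ha'⟩ ⟨hb, hb'⟩
        refine ⟨mul_mem ha hb, ?_⟩
        have e1 : x * (a * b) * x⁻¹ * (a * b)⁻¹ = x * a * x⁻¹ * a⁻¹ * (a * (x * b * x⁻¹ * b⁻¹) * a⁻¹) := by group
        rw [e1, h.zc_conj ha hb']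
        exact mul_mem ha' hb'
      inv_mem' := by
        rintro a ⟨ha, ha'⟩
        refine ⟨inv_mem ha, ?_⟩
        have e1 : x * a⁻¹ * x⁻¹ * a⁻¹⁻¹ = a⁻¹ * (x * a * x⁻¹ * a⁻¹)⁻¹ * a⁻¹⁻¹ := by group
        rw [e1, h.zc_conj (inv_mem ha) (inv_mem ha')]
        exact inv_mem ha' }
  have h1 : EU T v i ≤ K := by
    refine (h.fr.E_le i).trans (sup_le (fun e he => ⟨h.fr.N_le_T i he, h.comm i j hij x hx e he⟩) ?_)
    rw [zpowers_le]
    refine ⟨h.fr.v_mem_T i, ?_⟩
    have h2 : x * v i = v i * x := mem_centralizer_singleton_iff.1 (h.fr.N_le_C j i hx)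
    rw [h2, mul_inv_cancel_right, mul_inv_cancel]
    exact one_mem _
  exact (h1 he).2

section side

variable {i : Fin 2} {M : Type u} [AddCommGroup M] [DistribMulAction (CC v i) M] {p : G → M}
  (s : Sec (EU T v i) (zpowers (v i)) (CC v i) M p)
include s

theorem dat : OM.PG.DOne.Dat (p (v (i + 1))) (s.im (V (i + 1)) (h.fr.V_le_E i)) (T.subgroupOf (CC v i))
      ((P (i + 1)).subgroupOf (CC v i)) := by
  refine Dat_of' h.fr s ⟨NU V v (i + 1), h.fr.N_le_C (i + 1) i, ?_, h.ne i (i + 1) (ne_add_one i)⟩ (h.fix i)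
  exact comm_symm ((h.fr.W_le_Q (i + 1)).trans (h.fr.Q_le_cent_N (i + 1)))

theorem madd (m : M) : m + m = 0 := s.add_self (fun x hx => by
    rw [← pow_two, h.fr.E_sq i x hx]
    exact one_mem _) m

theorem act_or {x : G} (hx : x ∈ NU V v (i + 1)) (m : M) :
    (⟨x, h.fr.N_le_C (i + 1) i hx⟩ : CC v i) • m = m ∨
      (⟨x, h.fr.N_le_C (i + 1) i hx⟩ : CC v i) • m = m + p (v (i + 1)) := by
  obtain ⟨e, he, rfl⟩ := s.surj m
  rw [act_p h.fr s _ he]
  have h1 := h.commE (ne_add_one i) hx he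
  have h2 : x * e * x⁻¹ = x * e * x⁻¹ * e⁻¹ * e := by group
  have h3 : zc T ≤ EU T v i := le_V _ _
  rw [h2, s.mul _ (h3 h1) _ he]
  rcases p_zc h.fr s h1 with h4 | h4
  · rw [h4, zero_add]
    exact Or.inl rfl
  · rw [h4, add_comm]
    exact Or.inr rfl

theorem exists_mv {x : G} (hx : x ∈ NU V v (i + 1)) (hx' : x ∉ centralizer (NU V v i : Set G)) :
    ∃ m : M, (⟨x, h.fr.N_le_C (i + 1) i hx⟩ : CC v i) • m ≠ m := by
  by_contra hcon
  push Not at hcon
  exact hx' (cent_of_triv h.fr s _ hcon)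

end side

omit h in
theorem exists_mul (D : Fr T V P v) {i : Fin 2} {e : G} (he : e ∈ EU T v i) :
    ∃ n ∈ NU V v i, ∃ y ∈ zpowers (v i), n * y = e := by
  have h1 : e ∈ NU V v i ⊔ zpowers (v i) := D.E_le i he
  have h2 : zpowers (v i) ≤ normalizer (NU V v i : Set G) := by
    rw [zpowers_le]
    exact D.C_le_N_N i (D.T_le_C i (D.v_mem_T i))
  have h3 : e ∈ ((zpowers (v i) ⊔ NU V v i : Subgroup G) : Set G) := by
    rw [sup_comm] at h1
    exact h1
  rw [coe_mul_of_left_le_normalizer_right _ _ h2] at h3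
  obtain ⟨y, hy, n, hn, hyn⟩ := h3
  have hyn : y * n = e := hyn
  refine ⟨n, hn, y, hy, ?_⟩
  rw [← hyn]
  obtain ⟨k, rfl⟩ := mem_zpowers_iff.1 hy
  have h4 : n * v i = v i * n := mem_centralizer_singleton_iff.1 (D.N_le_C i i hn)
  exact (Commute.zpow_right (show Commute n (v i) from h4) k)

/-- (S1) -/
theorem same {i j : Fin 2} (hij : i ≠ j) {x y : G} (hx : x ∈ NU V v j) (hy : y ∈ NU V v j)
    (hx' : x ∉ centralizer (NU V v i : Set G)) (hy' : y ∉ centralizer (NU V v i : Set G)) :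
    x * y⁻¹ ∈ centralizer (NU V v i : Set G) := by
  obtain rfl := eq_add_one hij
  obtain ⟨M, _, _, p, s⟩ := exists_M h.fr i
  have hfin : Finite M := s.finite
  have h1 := (h.dat s).two_eq (h.madd s) (h.act_or s hx) (h.act_or s hy) (h.exists_mv s hx hx') (h.exists_mv s hy hy')
  refine cent_of_triv h.fr s (h.fr.N_le_C (i + 1) i (mul_mem hx (inv_mem hy))) (fun m => ?_)
  have e : (⟨x * y⁻¹, h.fr.N_le_C (i + 1) i (mul_mem hx (inv_mem hy))⟩ : CC v i)
      = ⟨x, h.fr.N_le_C (i + 1) i hx⟩ * (⟨y, h.fr.N_le_C (i + 1) i hy⟩ : CC v i)⁻¹ := Subtype.ext rfl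
  rw [e, mul_smul, h1, smul_inv_smul]

theorem mv {i j : Fin 2} (hij : i ≠ j) {x e : G} (hx : x ∈ NU V v j) (he : e ∈ NU V v i)
    (hx' : x ∉ centralizer (NU V v i : Set G)) (he' : e ∉ centralizer (NU V v j : Set G)) : x * e ≠ e * x := by
  intro h1
  have he0 := he'
  rw [mem_centralizer_iff] at he0
  push Not at he0
  obtain ⟨y, hy, h2⟩ := he0
  have hy' : y ∉ centralizer (NU V v i : Set G) := fun h3 => h2 ((mem_centralizer_iff.1 h3) e he).symm
  have h3 := h.same hij hx hy hx' hy'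
  have h4 := (mem_centralizer_iff.1 h3) e he
  apply h2
  -- `y = (x y⁻¹)⁻¹ x`
  have h5 : y = (x * y⁻¹)⁻¹ * x := by group
  have h6 : Commute (x * y⁻¹) e := h4.symm
  have h7 : Commute x e := h1
  rw [h5]
  exact (h6.inv_left.mul_left h7)

/-- (S2) -/
theorem comm_eq {i j : Fin 2} (hij : i ≠ j) {x e : G} (hx : x ∈ NU V v j) (he : e ∈ NU V v i)
    (hx' : x ∉ centralizer (NU V v i : Set G)) (he' : e ∉ centralizer (NU V v j : Set G)) :
    x * e * x⁻¹ = e * (v j * v i) := by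
  -- a lemma for one side
  have key : ∀ i j : Fin 2, i ≠ j → ∀ x ∈ NU V v j, ∀ e ∈ NU V v i, x ∉ centralizer (NU V v i : Set G) →
      e ∉ centralizer (NU V v j : Set G) → x * e * x⁻¹ * e⁻¹ ∉ zpowers (v i) := by
    intro i j hij x hx e he hx' he' hz
    obtain rfl := eq_add_one hij
    obtain ⟨M, _, _, p, s⟩ := exists_M h.fr i
    refine hx' (cent_of_triv h.fr s (h.fr.N_le_C (i + 1) i hx) (fun m => ?_))
    -- all of `N_i`
    have hall : ∀ n ∈ NU V v i, x * n * x⁻¹ * n⁻¹ ∈ zpowers (v i) := by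
      intro n hn
      by_cases hn' : n ∈ centralizer (NU V v (i + 1) : Set G)
      · have h1 := (mem_centralizer_iff.1 hn') x hx
        rw [h1, mul_inv_cancel_right, mul_inv_cancel]
        exact one_mem _
      · have h1 := h.same hij.symm hn he hn' he'
        have h2 := (mem_centralizer_iff.1 h1) x hx
        -- `x n x⁻¹ = x (n e⁻¹) e x⁻¹ = (n e⁻¹) (x e x⁻¹)`
        have h3 : x * n * x⁻¹ * n⁻¹ = (n * e⁻¹) * (x * e * x⁻¹ * e⁻¹) * (n * e⁻¹)⁻¹ := by
          calc x * n * x⁻¹ * n⁻¹ = x * (n * e⁻¹) * e * x⁻¹ * n⁻¹ := by group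
            _ = (n * e⁻¹) * x * e * x⁻¹ * n⁻¹ := by rw [h2]
            _ = _ := by group
        have h4 : n * e⁻¹ ∈ CC v i := mul_mem (h.fr.N_le_C i i hn) (inv_mem (h.fr.N_le_C i i he))
        rw [h3, cz_comm i h4 hz]
        exact hz
    obtain ⟨e', he', rfl⟩ := s.surj m
    rw [act_p h.fr s _ he', s.eq_iff (conj_E h.fr s (h.fr.N_le_C (i + 1) i hx) he') he']
    -- `e' ∈ N_i ⟨v i⟩`
    have hK : ∀ e' ∈ NU V v i ⊔ zpowers (v i), x * e' * x⁻¹ * e'⁻¹ ∈ zpowers (v i) := by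
      intro e' he'
      rw [h.fr.E_eq i |>.symm] at he'
      -- use the generators
      let K : Subgroup G :=
        { carrier := {a | a ∈ CC v i ∧ x * a * x⁻¹ * a⁻¹ ∈ zpowers (v i)}
          one_mem' := ⟨one_mem _, by simp⟩
          mul_mem' := by
            rintro a b ⟨ha, ha'⟩ ⟨hb, hb'⟩
            refine ⟨mul_mem ha hb, ?_⟩
            have e1 : x * (a * b) * x⁻¹ * (a * b)⁻¹ = x * a * x⁻¹ * a⁻¹ * (a * (x * b * x⁻¹ * b⁻¹) * a⁻¹) := by
              group
            rw [e1, cz_comm i ha hb']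
            exact mul_mem ha' hb'
          inv_mem' := by
            rintro a ⟨ha, ha'⟩
            refine ⟨inv_mem ha, ?_⟩
            have e1 : x * a⁻¹ * x⁻¹ * a⁻¹⁻¹ = a⁻¹ * (x * a * x⁻¹ * a⁻¹)⁻¹ * a⁻¹⁻¹ := by group
            rw [e1, cz_comm i (inv_mem ha) (inv_mem ha')]
            exact inv_mem ha' }
      have h1 : EU T v i ≤ K := by
        refine (h.fr.E_le i).trans (sup_le (fun e he => ⟨h.fr.N_le_C i i he, hall e he⟩) ?_)
        rw [zpowers_le]
        refine ⟨h.fr.T_le_C i (h.fr.v_mem_T i), ?_⟩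
        have h2 : x * v i = v i * x := mem_centralizer_singleton_iff.1 (h.fr.N_le_C (i + 1) i hx)
        rw [h2, mul_inv_cancel_right, mul_inv_cancel]
        exact one_mem _
      exact (h1 he').2
    exact hK e' (h.fr.E_le i he')
  have h1 := h.comm i j hij x hx e he
  have h2 := key i j hij x hx e he hx' he'
  have h3 := key j i hij.symm e he x hx he' hx'
  have h4 : x * e * x⁻¹ * e⁻¹ = v j * v i := by
    rcases h.zc_cases hij h1 with h5 | h5 | h5 | h5
    · exact absurd (mul_inv_eq_iff_eq_mul.1 (mul_inv_eq_one.1 h5)) (h.mv hij hx he hx' he')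
    · exact absurd (h5 ▸ mem_zpowers (v i)) h2
    · exfalso
      apply h3
      have h6 : e * x * e⁻¹ * x⁻¹ = (x * e * x⁻¹ * e⁻¹)⁻¹ := by group
      rw [h6, h5]
      exact inv_mem (mem_zpowers _)
    · exact h5
  have h5 : x * e * x⁻¹ = v j * v i * e := mul_inv_eq_iff_eq_mul.1 h4
  have h6 : e * (v j * v i) = v j * v i * e := by
    have k1 : e * v j = v j * e := mem_centralizer_singleton_iff.1 (h.fr.N_le_C i j he)
    have k2 : e * v i = v i * e := mem_centralizer_singleton_iff.1 (h.fr.N_le_C i i he)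
    rw [← mul_assoc, k1, mul_assoc, k2, mul_assoc]
  rw [h5, h6]

theorem tr_of {i j : Fin 2} (hij : i ≠ j) {x : G} (hx : x ∈ NU V v j) (hx' : x ∉ centralizer (NU V v i : Set G)) :
    Tr (CC v i) (NU V v i) (v i) (v j) x := by
  refine ⟨h.fr.N_le_C j i hx, fun n hn => ?_, ?_⟩
  · by_cases hn' : n ∈ centralizer (NU V v j : Set G)
    · left
      rw [(mem_centralizer_iff.1 hn') x hx, mul_inv_cancel_right]
    · exact Or.inr (h.comm_eq hij hx hn hx' hn')
  · rw [mem_centralizer_iff] at hx'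
    push Not at hx'
    obtain ⟨n, hn, hne⟩ := hx'
    exact ⟨n, hn, fun h1 => hne (mul_inv_eq_iff_eq_mul.1 h1).symm⟩

theorem exists_out {i j : Fin 2} (hij : i ≠ j) : ∃ x ∈ NU V v j, x ∉ centralizer (NU V v i : Set G) := by
  have := h.ne i j hij
  rw [SetLike.not_le_iff_exists] at this
  exact this

theorem act_tr {i : Fin 2} {M : Type u} [AddCommGroup M] [DistribMulAction (CC v i) M] {p : G → M}
    (s : Sec (EU T v i) (zpowers (v i)) (CC v i) M p) {t : G} (ht : Tr (CC v i) (NU V v i) (v i) (v (i + 1)) t) :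
    (∀ m : M, (⟨t, ht.1⟩ : CC v i) • m = m ∨ (⟨t, ht.1⟩ : CC v i) • m = m + p (v (i + 1))) ∧
      ∃ m : M, (⟨t, ht.1⟩ : CC v i) • m ≠ m := by
  have hz : p (v (i + 1) * v i) = p (v (i + 1)) := by
    rw [s.mul _ (h.fr.v_mem_E i _) _ (h.fr.v_mem_E i _), p_vi h.fr s, add_zero]
  have key : ∀ n ∈ NU V v i, (⟨t, ht.1⟩ : CC v i) • p n = p n ∨ (⟨t, ht.1⟩ : CC v i) • p n = p n + p (v (i + 1)) := by
    intro n hn
    have hnE := h.fr.N_le_E i hn
    rw [act_p h.fr s _ hnE]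
    rcases ht.2.1 n hn with h1 | h1
    · rw [h1]
      exact Or.inl rfl
    · rw [h1, s.mul _ hnE _ (mul_mem (h.fr.v_mem_E i _) (h.fr.v_mem_E i _)), hz]
      exact Or.inr rfl
  constructor
  · intro m
    obtain ⟨e, he, rfl⟩ := s.surj m
    obtain ⟨n, hn, y, hy, rfl⟩ := exists_mul h.fr he
    have hnE := h.fr.N_le_E i hn
    have hyE : y ∈ EU T v i := (zpowers_le.2 (h.fr.v_mem_E i i)) hy
    have hpy : p y = 0 := (s.ker _ hyE).2 hy
    rw [s.mul _ hnE _ hyE, hpy, add_zero]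
    exact key n hn
  · obtain ⟨n, hn, hne⟩ := ht.2.2
    refine ⟨p n, ?_⟩
    have hnE := h.fr.N_le_E i hn
    rcases ht.2.1 n hn with h1 | h1
    · exact absurd h1 hne
    · rw [act_p h.fr s _ hnE, h1, s.mul _ hnE _ (mul_mem (h.fr.v_mem_E i _) (h.fr.v_mem_E i _)), hz]
      intro h2
      exact p_vj h.fr s (by simpa using h2)

/-- (S3) the data of `StrSp` for `N_i` -/
theorem tdat {i j : Fin 2} (hij : i ≠ j) : ∃ a ∈ V j, a ≠ 1 ∧ a ≠ v j ∧
    TDat (CC v i) (centralizer (zc T : Set G)) (P j) T (NU V v i) (v i) (v i) (v j) a := by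
  have hij0 := hij
  obtain rfl := eq_add_one hij
  obtain ⟨a, haV, ha1, hav⟩ := h.fr.exists_ne_v (i + 1)
  have hcomm : v (i + 1) * a = a * v (i + 1) := h.fr.V_comm (h.fr.mem _) haV
  have hpts : ∀ x ∈ V (i + 1), x ≠ 1 → x ∈ Pts (CC v i) (v (i + 1)) := by
    intro x hx hx1
    obtain ⟨l, hl, -, hlx⟩ := h.fr.tr hij0.symm hx hx1
    exact ⟨l, h.fr.PC (i + 1) i hij0.symm hl, hlx.symm⟩
  have hva : v (i + 1) * a ≠ 1 := by
    intro h1
    apply hav
    have h2 : v (i + 1) * a = v (i + 1) * v (i + 1) := by rw [h1, h.fr.v_sq]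
    exact mul_left_cancel h2
  obtain ⟨M, _, _, p, s⟩ := exists_M h.fr i
  have hfin : Finite M := s.finite
  have d := h.dat s
  have hzne : v (i + 1) * v i ∉ zpowers (v i) := h.vji_notin hij0
  refine ⟨a, haV, ha1, hav, ⟨⟨?_, ?_, h.fr.C_le_N_N i, ?_, h.fr.mem_N i, ?_, Or.inr rfl, ?_, h.fr.PC (i + 1) i hij0.symm,
    ?_, ?_, hpts a haV ha1, hpts _ (mul_mem (h.fr.mem _) haV) hva, hav, ?_, h.fr.T_le_D,
    ChoiceSit.syl_not_dvd (h.fr.syl i), ?_⟩, ?_⟩, ?_⟩
  · intro n hn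
    rw [← pow_two]
    exact h.fr.N_sq i n hn
  · intro n hn m hm
    exact (mem_centralizer_iff.1 (h.fr.N_comm i hm) n hn)
  · -- gen
    refine V_le fun c hc => ?_
    intro x hx
    rw [mem_conj] at hx
    by_cases hx1 : c⁻¹ * x * c = 1
    · have e : x = c * (c⁻¹ * x * c) * c⁻¹ := by group
      rw [e, hx1, mul_one, mul_inv_cancel]
      exact one_mem _
    · obtain ⟨l, hl, h1⟩ := hpts _ hx hx1
      refine subset_closure ⟨c * l, mul_mem hc hl, ?_⟩
      have e : x = c * (c⁻¹ * x * c) * c⁻¹ := by group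
      rw [e, h1]
      group
  · intro c hc
    exact mem_centralizer_singleton_iff.1 hc
  · intro d
    rw [h.fr.mem_D_iff hij0]
    exact and_congr_right fun _ => mem_centralizer_singleton_iff
  · exact (h.fr.gen hij0.symm).trans (sup_comm _ _).le
  · -- ML
    intro m hm
    have h1 : m * v (i + 1) * m⁻¹ ∈ V (i + 1) := (mem_normalizer_iff.1 (h.fr.PN (i + 1) (i + 1) hm) _).1 (h.fr.mem _)
    have h2 : m * v (i + 1) * m⁻¹ ≠ 1 := fun h3 => h.fr.ne _ (conj_eq_one_iff.1 h3)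
    exact h.fr.eq_of_V (h.fr.mem _) (h.fr.ne _) haV ha1 hav.symm h1 h2
  · -- tau
    obtain ⟨t, ht, h1⟩ := h.fr.exists_swap haV ha1 hav
    exact ⟨t, h.fr.T_le_D ht, by rw [h1, hcomm]⟩
  · -- tr
    obtain ⟨x, hx, hx'⟩ := h.exists_out hij0
    exact ⟨x, h.tr_of hij0 hx hx'⟩
  · -- uniq
    intro t t' ht ht' n hn
    have h1 := h.act_tr s ht
    have h2 := h.act_tr s ht'
    have hnE := h.fr.N_le_E i hn
    have h3 := d.two_eq (h.madd s) h1.1 h2.1 h1.2 h2.2 (p n)
    rw [act_p h.fr s _ hnE, act_p h.fr s _ hnE, s.eq_iff (conj_E h.fr s ht.1 hnE) (conj_E h.fr s ht'.1 hnE)] at h3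
    rcases ht.2.1 n hn with h4 | h4 <;> rcases ht'.2.1 n hn with h5 | h5
    · rw [h4, h5]
    · exfalso
      rw [h4, h5] at h3
      have e : n * (n * (v (i + 1) * v i))⁻¹ = n * (v (i + 1) * v i)⁻¹ * n⁻¹ := by group
      rw [e] at h3
      have h6 := cz_comm i (inv_mem (h.fr.N_le_C i i hn)) h3
      have e2 : n⁻¹ * (n * (v (i + 1) * v i)⁻¹ * n⁻¹) * n⁻¹⁻¹ = (v (i + 1) * v i)⁻¹ := by group
      rw [e2] at h6
      rw [← h6] at h3
      have := inv_mem h3
      rw [inv_inv] at this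
      exact hzne this
    · exfalso
      rw [h4, h5] at h3
      have h6 := cz_comm i (inv_mem (h.fr.N_le_C i i hn)) h3
      have e2 : n⁻¹ * (n * (v (i + 1) * v i) * n⁻¹) * n⁻¹⁻¹ = v (i + 1) * v i := by group
      rw [e2] at h6
      rw [← h6] at h3
      exact hzne h3
    · rw [h4, h5]
  · -- ti
    intro t ht
    have haE := h.fr.V_le_E i haV
    have haN := h.fr.V_le_N i haV
    have h1 := h.act_tr s ht
    have h2 : (⟨t, ht.1⟩ : CC v i) • p a = p a := by
      let _ : Module (ZMod 2) M := AddCommGroup.zmodModule (n := 2) (fun m => by rw [two_nsmul, h.madd s])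
      obtain ⟨φ, k1, k2⟩ := OM.PG.DOne.exists_fun d.v0 h1.1
      rw [k2, (d.pV ⟨a, haV, rfl⟩) φ ⟨k1, _, k2⟩, zero_smul, add_zero]
    rcases ht.2.1 a haN with h3 | h3
    · exact h3
    · exfalso
      rw [act_p h.fr s _ haE, h3, s.mul _ haE _ (mul_mem (h.fr.v_mem_E i _) (h.fr.v_mem_E i _)),
        s.mul _ (h.fr.v_mem_E i _) _ (h.fr.v_mem_E i _), p_vi h.fr s, add_zero] at h2
      exact p_vj h.fr s (by simpa using h2)

/-! ### The forms on `N_i` -/

omit h in
/-- the form on `N_i`, `a ∈ V_j ∖ ⟨v_j⟩` -/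
structure Side (T : Subgroup G) (V P : Fin 2 → Subgroup G) (v : Fin 2 → G) (i j : Fin 2) (a : G)
    (B : G → G → ℤˣ) : Prop where
  mem : a ∈ V j
  ne1 : a ≠ 1
  nev : a ≠ v j
  d : TDat (CC v i) (centralizer (zc T : Set G)) (P j) T (NU V v i) (v i) (v i) (v j) a
  F : Frm (CC v i) (NU V v i) (v i) (v j) B

theorem exists_side {i j : Fin 2} (hij : i ≠ j) : ∃ a B, Side T V P v i j a B := by
  obtain ⟨a, haV, ha1, hav, d⟩ := h.tdat hij
  obtain ⟨B, F⟩ := d.exists_frm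
  exact ⟨a, B, haV, ha1, hav, d, F⟩

theorem V_cases {j : Fin 2} {a x : G} (ha : a ∈ V j) (ha1 : a ≠ 1) (hav : a ≠ v j) (hx : x ∈ V j) :
    x = 1 ∨ x = v j ∨ x = a ∨ x = v j * a := by
  by_cases hx1 : x = 1
  · exact Or.inl hx1
  · exact Or.inr (h.fr.eq_of_V (h.fr.mem j) (h.fr.ne j) ha ha1 hav.symm hx hx1)

/-- `V_j ≤ v_j^⊥` -/
theorem B_V {i j : Fin 2} {a : G} {B : G → G → ℤˣ} (S : Side T V P v i j a B) {x : G} (hx : x ∈ V j) :
    B (v j) x = 1 := by
  have hv := S.d.x_mem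
  have ha := S.d.pt_mem S.d.a_pt
  have hBa := S.d.B_xa S.F
  rcases h.V_cases S.mem S.ne1 S.nev hx with h1 | h1 | h1 | h1
  · rw [h1]; exact S.d.one_r S.F hv
  · rw [h1]; exact S.F.self _ hv
  · rw [h1]; exact hBa
  · rw [h1, S.F.mul _ hv _ hv _ ha, S.F.self _ hv, hBa, one_mul]

/-- `v_i^⊥ ≤ W_i` -/
theorem perp_le {i j : Fin 2} (hij : i ≠ j) {a : G} {B : G → G → ℤˣ} (S : Side T V P v j i a B) {u : G}
    (hu : u ∈ NU V v j) (h1 : B (v i) u = 1) : u ∈ WU V v i := by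
  have hji := hij.symm
  set E : Subgroup G := NoFF.Basic.V (V i) (centralizer (zc T : Set G)) with hE
  have hEW : E ≤ WU V v i := V_le fun c hc => Z_le_V (h.fr.cent_zc_le i hc)
  refine hEW (S.d.perp_le_E S.F (E := E) ?_ ?_ ?_ ?_ hu h1)
  · exact le_V _ _ (h.fr.mem i)
  · exact le_V _ _ S.mem
  · -- `E ≤ v_i^⊥`
    let K : Subgroup G :=
      { carrier := {b | b ∈ NU V v j ∧ B (v i) b = 1}
        one_mem' := ⟨one_mem _, S.d.one_r S.F S.d.x_mem⟩
        mul_mem' := by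
          rintro x y ⟨hx, hx'⟩ ⟨hy, hy'⟩
          exact ⟨mul_mem hx hy, by rw [S.F.mul _ S.d.x_mem _ hx _ hy, hx', hy', one_mul]⟩
        inv_mem' := by
          rintro x ⟨hx, hx'⟩
          change x⁻¹ ∈ NU V v j ∧ B (v i) x⁻¹ = 1
          rw [S.d.inv_eq hx]
          exact ⟨hx, hx'⟩ }
    have hEK : E ≤ K := by
      refine V_le fun c hc x hx => ?_
      rw [mem_conj] at hx
      have hxN : c⁻¹ * x * c ∈ NU V v j := by
        have h2 : V i ≤ NU V v j := by
          have := h.fr.V_le_N j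
          rwa [← eq_add_one hji] at this
        exact h2 hx
      have h2 := S.d.D_B S.F hc hxN
      have e : c * (c⁻¹ * x * c) * c⁻¹ = x := by group
      rw [e, h.B_V S hx] at h2
      refine ⟨?_, h2⟩
      rw [← e]
      exact S.d.conj_N (S.d.D_C S.F hc) hxN
    exact fun b hb => hEK hb
  · intro t ht b hb
    exact (mem_normalizer_iff.1 (le_normalizer_V (V i) (centralizer (zc T : Set G)) ht) b).1 hb

/-- `N_i ∩ N_j ≤ Ω₁Z(T)` -/
theorem inter {i j : Fin 2} (hij : i ≠ j) {x : G} (hx : x ∈ NU V v i) (hx' : x ∈ NU V v j) : x ∈ zc T := by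
  obtain ⟨a, B, S⟩ := h.exists_side hij.symm
  obtain ⟨a', B', S'⟩ := h.exists_side hij
  have hfix : ∀ b ∈ NU V v i ⊓ NU V v j, b ∈ NU V v j ∧ B (v i) b = 1 := by
    rintro b ⟨hb, hb'⟩
    refine ⟨hb', ?_⟩
    obtain ⟨t, ht, ht'⟩ := h.exists_out hij.symm
    have htr := h.tr_of hij.symm ht ht'
    refine (S.F.tv _ S.d.x_pt t htr b hb').2 ?_
    have h1 : b * t = t * b := (mem_centralizer_iff.1 (h.fr.N_comm i hb) t ht).symm
    rw [← h1, mul_inv_cancel_right]
  have hinv : ∀ t ∈ centralizer (zc T : Set G), ∀ b ∈ NU V v i ⊓ NU V v j, t * b * t⁻¹ ∈ NU V v i ⊓ NU V v j := by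
    rintro t ht b ⟨hb, hb'⟩
    exact ⟨(mem_normalizer_iff.1 (h.fr.C_le_N_N i (h.fr.cent_zc_le i ht)) b).1 hb,
      (mem_normalizer_iff.1 (h.fr.C_le_N_N j (h.fr.cent_zc_le j ht)) b).1 hb'⟩
  rcases S.d.eq_perp S.F (A := NU V v i ⊓ NU V v j) ⟨S'.d.x_mem, S.d.e_mem⟩ ⟨S'.d.e_mem, S.d.x_mem⟩ hfix hinv with
    h1 | h1
  · rcases h1 x ⟨hx, hx'⟩ with h2 | h2 | h2 | h2
    · rw [h2]; exact one_mem _
    · rw [h2]; exact h.fr.v_mem_zc _
    · rw [h2]; exact h.fr.v_mem_zc _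
    · rw [h2]; exact mul_mem (h.fr.v_mem_zc _) (h.fr.v_mem_zc _)
  · exfalso
    have haN : a ∈ NU V v i := (h1 a (S.d.pt_mem S.d.a_pt) (S.d.B_xa S.F)).1
    obtain ⟨t, ht, hta⟩ := h.fr.exists_swap S.mem S.ne1 S.nev
    have h2 := S'.d.fix_T S'.F haN (fun t ht => by
      have h3 := h.fr.comm_VQ i S.mem ht
      have h4 : t * a * t⁻¹ ∈ V i := (mem_normalizer_iff.1 (h.fr.T_le_N i ht) _).1 S.mem
      rcases h.V_cases S.mem S.ne1 S.nev h4 with h5 | h5 | h5 | h5
      · exact absurd (conj_eq_one_iff.1 h5) S.ne1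
      · exfalso
        apply S.nev
        have h6 := h.fr.cen i (inv_mem ht)
        rw [← h5, inv_inv] at h6
        have e : t⁻¹ * (t * a * t⁻¹) * t = a := by group
        rw [e] at h6
        rw [h6, h5]
      · exact Or.inl h5
      · right
        rw [h5, h.fr.V_comm (h.fr.mem i) S.mem])
    have h3 : a ∈ zc T := by
      rcases S'.d.mem_XX.1 h2 with h2 | h2 | h2 | h2
      · rw [h2]; exact one_mem _
      · rw [h2]; exact h.fr.v_mem_zc _
      · rw [h2]; exact h.fr.v_mem_zc _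
      · rw [h2]; exact mul_mem (h.fr.v_mem_zc _) (h.fr.v_mem_zc _)
    rw [h.zc_conj ht h3] at hta
    exact h.fr.ne i (mul_eq_left.1 hta.symm)

/-- (5) `[W_i, N_j] ≤ ⟨v_0 v_1⟩` -/
theorem comm_WN {i j : Fin 2} (hij : i ≠ j) {w n : G} (hw : w ∈ WU V v i) (hn : n ∈ NU V v j) :
    w * n * w⁻¹ = n ∨ w * n * w⁻¹ = n * (v i * v j) := by
  obtain ⟨a, B, S⟩ := h.exists_side hij.symm
  have h1 := S.d.hyper S.F (h.fr.W_le_C i j hw) (fun n hn h1 => by
    have h2 := (mem_centralizer_iff.1 (h.fr.W_comm i hw) n (h.perp_le hij S hn h1))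
    rw [← h2, mul_inv_cancel_right])
  rcases h1 with h1 | h1
  · exact Or.inl (h1 n hn)
  · rcases Int.units_eq_one_or (B (v i) n) with h2 | h2
    · left
      have h3 := (mem_centralizer_iff.1 (h.fr.W_comm i hw) n (h.perp_le hij S hn h2))
      rw [← h3, mul_inv_cancel_right]
    · exact Or.inr (h1 n hn h2)

/-- `R_i = ⟨N_j ^ C_i⟩`, `[W_i, R_i] ≤ N_i` -/
theorem comm_WR {i j : Fin 2} (hij : i ≠ j) {w r : G} (hw : w ∈ WU V v i)
    (hr : r ∈ NoFF.Basic.V (NU V v j) (CC v i)) : w * r * w⁻¹ * r⁻¹ ∈ NU V v i := by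
  obtain ⟨a', B', S'⟩ := h.exists_side hij
  have hCN : ∀ c ∈ CC v i, ∀ x ∈ NU V v i, c * x * c⁻¹ ∈ NU V v i := fun c hc x hx =>
    (mem_normalizer_iff.1 (h.fr.C_le_N_N i hc) x).1 hx
  have hCW : ∀ c ∈ CC v i, ∀ x ∈ WU V v i, c⁻¹ * x * c ∈ WU V v i := fun c hc x hx =>
    (mem_normalizer_iff''.1 (h.fr.C_le_N_W i hc) x).1 hx
  let K : Subgroup G :=
    { carrier := {r | r ∈ CC v i ∧ ∀ w ∈ WU V v i, w * r * w⁻¹ * r⁻¹ ∈ NU V v i}
      one_mem' := ⟨one_mem _, fun w _ => by simp⟩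
      mul_mem' := by
        rintro x y ⟨hx, hx'⟩ ⟨hy, hy'⟩
        refine ⟨mul_mem hx hy, fun w hw => ?_⟩
        have e : w * (x * y) * w⁻¹ * (x * y)⁻¹ = w * x * w⁻¹ * x⁻¹ * (x * (w * y * w⁻¹ * y⁻¹) * x⁻¹) := by group
        rw [e]
        exact mul_mem (hx' w hw) (hCN x hx _ (hy' w hw))
      inv_mem' := by
        rintro x ⟨hx, hx'⟩
        refine ⟨inv_mem hx, fun w hw => ?_⟩
        have e2 : w * x⁻¹ * w⁻¹ * x⁻¹⁻¹ = (w * x⁻¹) * (w⁻¹ * x * w⁻¹⁻¹ * x⁻¹) * (w * x⁻¹)⁻¹ := by group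
        rw [e2]
        exact hCN _ (mul_mem (h.fr.W_le_C i i hw) (inv_mem hx)) _ (hx' _ (inv_mem hw)) }
  have hRK : NoFF.Basic.V (NU V v j) (CC v i) ≤ K := by
    refine V_le fun c hc x hx => ?_
    rw [mem_conj] at hx
    have hxC : x ∈ CC v i := by
      have h1 := mul_mem (mul_mem hc (h.fr.N_le_C j i hx)) (inv_mem hc)
      have e : c * (c⁻¹ * x * c) * c⁻¹ = x := by group
      rwa [e] at h1
    refine ⟨hxC, fun w hw => ?_⟩
    have h1 := h.comm_WN hij (hCW c hc w hw) hx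
    have h2 : c⁻¹ * (w * x * w⁻¹ * x⁻¹) * c ∈ NU V v i := by
      have e : c⁻¹ * (w * x * w⁻¹ * x⁻¹) * c = (c⁻¹ * w * c) * (c⁻¹ * x * c) * (c⁻¹ * w * c)⁻¹ * (c⁻¹ * x * c)⁻¹ := by
        group
      rw [e]
      rcases h1 with h1 | h1
      · rw [h1, mul_inv_cancel]; exact one_mem _
      · rw [h1]
        -- `n (v_i v_j) n⁻¹ = v_i v_j`
        have hz : v i * v j ∈ zc T := mul_mem (h.fr.v_mem_zc _) (h.fr.v_mem_zc _)
        rw [h.zc_conj (h.fr.N_le_T j hx) hz]
        exact mul_mem S'.d.e_mem S'.d.x_mem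
    have h3 := hCN c hc _ h2
    have e : c * (c⁻¹ * (w * x * w⁻¹ * x⁻¹) * c) * c⁻¹ = w * x * w⁻¹ * x⁻¹ := by group
    rwa [e] at h3
  exact (hRK hr).2 w hw

theorem R_le {i j : Fin 2} : NoFF.Basic.V (NU V v j) (CC v i) ≤ CC v i := by
  refine V_le fun c hc x hx => ?_
  rw [mem_conj] at hx
  have h1 := mul_mem (mul_mem hc (h.fr.N_le_C j i hx)) (inv_mem hc)
  have e : c * (c⁻¹ * x * c) * c⁻¹ = x := by group
  rwa [e] at h1

/-- (6) `D ∩ R_i ≤ N(V_i)` -/
theorem DR_le {i j : Fin 2} (hij : i ≠ j) {d : G} (hd : d ∈ centralizer (zc T : Set G))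
    (hr : d ∈ NoFF.Basic.V (NU V v j) (CC v i)) : d ∈ normalizer (V i : Set G) := by
  obtain ⟨a, B, S⟩ := h.exists_side hij.symm
  have hdi : d ∈ CC v i := h.fr.cent_zc_le i hd
  have hdj : d ∈ CC v j := h.fr.cent_zc_le j hd
  have hdv : d * v i * d⁻¹ = v i := by
    rw [mem_centralizer_singleton_iff.1 hdi, mul_inv_cancel_right]
  have hVN : V i ≤ NU V v j := by
    have := h.fr.V_le_N j
    rwa [← eq_add_one hij.symm] at this
  have haN := hVN S.mem
  have haa : a * a = 1 := S.d.sq a haN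
  have key : d * a * d⁻¹ = a ∨ d * a * d⁻¹ = a * v i := by
    have h1 : a * (d * a * d⁻¹) ∈ NU V v i := by
      have h2 := h.comm_WR hij (h.fr.V_le_W i S.mem) hr
      rwa [S.d.inv_eq haN, mul_assoc (a * d), mul_assoc a, ← mul_assoc d] at h2
    have h2 : d * a * d⁻¹ ∈ NU V v j := S.d.conj_N hdj haN
    have h3 := h.inter hij h1 (mul_mem haN h2)
    have h4 : d * a * d⁻¹ = a * (a * (d * a * d⁻¹)) := by rw [← mul_assoc, haa, one_mul]
    have hpt : ∀ y ∈ Pts (CC v j) (v i), y * v j ∉ Pts (CC v j) (v i) := fun y hy =>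
      S.d.not_both S.F (h.fr.ne j) hy
    have h5 : d * a * d⁻¹ ∈ Pts (CC v j) (v i) := S.d.conj_pt S.d.a_pt hdj
    rcases h.zc_cases hij h3 with h6 | h6 | h6 | h6
    · left; rw [h6, mul_one] at h4; exact h4
    · right; rw [h6] at h4; exact h4
    · exfalso
      rw [h6] at h4
      rw [h4] at h5
      exact hpt a S.d.a_pt h5
    · exfalso
      rw [h6] at h4
      rw [h4] at h5
      have e : a * (v j * v i) = v i * a * v j := by
        have e1 : v j * v i = v i * v j := (h.fr.comm_v i (h.fr.v_mem_T j))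
        rw [e1, ← mul_assoc, S.d.comm a haN _ S.d.x_mem]
      rw [e] at h5
      exact hpt _ S.d.xa_pt h5
  refine mem_normalizer_fintype fun x hx => ?_
  rcases h.V_cases S.mem S.ne1 S.nev hx with h1 | h1 | h1 | h1
  · rw [h1, mul_one, mul_inv_cancel]; exact one_mem _
  · rw [h1, hdv]; exact h.fr.mem i
  · rw [h1]
    rcases key with h2 | h2
    · rw [h2]; exact S.mem
    · rw [h2]; exact mul_mem S.mem (h.fr.mem i)
  · have e : d * (v i * a) * d⁻¹ = d * v i * d⁻¹ * (d * a * d⁻¹) := by group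
    rw [h1, e, hdv]
    rcases key with h2 | h2
    · rw [h2]; exact mul_mem (h.fr.mem i) S.mem
    · rw [h2]; exact mul_mem (h.fr.mem i) (mul_mem S.mem (h.fr.mem i))

/-- `C_{R_i}(x) ≤ N(V_i)` for `x ∈ V_j#` -/
theorem RC_le {i j : Fin 2} (hij : i ≠ j) {x r : G} (hx : x ∈ V j) (hx1 : x ≠ 1)
    (hr : r ∈ NoFF.Basic.V (NU V v j) (CC v i)) (hrx : r * x = x * r) : r ∈ normalizer (V i : Set G) := by
  obtain ⟨l, hl, -, hlx⟩ := h.fr.tr hij.symm hx hx1
  have hlC : l ∈ CC v i := h.fr.PC j i hij.symm hl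
  have hlN : l ∈ normalizer (V i : Set G) := h.fr.PN j i hl
  have h1 : l⁻¹ * r * l ∈ NoFF.Basic.V (NU V v j) (CC v i) :=
    (mem_normalizer_iff''.1 (le_normalizer_V _ _ hlC) r).1 hr
  have h2 : l⁻¹ * r * l ∈ centralizer (zc T : Set G) := by
    refine (h.fr.mem_D_iff hij).2 ⟨h.R_le h1, ?_⟩
    rw [mem_centralizer_singleton_iff]
    have e : v j = l⁻¹ * x * l := by rw [← hlx]; group
    rw [e]
    calc l⁻¹ * r * l * (l⁻¹ * x * l) = l⁻¹ * (r * x) * l := by group
      _ = l⁻¹ * (x * r) * l := by rw [hrx]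
      _ = _ := by group
  have h3 := h.DR_le hij h2 h1
  have e : r = l * (l⁻¹ * r * l) * l⁻¹ := by group
  rw [e]
  exact mul_mem (mul_mem hlN h3) (inv_mem hlN)

/-- `R_i ≤ N(V_i)` -/
theorem R_le_N {i j : Fin 2} (hij : i ≠ j) : NoFF.Basic.V (NU V v j) (CC v i) ≤ normalizer (V i : Set G) := by
  obtain ⟨a, B, S⟩ := h.exists_side hij
  have hVN : V j ≤ NU V v i := by
    have := h.fr.V_le_N i
    rwa [← eq_add_one hij] at this
  refine V_le fun c hc y hy => ?_
  have hyR : y ∈ NoFF.Basic.V (NU V v j) (CC v i) := Z_le_V hc hy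
  rw [mem_conj] at hy
  have haN := hVN S.mem
  have hvN := S.d.x_mem
  -- an element `x ∈ V_j#` centralised by `y`
  obtain ⟨x, hx, hx1, hyx⟩ : ∃ x ∈ V j, x ≠ 1 ∧ y * x = x * y := by
    by_cases hcen : c⁻¹ * y * c ∈ centralizer (NU V v i : Set G)
    · refine ⟨v j, h.fr.mem j, h.fr.ne j, ?_⟩
      have h1 := mem_centralizer_iff.1 hcen _ (S.d.conj_N' hc hvN)
      calc y * v j = c * (c⁻¹ * y * c * (c⁻¹ * v j * c)) * c⁻¹ := by group
        _ = c * (c⁻¹ * v j * c * (c⁻¹ * y * c)) * c⁻¹ := by rw [← h1]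
        _ = v j * y := by group
    · have htr := S.d.conj_tr (h.tr_of hij hy hcen) hc
      have e : c * (c⁻¹ * y * c) * c⁻¹ = y := by group
      rw [e] at htr
      have hp : c * v j * c⁻¹ ∈ Pts (CC v i) (v j) := ⟨c, hc, rfl⟩
      have hfix : ∀ x ∈ V j, B (c * v j * c⁻¹) x = 1 → y * x = x * y := by
        intro x hx h1
        have h2 := (S.F.tv _ hp _ htr x (hVN hx)).1 h1
        calc y * x = y * x * y⁻¹ * y := by group
          _ = x * y := by rw [h2]
      have hpN := S.d.pt_mem hp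
      rcases Int.units_eq_one_or (B (c * v j * c⁻¹) (v j)) with h1 | h1
      · exact ⟨v j, h.fr.mem j, h.fr.ne j, hfix _ (h.fr.mem j) h1⟩
      · rcases Int.units_eq_one_or (B (c * v j * c⁻¹) a) with h2 | h2
        · exact ⟨a, S.mem, S.ne1, hfix _ S.mem h2⟩
        · refine ⟨v j * a, mul_mem (h.fr.mem j) S.mem, fun h3 => S.nev ?_, hfix _ (mul_mem (h.fr.mem j) S.mem) ?_⟩
          · have h4 : v j * a = v j * v j := by rw [h3, h.fr.v_sq]
            exact mul_left_cancel h4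
          · rw [S.F.mul _ hpN _ hvN _ haN, h1, h2]; decide
  exact h.RC_le hij hx hx1 hyR hyx

/-- **THEOREM (R6 #20647 (4))** -/
theorem false : False := by
  have hij : (0 : Fin 2) ≠ 1 := by decide
  refine h.fr.comp 0 fun c hc => ?_
  have hR : NU V v 1 ≤ NoFF.Basic.V (NU V v 1) (CC v 0) := le_V _ _
  obtain ⟨x, hx, d, hd, e⟩ := h.fr.lem0 (X := NoFF.Basic.V (NU V v 1) (CC v 0)) h.R_le (le_normalizer_V _ _)
    (fun h1 => h.ne 0 1 hij (hR.trans h1)) c⁻¹ (inv_mem hc)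
  refine ⟨d⁻¹, inv_mem hd, x⁻¹, inv_mem (h.R_le_N hij hx), ?_⟩
  have e2 : c = (c⁻¹)⁻¹ := by group
  rw [e2, e]
  group

end In

/-- **[N_0, N_1] ≤ Ω₁Z(T), [N_0, N_1] ≠ 1** under LEMMA FIX -/
theorem false_of (D : Fr T V P v) (h01 : ∀ x ∈ NU V v 1, ∀ e ∈ NU V v 0, x * e * x⁻¹ * e⁻¹ ∈ zc T)
    (hne : ¬ NU V v 0 ≤ centralizer (NU V v 1 : Set G)) (hfix : ∀ i, FixE T v i) : False := by
  have h10 : ∀ x ∈ NU V v 0, ∀ e ∈ NU V v 1, x * e * x⁻¹ * e⁻¹ ∈ zc T := by
    intro x hx e he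
    have e1 : x * e * x⁻¹ * e⁻¹ = (e * x * e⁻¹ * x⁻¹)⁻¹ := by group
    rw [e1]
    exact inv_mem (h01 e he x hx)
  refine In.false (T := T) (V := V) (P := P) (v := v) ⟨D, ?_, ?_, hfix⟩
  · intro i j hij
    rcases Fin.exists_fin_two.1 ⟨i, rfl⟩ with hi | hi
    · have hj : j = 1 := by rw [hi] at hij; revert hij; revert j; decide
      rw [hi, hj]; exact h01
    · have hj : j = 0 := by rw [hi] at hij; revert hij; revert j; decide
      rw [hi, hj]; exact h10
  · intro i j hij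
    rcases Fin.exists_fin_two.1 ⟨i, rfl⟩ with hi | hi
    · have hj : j = 1 := by rw [hi] at hij; revert hij; revert j; decide
      rw [hi, hj]
      exact fun h1 => hne (comm_symm h1)
    · have hj : j = 0 := by rw [hi] at hij; revert hij; revert j; decide
      rw [hi, hj]; exact hne

end Cfsg.Agent.Omega.TC.OneEnd
end

-- part: Mrg/Omega/IId/MatchSym
section
set_option linter.all false
open scoped Cfsg.Agent.FastGrp

section


/-!
# Mixed mutual pairs: natural modules against even-subset modules (#12388 (R1) of helper358)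

`M : NatK F S P V ⊥ k`, `M' : SymK S' P' V' ⊥ k' m'`; `V'` induces on `V` the full root group of `SL₂(F)^I`.

* `Mix.card_two` : `|F| = 2`;
* `Mix.exists_pair` : for `i ∈ I` every element of `fac M i` which does not centralise `V'` acts on `V'` as a
  transposition of two points of one summand, and the nontrivial element of `line M i` has this pair as its support;
* `mixed_small` : `k = 2`, `k' = 1`, `m' = 2`: `|[V, V']| = q` (HALF LEMMA, APPLICATIONS 1 and 2).
-/

set_option autoImplicit false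

namespace Cfsg.Agent.Omega.IId

open Subgroup Pointwise Cfsg Cfsg.Agent.ZN Cfsg.Agent.ZN.ChoiceBase
open Cfsg.Agent.Omega.MinPar Cfsg.Agent.Omega.Frame Cfsg.Agent.Omega.FFThm Cfsg.Agent.Omega.FrameMulti
open Cfsg.Agent.Omega.Half (Amb amb_of_loc)
open Cfsg.Agent.Omega.Half.SymA
open Cfsg.Agent.Lib.SL2Mat
open scoped commutatorElement Classical

universe u

/-! ### One side -/

section nat

variable {G : Type u} [Group G] {F : Type} [Field F] {S P : Subgroup G} {k : ℕ}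
  {M : NatK F S P (zl S P) ⊥ k} {A : Subgroup G} {I : Set (Fin k)}

/-- `line M i ⊆ {[v, a] | a ∈ A}` if the coordinate `i` of `v ∈ V` is not on the line. -/
theorem Ind.line_sub (h : Ind M A I) (hA : A ≤ P) {i : Fin k} (hi : i ∈ I) {v : G} (hv : v ∈ zl S P)
    (hv1 : M.e v i 1 ≠ 0) {w : G} (hw : w ∈ line M i) : ∃ a ∈ A, ⁅v, a⁆ = w := by
  rw [mem_line] at hw
  obtain ⟨a, ha, hact⟩ := h.ex (fun j => if j = i then -(M.e w i 0 / M.e v i 1) else 0) fun j hj => by
    rw [if_neg]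
    rintro rfl
    exact hj hi
  refine ⟨a, ha, ?_⟩
  refine e_inj M (e_comm hv (hA ha) hact i).1 hw.1.1 (funext fun j => ?_)
  obtain ⟨-, h2, h3⟩ := e_comm hv (hA ha) hact j
  by_cases hj : j = i
  · subst hj
    apply NatPair.ext2
    · rw [h2, if_pos rfl]
      field_simp
    · rw [h3, hw.2]
  · apply NatPair.ext2
    · rw [h2, if_neg hj, hw.1.2 j hj]
      simp
    · rw [h3, hw.1.2 j hj]
      rfl

/-- If all coordinates in `I` of `v ∈ V` are on the lines, then `v` centralises `A`. -/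
theorem Ind.exists_coord (h : Ind M A I) (hA : A ≤ P) {v a : G} (hv : v ∈ zl S P) (ha : a ∈ A)
    (hne : ⁅v, a⁆ ≠ 1) : ∃ i ∈ I, M.e v i 1 ≠ 0 := by
  by_contra hcon
  push Not at hcon
  apply hne
  obtain ⟨b, hb, hact⟩ := h.act a ha
  by_cases hk : k = 0
  · subst hk
    have e : ⁅v, a⁆ = v * (a * v⁻¹ * a⁻¹) := by rw [commutatorElement_def]; group
    have h1 : ⁅v, a⁆ ∈ zl S P := by
      rw [e]
      exact mul_mem hv (cj_mem (hA ha) (inv_mem hv))
    exact e_inj M h1 (one_mem _) (funext fun i => i.elim0)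
  refine e_inj M (e_comm hv (hA ha) hact ⟨0, Nat.pos_of_ne_zero hk⟩).1 (one_mem _) (funext fun i => ?_)
  obtain ⟨-, h2, h3⟩ := e_comm hv (hA ha) hact i
  rw [e_one]
  apply NatPair.ext2
  · rw [h2]
    by_cases hi : i ∈ I
    · rw [hcon i hi]
      simp
    · rw [hb i hi]
      simp
  · rw [h3]
    rfl

end nat

section sym

variable {G : Type u} [Group G] {T H V : Subgroup G} {k m : ℕ} {M : SymK T H V ⊥ k m} (hA : Amb T H V)

include hA

/-- the coordinates of `[v, a]` -/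
theorem E_comm {v a : G} {π : Equiv.Perm (Pt k m)} (hv : v ∈ H) (hπ : Mv M v π) (ha : a ∈ V) (p : Pt k m) :
    E M ⁅v, a⁆ (π p) = E M a p + E M a (π p) := by
  rw [commutatorElement_def, E_mul M (hA.conj_mem hv ha) (inv_mem ha), E_inv M ha, hπ a ha]

theorem comm_mem {v a : G} (hv : v ∈ H) (ha : a ∈ V) : ⁅v, a⁆ ∈ V := by
  rw [commutatorElement_def]
  exact mul_mem (hA.conj_mem hv ha) (inv_mem ha)

/-- a transposition: `[b, a] = 1` or the pair -/
theorem comm_swap {b a : G} {p q : Pt k m} (hb : b ∈ H) (hπ : Mv M b (Equiv.swap p q)) (ha : a ∈ V) :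
    ⁅b, a⁆ = 1 ∨ ∀ r, E M ⁅b, a⁆ r = (if r = p then 1 else 0) + (if r = q then 1 else 0) := by
  have h1 : ∀ r, E M ⁅b, a⁆ r = E M a (Equiv.swap p q r) + E M a r := by
    intro r
    have := E_comm hA hb hπ ha (Equiv.swap p q r)
    rwa [Equiv.swap_apply_self] at this
  by_cases hpq : p = q
  · left
    apply eq_one M (comm_mem hA hb ha)
    intro r
    rw [h1, hpq, Equiv.swap_self]
    exact CharTwo.add_self_eq_zero _
  rcases zmod2 (E M a p + E M a q) with h2 | h2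
  · left
    apply eq_one M (comm_mem hA hb ha)
    intro r
    rw [h1]
    by_cases hr : r = p
    · rw [hr, Equiv.swap_apply_left, add_comm]; exact h2
    · by_cases hr' : r = q
      · rw [hr', Equiv.swap_apply_right]; exact h2
      · rw [Equiv.swap_apply_of_ne_of_ne hr hr']
        exact CharTwo.add_self_eq_zero _
  · right
    intro r
    rw [h1]
    by_cases hr : r = p
    · rw [hr, Equiv.swap_apply_left, if_pos rfl, if_neg hpq, add_comm, h2]; rfl
    · by_cases hr' : r = q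
      · rw [hr', Equiv.swap_apply_right, if_pos rfl, if_neg (Ne.symm hpq), h2]; rfl
      · rw [Equiv.swap_apply_of_ne_of_ne hr hr', if_neg hr, if_neg hr']
        exact CharTwo.add_self_eq_zero _

/-- the pair `{p, π p}` is a commutator -/
theorem exists_comm_pair {v : G} {π : Equiv.Perm (Pt k m)} (hv : v ∈ T) (hπ : Mv M v π)
    {p : Pt k m} (hp : π p ≠ p) (hpp : π (π p) = p) (h0 : ∀ i, π (i, 0) = (i, 0)) :
    ∃ a ∈ V, ∀ r, E M ⁅v, a⁆ r = (if r = p then 1 else 0) + (if r = π p then 1 else 0) := by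
  obtain ⟨a, ha, hE⟩ := Cfsg.Agent.Omega.Half.SymA.exists_pair M (p := p) (q := (p.1, 0)) rfl
  have hp2 : p ≠ (p.1, 0) := by
    intro h
    apply hp
    rw [h]
    exact h0 _
  have hp3 : π p ≠ (p.1, 0) := by
    intro h
    have h1 : p = (p.1, 0) := by
      apply π.injective
      rw [h, h0]
    exact hp2 h1
  refine ⟨a, ha, fun r => ?_⟩
  have h1 := E_comm hA (hA.TH hv) hπ ha (π.symm r)
  rw [π.apply_symm_apply] at h1
  rw [h1, hE, hE]
  by_cases hr : r = p
  · have h2 : π.symm r = π p := by rw [hr, Equiv.symm_apply_eq, hpp]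
    rw [h2, if_neg hp, if_neg hp3, hr, if_pos rfl, if_neg hp2, if_neg (Ne.symm hp)]
    rfl
  · by_cases hr' : r = π p
    · have h2 : π.symm r = p := by rw [hr', π.symm_apply_apply]
      rw [h2, if_pos rfl, if_neg hp2, hr', if_neg hp, if_neg hp3, if_pos rfl]
      rfl
    · have h2 : π.symm r ≠ p := by
        intro h
        apply hr'
        rw [← h, π.apply_symm_apply]
      rw [if_neg h2, if_neg hr, if_neg hr', zero_add, zero_add]
      by_cases hr0 : r = (p.1, 0)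
      · have h3 : π.symm r = (p.1, 0) := by rw [hr0, Equiv.symm_apply_eq, h0]
        rw [h3, hr0, if_pos rfl]
        rfl
      · have h3 : π.symm r ≠ (p.1, 0) := by
          intro h
          apply hr0
          rw [← π.apply_symm_apply r, h, h0]
        rw [if_neg hr0, if_neg h3]

end sym

/-! ### The matching -/

section mix

variable {G : Type u} [Group G] [Finite G] {F : Type} [Field F] [Finite F] {S S' : Sylow 2 G} {P P' : Subgroup G}
  {k k' m' : ℕ} {M : NatK F (S : Subgroup G) P (zl (S : Subgroup G) P) ⊥ k}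
  {M' : SymK (S' : Subgroup G) P' (zl (S' : Subgroup G) P') ⊥ k' m'} {I : Set (Fin k)}

/-- The standing hypotheses. -/
structure Mix (M : NatK F (S : Subgroup G) P (zl (S : Subgroup G) P) ⊥ k)
    (M' : SymK (S' : Subgroup G) P' (zl (S' : Subgroup G) P') ⊥ k' m') (I : Set (Fin k)) : Prop where
  pair : Pair S S' P P'
  c2 : IsCharacteristicTwoType G
  m : 1 ≤ m'
  off' : Off (zl (S' : Subgroup G) P') (zl (S : Subgroup G) P)
  ind : Ind M (zl (S' : Subgroup G) P') I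

omit [Finite F] in
theorem Mix.amb' (h : Mix M M' I) : Amb (S' : Subgroup G) P' (zl (S' : Subgroup G) P') :=
  amb_of_loc h.c2 S' h.pair.star'.isLoc

omit [Finite G] [Finite F] in
theorem Mix.VP' (h : Mix M M' I) : zl (S : Subgroup G) P ≤ P' := h.pair.le'.trans h.pair.star'.le

omit [Finite G] [Finite F] in
theorem Mix.V'P (h : Mix M M' I) : zl (S' : Subgroup G) P' ≤ P := h.pair.le.trans h.pair.star.le

omit [Finite F] in
/-- the action of `v ∈ V` on the points of `V'` -/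
theorem Mix.exists_act (h : Mix M M' I) {v : G} (hv : v ∈ zl (S : Subgroup G) P) :
    ∃ π : Equiv.Perm (Pt k' m'), Mv M' v π ∧ (∀ p, (π p).1 = p.1) ∧ (∀ i, π (i, 0) = (i, 0)) ∧
      ∀ p, π p ≠ p → π (π p) = p ∧ ∃ b ∈ zl (S : Subgroup G) P, Mv M' b (Equiv.swap p (π p)) := by
  obtain ⟨τ, hact, hτ⟩ := (M'.off _ h.pair.le' h.off').2 v hv
  have hmv := mv_pm M' hact
  refine ⟨pm 1 τ, hmv, fun p => rfl, fun i => ?_, fun p hp => ?_⟩
  · exact Prod.ext rfl ((hmv.snd h.amb' h.m (h.pair.le' hv)).2 rfl)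
  · have hp' : τ p.1 p.2 ≠ p.2 := fun h' => hp (Prod.ext rfl h')
    obtain ⟨h1, b, hb, h2⟩ := hτ p.1 p.2 hp'
    refine ⟨Prod.ext rfl h1, b, hb, ?_⟩
    have h3 := mv_pm M' h2
    have h4 : pm 1 (Function.update 1 p.1 (Equiv.swap p.2 (τ p.1 p.2))) = Equiv.swap p (pm 1 τ p) :=
      pm_swap (q := pm 1 τ p) rfl
    rwa [h4] at h3

omit [Finite F] in
/-- the structure of a nontrivial element -/
theorem Mix.exists_moved (h : Mix M M' I) {v a : G} {π : Equiv.Perm (Pt k' m')} (hv : v ∈ zl (S : Subgroup G) P)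
    (hπ : Mv M' v π) (ha : a ∈ zl (S' : Subgroup G) P') (hne : ⁅v, a⁆ ≠ 1) : ∃ p, π p ≠ p := by
  by_contra hcon
  push Not at hcon
  apply hne
  apply eq_one M' (comm_mem h.amb' (h.VP' hv) ha)
  intro p
  have := E_comm h.amb' (h.VP' hv) hπ ha p
  rw [hcon p] at this
  rw [this]
  exact CharTwo.add_self_eq_zero _

theorem Mix.card_two (h : Mix M M' I) : Nat.card F = 2 := by
  -- a pair `(v₀, a₀)` which does not commute
  obtain ⟨v₀, hv₀, a₀, ha₀, hne⟩ : ∃ v ∈ zl (S : Subgroup G) P, ∃ a ∈ zl (S' : Subgroup G) P', ⁅v, a⁆ ≠ 1 := by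
    by_contra hcon
    push Not at hcon
    apply h.pair.ne
    rw [eq_bot_iff, commutator_le]
    intro v hv a ha
    rw [mem_bot]
    exact hcon v hv a ha
  obtain ⟨π, hπ, -, -, hπ'⟩ := h.exists_act hv₀
  obtain ⟨p, hp⟩ := h.exists_moved hv₀ hπ ha₀ hne
  obtain ⟨-, b, hb, hbs⟩ := hπ' p hp
  -- `b` does not centralise `V'`
  obtain ⟨a, ha, h1, h2⟩ := sep M' h.m (Ne.symm hp)
  have hbne : ⁅b, a⁆ ≠ 1 := by
    intro h3
    have h4 := E_comm h.amb' (h.VP' hb) hbs ha p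
    rw [h3, E_one, Equiv.swap_apply_left, h1, h2] at h4
    exact zero_ne_one h4
  obtain ⟨i, hi, hbi⟩ := h.ind.exists_coord h.V'P hb ha hbne
  -- the line has at most two elements
  have hle : ∀ x ∈ line M i, ∀ y ∈ line M i, x ≠ 1 → y ≠ 1 → x = y := by
    intro x hx y hy hx1 hy1
    obtain ⟨c, hc, rfl⟩ := h.ind.line_sub h.V'P hi hb hbi hx
    obtain ⟨d, hd, rfl⟩ := h.ind.line_sub h.V'P hi hb hbi hy
    have h3 := (comm_swap h.amb' (h.VP' hb) hbs hc).resolve_left hx1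
    have h4 := (comm_swap h.amb' (h.VP' hb) hbs hd).resolve_left hy1
    exact inj M' (comm_mem h.amb' (h.VP' hb) hc) (comm_mem h.amb' (h.VP' hb) hd) fun r => by rw [h3, h4]
  have h5 : Nat.card (line M i) ≤ 2 := by
    obtain ⟨x, hx, hx1⟩ : ∃ x ∈ line M i, x ≠ 1 := by
      by_contra hcon
      push Not at hcon
      exact line_ne_bot (M := M) i ((eq_bot_iff_forall _).2 hcon)
    have h6 : (line M i : Set G) ⊆ {1, x} := by
      intro y hy
      by_cases hy1 : y = 1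
      · exact Or.inl hy1
      · exact Or.inr (hle y hy x hx hy1 hx1)
    calc Nat.card (line M i) = (line M i : Set G).ncard := rfl
      _ ≤ ({1, x} : Set G).ncard := Set.ncard_le_ncard h6 (Set.toFinite _)
      _ ≤ 2 := (Set.ncard_insert_le 1 {x}).trans (by rw [Set.ncard_singleton])
  rw [card_line] at h5
  have h6 : 1 < Nat.card F := Finite.one_lt_card
  omega

/-- **Mixed matching.** -/
theorem Mix.exists_pair (h : Mix M M' I) {i : Fin k} (hi : i ∈ I) {v : G} (hv : v ∈ fac M i)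
    (hv1 : M.e v i 1 ≠ 0) : ∃ p q : Pt k' m', p ≠ q ∧ p.1 = q.1 ∧ p.2 ≠ 0 ∧ q.2 ≠ 0 ∧ Mv M' v (Equiv.swap p q) ∧
      ∀ z ∈ line M i, z ≠ 1 → ∀ r, E M' z r = (if r = p then 1 else 0) + (if r = q then 1 else 0) := by
  have h2 := h.card_two
  obtain ⟨z, hz, hz1⟩ : ∃ x ∈ line M i, x ≠ 1 := by
    by_contra hcon
    push Not at hcon
    exact line_ne_bot (M := M) i ((eq_bot_iff_forall _).2 hcon)
  have huniq : ∀ y ∈ line M i, y ≠ 1 → y = z := by
    intro y hy hy1
    have h3 : ({1, z} : Set G) = (line M i : Set G) := by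
      apply Set.eq_of_subset_of_ncard_le
      · rintro x (rfl | rfl)
        · exact one_mem _
        · exact hz
      · rw [Set.ncard_pair (Ne.symm hz1)]
        change Nat.card (line M i) ≤ 2
        rw [card_line, h2]
      · exact Set.toFinite _
    have h4 : y ∈ ({1, z} : Set G) := by rw [h3]; exact hy
    exact h4.resolve_left hy1
  obtain ⟨π, hπ, hπ1, hπ0, hπ'⟩ := h.exists_act hv.1
  obtain ⟨a₀, ha₀, hza⟩ := (h.ind.mem_line_iff h.V'P hi hv hv1).1 hz
  obtain ⟨p, hp⟩ := h.exists_moved hv.1 hπ ha₀ (by rw [hza]; exact hz1)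
  -- every moved point gives the pair `z`
  have key : ∀ q, π q ≠ q → ∀ r, E M' z r = (if r = q then 1 else 0) + (if r = π q then 1 else 0) := by
    intro q hq
    obtain ⟨a, ha, hE⟩ := exists_comm_pair h.amb' (h.pair.le' hv.1) hπ hq (hπ' q hq).1 hπ0
    have h3 : ⁅v, a⁆ ∈ line M i := (h.ind.mem_line_iff h.V'P hi hv hv1).2 ⟨a, ha, rfl⟩
    have h4 : ⁅v, a⁆ ≠ 1 := by
      intro h5
      have h6 := hE q
      rw [h5, E_one, if_pos rfl, if_neg (Ne.symm hq)] at h6
      exact zero_ne_one h6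
    rw [← huniq _ h3 h4]
    exact hE
  have hπs : π = Equiv.swap p (π p) := by
    ext1 q
    by_cases hq : π q = q
    · rw [hq, Equiv.swap_apply_of_ne_of_ne]
      · intro h3
        exact hp (h3 ▸ hq)
      · intro h3
        have h4 : π (π p) = π p := h3 ▸ hq
        exact hp (π.injective h4)
    · have h3 := key q hq q
      rw [key p hp q, if_pos rfl, if_neg (Ne.symm hq)] at h3
      by_cases h4 : q = p
      · rw [h4, Equiv.swap_apply_left]
      · by_cases h5 : q = π p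
        · rw [h5, Equiv.swap_apply_right, (hπ' p hp).1]
        · rw [if_neg h4, if_neg h5] at h3
          exact absurd h3 zero_ne_one
  refine ⟨p, π p, Ne.symm hp, (hπ1 p).symm, ?_, ?_, ?_, fun y hy hy1 => ?_⟩
  · intro h3
    apply hp
    have h4 : p = (p.1, 0) := Prod.ext rfl h3
    rw [h4]
    exact hπ0 _
  · intro h3
    apply hp
    have h4 : π p = (p.1, 0) := Prod.ext (hπ1 p) h3
    have h5 : p = (p.1, 0) := by
      apply π.injective
      rw [h4, hπ0]
    rw [h4]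
    exact h5.symm
  · rw [← hπs]
    exact hπ
  · rw [huniq y hy hy1]
    exact key p hp

end mix

/-! ### `k = 2`, `k' = 1`, `m' = 2`, `|I| = 2` -/

section two

variable {G : Type u} [Group G] [Finite G] {F : Type} [Field F] [Finite F]

end two

end Cfsg.Agent.Omega.IId

end

section


/-!
# `WrTwo` from THEOREM C (corollary of #15545, helper610)

`CC M` : the conclusion of THEOREM C for `M : NatK F S P (zl S P) ⊥ k`: `fac M l` centralises `O₂(N_G(line M i))` for
`l ≠ i`.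

* `cor_nat` : natural factors on both sides, `CC M`: `|[V, V']| = q`;
* `cor_sym` : natural factors against even-subset modules, `CC M`: `|[V, V']| = q`;
* `ThmC`, `wrTwo_of` : THEOREM C for all `P ∈ P*(S)` implies `WrTwo K`.
-/

set_option autoImplicit false

namespace Cfsg.Agent.Omega.IId

open Subgroup Pointwise Cfsg Cfsg.Agent.ZN Cfsg.Agent.ZN.ChoiceBase
open Cfsg.Agent.Omega.MinPar Cfsg.Agent.Omega.Frame Cfsg.Agent.Omega.FFThm Cfsg.Agent.Omega.FrameMulti
open Cfsg.Agent.Omega.Half (Amb amb_of_loc)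
open Cfsg.Agent.Omega.Half.SymA
open Cfsg.Agent.Lib.SL2Mat
open scoped commutatorElement Classical

universe u

section defs

variable {G : Type u} [Group G] {F : Type} [Field F] {S P : Subgroup G} {k : ℕ}

/-- The conclusion of THEOREM C. -/
def CC (M : NatK F S P (zl S P) ⊥ k) : Prop :=
  ∀ i l, l ≠ i → fac M l ≤ centralizer (o2 (normalizer (line M i : Set G)) : Set G)

variable (M : NatK F S P (zl S P) ⊥ k)

theorem exists_line (i : Fin k) : ∃ z ∈ line M i, z ≠ 1 := by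
  by_contra hcon
  push Not at hcon
  exact line_ne_bot (M := M) i ((eq_bot_iff_forall _).2 hcon)

/-- the lines lie in `O₂(N_G(line M i))` -/
theorem CC.line_le_o2 [Finite G] [Finite F] [CharP F 2] (hc : IsCharacteristicTwoType G) {M : NatK F S P (zl S P) ⊥ k}
    (hC : CC M) {i j : Fin k} (hij : j ≠ i) : line M j ≤ o2 (normalizer (line M i : Set G)) := by
  have h2 : IsPGroup 2 (line M i) := by
    rintro ⟨x, hx⟩
    exact ⟨1, Subtype.ext (by
      change x ^ 2 ^ 1 = 1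
      rw [pow_one, pow_two, sq M hx.1.1])⟩
  refine le_trans (le_inf ?_ ((line_le M j).trans (hC i j hij)))
    (MinSimple.Basic.char2_normalizer hc h2 (line_ne_bot i))
  intro v hv
  rw [mem_normalizer_iff]
  have key : ∀ x ∈ zl S P, v * x * v⁻¹ = x := fun x hx => by
    rw [comm M hv.1.1 hx]
    group
  intro x
  constructor
  · intro hx
    rw [key x hx.1.1]
    exact hx
  · intro hx
    have h3 : v * x * v⁻¹ ∈ zl S P := hx.1.1
    have h4 : x ∈ zl S P := by
      have h5 := mul_mem (mul_mem (inv_mem hv.1.1) h3) hv.1.1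
      have h6 : v⁻¹ * (v * x * v⁻¹) * v = x := by group
      rwa [h6] at h5
    rwa [key x h4] at hx

end defs

section cor

variable {G : Type u} [Group G] [Finite G] {F : Type} [Field F] [Finite F] [CharP F 2] {k k' : ℕ}

/-- **Corollary of THEOREM C**, natural factors on both sides. -/
theorem cor_nat {F' : Type} [Field F'] (hc : IsCharacteristicTwoType G) {S S' : Sylow 2 G} {P P' : Subgroup G}
    (h : Pair S S' P P')
    (hT : NoOver (zl (S : Subgroup G) P) P) (hT' : NoOver (zl (S' : Subgroup G) P') P')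
    (M : NatK F (S : Subgroup G) P (zl (S : Subgroup G) P) ⊥ k)
    (M' : NatK F' (S' : Subgroup G) P' (zl (S' : Subgroup G) P') ⊥ k') (hk' : 1 ≤ k') (hC : CC M) :
    Nat.card ↥⁅zl (S : Subgroup G) P, zl (S' : Subgroup G) P'⁆ = Nat.card F := by
  obtain ⟨I, hI⟩ := exists_ind M h.le (h.off hc hT')
  obtain ⟨I', hI'⟩ := exists_ind M' h.le' (h.symm.off hc hT)
  have hVP : zl (S' : Subgroup G) P' ≤ P := h.le.trans h.star.le
  have hVP' : zl (S : Subgroup G) P ≤ P' := h.le'.trans h.star'.le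
  have hcomm := hI.commutator_eq hVP
  obtain ⟨i, hi⟩ : I.Nonempty := lines_ne_bot (M := M) (hcomm ▸ h.ne)
  by_cases hex : ∃ j ∈ I, j ≠ i
  swap
  · push Not at hex
    have hIi : I = {i} := by
      ext x
      exact ⟨fun hx => hex x hx, fun hx => by rw [show x = i from hx]; exact hi⟩
    rw [hcomm, hIi]
    exact card_line M i
  exfalso
  obtain ⟨j, hj, hji⟩ := hex
  obtain ⟨i', -, hli, -⟩ := exists_match hI hI' hVP hVP' (by omega) hi
  obtain ⟨j', -, hlj, hact⟩ := exists_match hI hI' hVP hVP' (by omega) hj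
  have hij' : j' ≠ i' := by
    rintro rfl
    exact hji (line_inj (M := M) (hlj.trans hli.symm).le)
  set W := o2 (normalizer (line M i : Set G)) with hW
  -- `z ∈ W`
  obtain ⟨z, hz, hz1⟩ := exists_line M j
  have hzW : z ∈ W := hC.line_le_o2 hc hji hz
  have hz' : z ∈ fac M' j' := line_le M' j' (hlj ▸ hz)
  -- `fac M' j' ≤ W`
  have hfac : ∀ a ∈ fac M' j', a ≠ 1 → a ∈ W := by
    intro a ha ha1
    obtain ⟨g, hg, hga⟩ := exists_grp M' hz' ha hz1 ha1
    have hgN : g ∈ normalizer (line M i : Set G) := by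
      have hdisj : Disjoint ({j'} : Set (Fin k')) {i'} := Set.disjoint_singleton.2 hij'
      have hcent : ∀ x ∈ line M i, g * x * g⁻¹ = x := by
        intro x hx
        have hx' : x ∈ fac M' i' := line_le M' i' (hli ▸ hx)
        rw [grp_comm M' hdisj hg hx']
        group
      rw [mem_normalizer_iff]
      intro x
      constructor
      · intro hx
        rw [hcent x hx]
        exact hx
      · intro hx
        have h1 := hcent _ hx
        have h2 : x = g * x * g⁻¹ := by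
          have h3 : g * (g * x * g⁻¹) = (g * x * g⁻¹) * g := by
            calc g * (g * x * g⁻¹) = (g * (g * x * g⁻¹) * g⁻¹) * g := by group
              _ = (g * x * g⁻¹) * g := by rw [h1]
          have h4 : g * x * g⁻¹ = x := by
            have h5 : g * (g * x * g⁻¹) = g * x := by rw [h3]; group
            exact mul_left_cancel h5
          exact h4.symm
        rw [h2]
        exact hx
    rw [← hga]
    exact (mem_normalizer_iff.1 (Cfsg.Agent.ZN.ChoiceSit.le_normalizer_o2 _ hgN) z).1 hzW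
  -- a noncommuting pair
  obtain ⟨v, hv, hve⟩ := exists_fac M j ![0, 1]
  obtain ⟨c, hcj, -, hca⟩ := hact v hv (by rw [hve]; exact one_ne_zero)
  obtain ⟨a, ha, hae⟩ := exists_fac M' j' ![0, 1]
  have hne : v * a ≠ a * v := by
    intro h0
    have h1 := (e_comm ha.1 (hVP' hv.1) hca j').2.1
    have h2 : ⁅a, v⁆ = 1 := commutatorElement_eq_one_iff_mul_comm.2 h0.symm
    rw [h2, e_one, hae] at h1
    apply hcj
    have h3 : (0 : F') = -(c j' * 1) := h1
    rw [mul_one] at h3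
    exact (neg_eq_zero.1 h3.symm)
  apply hne
  have ha1 : a ≠ 1 := by
    intro h0
    rw [h0, e_one] at hae
    exact zero_ne_one (congrFun hae 1)
  exact (mem_centralizer_iff.1 (hC i j hji hv) a (hfac a ha ha1)).symm

end cor

/-- **THEOREM C** (#15545). -/
def ThmC : Prop :=
  ∀ (G : Type u) [Group G] [Finite G] (_ : IsCharacteristicTwoType G) (S : Sylow 2 G) (P : Subgroup G)
    (_ : IsParS (S : Subgroup G) P) (F : Type) [Field F] [Finite F] [CharP F 2] (k : ℕ)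
    (M : NatK F (S : Subgroup G) P (zl (S : Subgroup G) P) ⊥ k), CC M

/-- `WrTwo` from THEOREM C. -/
theorem wrTwo_of (hC : ThmC.{u}) (K : Cls.{u}) : WrTwo K := by
  intro G _ _ S S' hH P P' h F F' _ _ _ _ _ _ k k' M M' hk hk' hne
  exact hne (cor_nat hH.ctx.char2 h (hH.typed' h).1.noOver (hH.typed' h).2.noOver M M' hk'
    (hC G hH.ctx.char2 S P h.star F k M))

end Cfsg.Agent.Omega.IId

end
end

-- part: Mrg/Omega/ThmC/FourOf
section
prune_inst 0x500000000000000010000000000000001020000204000000000080010001000000000000000000000000000000000000000000004010028000000000000020000000000000000000000000000000000000000000000200000000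
set_option linter.all false
open scoped Cfsg.Agent.FastGrp

-- part: Mrg/Omega/ThmC/FourMain
section
-- merged: Cfsg.Agent.Mrg.Omega.ThmC.FourDat
section

section


/-!
# THEOREM C, case `q ≥ 4` (bb OMEGA 15545, helper610): the data

* `Dat S L E Z h p` : the situation in `G` (`L = S^L`, `E = Ω₁ Z(L)`, `Z l = Z_l`, `h l = h_l`).
* `Abs Σ h Z p` : the situation in the group `N = N_G(E) / C_G(E)` acting faithfully on `E` (written additively).

`Act E x y` : `x` and `y` act in the same way on `E` (i.e. they are equal modulo `C(E)`).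
-/

set_option autoImplicit false

namespace Cfsg.Agent.Omega.ThmC.Four

open Subgroup Cfsg Cfsg.Agent.ZN

universe u

/-- `x` and `y` induce the same map on `E` by conjugation. -/
def Act {G : Type u} [Group G] (E : Subgroup G) (x y : G) : Prop := ∀ e ∈ E, x * e * x⁻¹ = y * e * y⁻¹

/-- The data of THEOREM C, case `q ≥ 4`. `L = S^L`, `E = Ω₁ Z(L)`. -/
structure Dat {G : Type u} [Group G] [Finite G] (S : Sylow 2 G) (L : Subgroup G) {k : ℕ}
    (Z : Fin k → Subgroup G) (h : Fin k → G) (p : ℕ) : Prop where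
  prime : p.Prime
  odd : p ≠ 2
  LS : L ≤ S
  nor : (S : Subgroup G) ≤ normalizer (L : Set G)
  cL : centralizer (L : Set G) ≤ L
  hL : ∀ l, h l ∈ normalizer (L : Set G)
  /-- the `h l` commute and have order `p` modulo `C(E)` -/
  hcomm : ∀ l m, Act (zc L) (h l * h m) (h m * h l)
  hp : ∀ l, Act (zc L) (h l ^ p) 1
  /-- `S` permutes the `⟨h l⟩` modulo `C(E)` -/
  perm : ∀ s ∈ (S : Subgroup G), ∃ σ : Equiv.Perm (Fin k), ∀ l, ∃ r : ℕ,
    Act (zc L) (s * h l * s⁻¹) (h (σ l) ^ r)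
  /-- `C_S(D) = L` (modulo `C(E)`) -/
  field : ∀ s ∈ (S : Subgroup G), (∀ l, Act (zc L) (s * h l) (h l * s)) → s ∈ L
  ZE : ∀ l, Z l ≤ zc L
  Zne : ∀ l, Z l ≠ ⊥
  Znor : ∀ l, h l ∈ normalizer (Z l : Set G)
  Zfpf : ∀ l, ∀ z ∈ Z l, h l * z = z * h l → z = 1
  Zcent : ∀ l m, l ≠ m → ∀ z ∈ Z l, h m * z = z * h m
  /-- `C_E(S) ≤ ∑ Z l` -/
  fix : zc (S : Subgroup G) ≤ ⨆ l, Z l

/-- The data of THEOREM C, case `q ≥ 4`, in `N = N_G(E) / C_G(E)` (any finite group), acting faithfully on `A = E`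
(written additively) by `ρ`. -/
structure Abs {N A : Type u} [Group N] [Finite N] [AddCommGroup A] [Finite A] (ρ : N →* AddMonoid.End A)
    (S : Sylow 2 N) {k : ℕ} (h : Fin k → N) (Z : Fin k → AddSubgroup A) (p : ℕ) : Prop where
  two : ∀ a : A, a + a = 0
  inj : Function.Injective ρ
  prime : p.Prime
  odd : p ≠ 2
  hcomm : ∀ l m, h l * h m = h m * h l
  hp : ∀ l, h l ^ p = 1
  perm : ∀ s ∈ (S : Subgroup N), ∃ σ : Equiv.Perm (Fin k), ∀ l, ∃ r : ℕ, s * h l * s⁻¹ = h (σ l) ^ r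
  field : ∀ s ∈ (S : Subgroup N), (∀ l, s * h l = h l * s) → s = 1
  Zne : ∀ l, Z l ≠ ⊥
  Znor : ∀ l, ∀ z ∈ Z l, ρ (h l) z ∈ Z l
  Zfpf : ∀ l, ∀ z ∈ Z l, ρ (h l) z = z → z = 0
  Zcent : ∀ l m, l ≠ m → ∀ z ∈ Z l, ρ (h m) z = z
  fix : ∀ a : A, (∀ s ∈ (S : Subgroup N), ρ s a = a) → a ∈ ⨆ l, Z l

end Cfsg.Agent.Omega.ThmC.Four

end

section


/-!
# THEOREM C, case `q ≥ 4`: sums of operators over subgroups

`avg ρ X = ∑_{x ∈ X} ρ x` : if `|X|` is odd and `2A = 0`, this is the projection onto `C_A(X)`.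
-/

set_option autoImplicit false

namespace Cfsg.Agent.Omega.ThmC.Four

open Subgroup Cfsg

universe u v

section avg

variable {N : Type u} {A : Type v} [Group N] [Finite N] [AddCommGroup A] (ρ : N →* AddMonoid.End A)

/-- The sum of the operators `ρ x`, `x ∈ X`. -/
noncomputable def avg (X : Subgroup N) : AddMonoid.End A := ∑ᶠ x : X, ρ (x : N)

theorem mul_avg (X : Subgroup N) (T : AddMonoid.End A) : T * avg ρ X = ∑ᶠ x : X, T * ρ (x : N) :=
  mul_finsum' _ _ (Set.toFinite _)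

theorem avg_mul (X : Subgroup N) (T : AddMonoid.End A) : avg ρ X * T = ∑ᶠ x : X, ρ (x : N) * T :=
  finsum_mul' _ _ (Set.toFinite _)

theorem avg_apply (X : Subgroup N) (a : A) : avg ρ X a = ∑ᶠ x : X, ρ (x : N) a := by
  exact (AddMonoidHom.eval a : (A →+ A) →+ A).map_finsum (f := fun x : X => ρ (x : N)) (Set.toFinite _)

theorem avg_conj (X : Subgroup N) (s : N) :
    ρ s * avg ρ X = avg ρ (X.map (MulAut.conj s).toMonoidHom) * ρ s := by
  rw [mul_avg, avg_mul]
  rw [← finsum_comp_equiv (X.equivMapOfInjective (MulAut.conj s).toMonoidHom (MulAut.conj s).injective).toEquiv]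
  refine finsum_congr fun x => ?_
  rw [← map_mul, ← map_mul]
  have : (((X.equivMapOfInjective (MulAut.conj s).toMonoidHom (MulAut.conj s).injective).toEquiv x :
      X.map (MulAut.conj s).toMonoidHom) : N) = s * x * s⁻¹ := rfl
  rw [this, inv_mul_cancel_right]

theorem left_avg {X : Subgroup N} {y : N} (hy : y ∈ X) : ρ y * avg ρ X = avg ρ X := by
  rw [mul_avg]
  calc (∑ᶠ x : X, ρ y * ρ (x : N)) = ∑ᶠ x : X, ρ ((Equiv.mulLeft (⟨y, hy⟩ : X) x : X) : N) := by
        refine finsum_congr fun x => ?_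
        rw [← map_mul]
        rfl
    _ = _ := finsum_comp_equiv (Equiv.mulLeft (⟨y, hy⟩ : X)) (f := fun x : X => ρ (x : N))

theorem avg_right {X : Subgroup N} {y : N} (hy : y ∈ X) : avg ρ X * ρ y = avg ρ X := by
  rw [avg_mul]
  calc (∑ᶠ x : X, ρ (x : N) * ρ y) = ∑ᶠ x : X, ρ ((Equiv.mulRight (⟨y, hy⟩ : X) x : X) : N) := by
        refine finsum_congr fun x => ?_
        rw [← map_mul]
        rfl
    _ = _ := finsum_comp_equiv (Equiv.mulRight (⟨y, hy⟩ : X)) (f := fun x : X => ρ (x : N))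

theorem commute_avg {X : Subgroup N} {T : AddMonoid.End A} (h : ∀ x ∈ X, T * ρ x = ρ x * T) :
    T * avg ρ X = avg ρ X * T := by
  rw [mul_avg, avg_mul]
  exact finsum_congr fun x => h x x.2

/-- `T + T = 0`. -/
theorem End_two (h2 : ∀ a : A, a + a = 0) (T : AddMonoid.End A) : T + T = 0 := by
  ext a
  exact h2 _

theorem odd_nsmul {M : Type*} [AddCommGroup M] (h2 : ∀ a : M, a + a = 0) {n : ℕ} (hn : Odd n) (a : M) :
    n • a = a := by
  obtain ⟨m, rfl⟩ := hn
  rw [add_smul, mul_comm, mul_smul, two_smul, h2, smul_zero, zero_add, one_smul]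

theorem finsum_odd_const {M : Type*} [AddCommGroup M] (h2 : ∀ a : M, a + a = 0) {X : Subgroup N}
    (hX : Odd (Nat.card X)) (a : M) : (∑ᶠ _ : X, a) = a := by
  classical
  let _ := Fintype.ofFinite X
  rw [finsum_eq_sum_of_fintype, Finset.sum_const, Finset.card_univ, ← Nat.card_eq_fintype_card]
  exact odd_nsmul h2 hX a

theorem avg_mul_of_fix (h2 : ∀ a : A, a + a = 0) {X : Subgroup N} (hX : Odd (Nat.card X))
    {T : AddMonoid.End A} (h : ∀ x ∈ X, ρ x * T = T) : avg ρ X * T = T := by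
  rw [avg_mul]
  calc (∑ᶠ x : X, ρ (x : N) * T) = ∑ᶠ _ : X, T := finsum_congr fun x => h x x.2
    _ = T := finsum_odd_const (End_two h2) hX T

theorem mul_avg_of_fix (h2 : ∀ a : A, a + a = 0) {X : Subgroup N} (hX : Odd (Nat.card X))
    {T : AddMonoid.End A} (h : ∀ x ∈ X, T * ρ x = T) : T * avg ρ X = T := by
  rw [mul_avg]
  calc (∑ᶠ x : X, T * ρ (x : N)) = ∑ᶠ _ : X, T := finsum_congr fun x => h x x.2
    _ = T := finsum_odd_const (End_two h2) hX T

theorem avg_apply_of_fix (h2 : ∀ a : A, a + a = 0) {X : Subgroup N} (hX : Odd (Nat.card X))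
    {a : A} (h : ∀ x ∈ X, ρ x a = a) : avg ρ X a = a := by
  rw [avg_apply]
  calc (∑ᶠ x : X, ρ (x : N) a) = ∑ᶠ _ : X, a := finsum_congr fun x => h x x.2
    _ = a := finsum_odd_const h2 hX a

/-- `ρ y` fixes `avg X a` for `y ∈ X`. -/
theorem fix_avg_apply {X : Subgroup N} {y : N} (hy : y ∈ X) (a : A) : ρ y (avg ρ X a) = avg ρ X a :=
  congrArg (fun T : AddMonoid.End A => T a) (left_avg ρ hy)

theorem avg_mem {X : Subgroup N} {Z : AddSubgroup A} (h : ∀ x ∈ X, ∀ z ∈ Z, ρ x z ∈ Z) {z : A} (hz : z ∈ Z) :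
    avg ρ X z ∈ Z := by
  rw [avg_apply]
  exact finsum_induction (p := fun a => a ∈ Z) Z.zero_mem (fun _ _ => Z.add_mem) fun x => h _ x.2 z hz

theorem avg_mul_avg (h2 : ∀ a : A, a + a = 0) {X Y Z : Subgroup N} (hX : Odd (Nat.card X))
    (hY : Odd (Nat.card Y)) (hZ : Odd (Nat.card Z)) (hXZ : X ≤ Z) (hYZ : Y ≤ Z) (hle : Z ≤ X ⊔ Y)
    (hc : ∀ x ∈ X, ∀ y ∈ Y, x * y = y * x) : avg ρ X * avg ρ Y = avg ρ Z := by
  have h1 : avg ρ Z * avg ρ X = avg ρ Z := mul_avg_of_fix ρ h2 hX fun x hx => avg_right ρ (hXZ hx)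
  have h3 : avg ρ Z * avg ρ Y = avg ρ Z := mul_avg_of_fix ρ h2 hY fun x hx => avg_right ρ (hYZ hx)
  have hXY : avg ρ X * avg ρ Y = avg ρ Y * avg ρ X := by
    refine commute_avg ρ fun y hy => ?_
    refine (commute_avg ρ (T := ρ y) fun x hx => ?_).symm
    rw [← map_mul, ← map_mul, hc x hx y hy]
  have h4 : ∀ z ∈ X ⊔ Y, ρ z * (avg ρ X * avg ρ Y) = avg ρ X * avg ρ Y := by
    intro z hz
    rw [Subgroup.sup_eq_closure] at hz
    induction hz using Subgroup.closure_induction with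
    | mem z hz =>
      rcases hz with hx | hy
      · rw [← mul_assoc, left_avg ρ hx]
      · rw [hXY, ← mul_assoc, left_avg ρ hy]
    | one => rw [map_one, one_mul]
    | mul a b ha hb iha ihb => rw [map_mul, mul_assoc, ihb, iha]
    | inv a ha iha =>
      calc ρ a⁻¹ * (avg ρ X * avg ρ Y) = ρ a⁻¹ * (ρ a * (avg ρ X * avg ρ Y)) := by rw [iha]
        _ = _ := by rw [← mul_assoc, ← map_mul, inv_mul_cancel, map_one, one_mul]
  calc avg ρ X * avg ρ Y = avg ρ Z * (avg ρ X * avg ρ Y) :=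
        (avg_mul_of_fix ρ h2 hZ fun z hz => h4 z (hle hz)).symm
    _ = avg ρ Z := by rw [← mul_assoc, h1, h3]

end avg

end Cfsg.Agent.Omega.ThmC.Four

end

section


/-!
# THEOREM C, case `q ≥ 4`, (1): the decomposition `A = ⨁ C_l`

`eps ρ h l` is the projection onto `C_l = [A, h l]`.
-/

set_option autoImplicit false
set_option linter.unusedSectionVars false
set_option linter.unusedVariables false
set_option linter.style.haveILetI false

namespace Cfsg.Agent.Omega.ThmC.Four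

open Subgroup Cfsg

universe u

/-- A 2-group acting on an elementary abelian 2-group `K ≠ 0` has a non-zero fixed vector. -/
theorem exists_fix {N A : Type u} [Group N] [Finite N] [AddCommGroup A] [Finite A] {ρ : N →* AddMonoid.End A}
    (h2 : ∀ a : A, a + a = 0) {T : Subgroup N} (hT : IsPGroup 2 T) {K : AddSubgroup A}
    (hK : ∀ s ∈ T, ∀ a ∈ K, ρ s a ∈ K) (hne : K ≠ ⊥) : ∃ a ∈ K, a ≠ 0 ∧ ∀ s ∈ T, ρ s a = a := by
  classical
  let _ : MulAction T K :=
    { smul := fun s a => ⟨ρ s a, hK s s.2 a a.2⟩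
      one_smul := fun a => Subtype.ext (by
        change ρ ((1 : T) : N) (a : A) = a
        rw [OneMemClass.coe_one, map_one]; rfl)
      mul_smul := fun s t a => Subtype.ext (by
        change ρ ((s * t : T) : N) (a : A) = ρ (s : N) (ρ (t : N) a)
        rw [Subgroup.coe_mul, map_mul]; rfl) }
  have hcard : 2 ∣ Nat.card K := by
    obtain ⟨⟨a, ha⟩, ha0'⟩ := AddSubgroup.ne_bot_iff_exists_ne_zero.1 hne
    have ha0 : a ≠ 0 := fun h => ha0' (Subtype.ext h)
    have h1 : addOrderOf (⟨a, ha⟩ : K) = 2 := by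
      refine addOrderOf_eq_prime ?_ ?_
      · rw [two_nsmul]; exact Subtype.ext (h2 a)
      · exact fun h => ha0 (congrArg Subtype.val h)
    rw [← h1]
    exact addOrderOf_dvd_natCard _
  have h0 : (0 : K) ∈ MulAction.fixedPoints T K := by
    intro s
    exact Subtype.ext (map_zero (ρ (s : N)))
  obtain ⟨b, hb, hb0⟩ := hT.exists_fixed_point_of_prime_dvd_card_of_fixed_point K hcard h0
  exact ⟨b, b.2, fun h => hb0 (Subtype.ext h.symm), fun s hs => congrArg Subtype.val (hb ⟨s, hs⟩)⟩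

section defs

variable {N A : Type u} [Group N] [AddCommGroup A] {k : ℕ}

/-- `D = ⟨h l⟩`. -/
def DD (h : Fin k → N) : Subgroup N := _root_.Subgroup.closure (Set.range h)

/-- `D_l = ⟨h m : m ≠ l⟩`. -/
def DL (h : Fin k → N) (l : Fin k) : Subgroup N := _root_.Subgroup.closure (h '' {l}ᶜ)

/-- The projection onto `C_l`. -/
noncomputable def eps [Finite N] (ρ : N →* AddMonoid.End A) (h : Fin k → N) (l : Fin k) : AddMonoid.End A :=
  avg ρ (DL h l) + avg ρ (DD h)

theorem h_mem_DD (h : Fin k → N) (l : Fin k) : h l ∈ DD h := _root_.Subgroup.subset_closure (Set.mem_range_self l)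

theorem h_mem_DL (h : Fin k → N) {l m : Fin k} (hml : m ≠ l) : h m ∈ DL h l :=
  _root_.Subgroup.subset_closure (Set.mem_image_of_mem h hml)

theorem DL_le (h : Fin k → N) (l : Fin k) : DL h l ≤ DD h := _root_.Subgroup.closure_mono (Set.image_subset_range _ _)

theorem zpowers_le_DD (h : Fin k → N) (l : Fin k) : zpowers (h l) ≤ DD h :=
  (zpowers_le).2 (h_mem_DD h l)

end defs

namespace Abs

variable {N A : Type u} [Group N] [Finite N] [AddCommGroup A] [Finite A] {ρ : N →* AddMonoid.End A}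
  {S : Sylow 2 N} {k : ℕ} {h : Fin k → N} {Z : Fin k → AddSubgroup A} {p : ℕ}

theorem DD_comm (d : Abs ρ S h Z p) : ∀ x ∈ DD h, ∀ y ∈ DD h, x * y = y * x := by
  have h1 : ∀ l, ∀ y ∈ DD h, h l * y = y * h l := by
    intro l y hy
    have : DD h ≤ centralizer ({h l} : Set N) := by
      rw [DD, closure_le]
      rintro _ ⟨m, rfl⟩
      rw [SetLike.mem_coe, mem_centralizer_iff]
      rintro _ rfl
      exact d.hcomm l m
    exact mem_centralizer_iff.1 (this hy) _ rfl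
  intro x hx y hy
  have : DD h ≤ centralizer ({y} : Set N) := by
    rw [DD, closure_le]
    rintro _ ⟨m, rfl⟩
    rw [SetLike.mem_coe, mem_centralizer_iff]
    rintro _ rfl
    exact (h1 m _ hy).symm
  exact (mem_centralizer_iff.1 (this hx) _ rfl).symm

theorem DD_pow (d : Abs ρ S h Z p) : ∀ x ∈ DD h, x ^ p = 1 := by
  intro x hx
  have hx' := hx
  rw [DD] at hx
  induction hx using Subgroup.closure_induction with
  | mem z hz => obtain ⟨l, rfl⟩ := hz; exact d.hp l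
  | one => exact one_pow _
  | mul a b ha hb iha ihb =>
    have hc : Commute a b := d.DD_comm a ha b hb
    rw [hc.mul_pow, iha ha, ihb hb, one_mul]
  | inv a ha iha => rw [inv_pow, iha ha, inv_one]

theorem odd_card (d : Abs ρ S h Z p) {X : Subgroup N} (hX : X ≤ DD h) : Odd (Nat.card X) := by
  haveI := Fact.mk d.prime
  have : IsPGroup p X := fun x => ⟨1, by
    rw [pow_one]
    exact Subtype.ext (d.DD_pow _ (hX x.2))⟩
  obtain ⟨n, hn⟩ := IsPGroup.iff_card.1 this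
  rw [hn]
  exact (d.prime.odd_of_ne_two d.odd).pow

theorem zpowers_le_DD' (l : Fin k) : zpowers (h l) ≤ DD h := zpowers_le_DD h l

theorem DD_le_sup {l m : Fin k} (hlm : l ≠ m) : DD h ≤ DL h l ⊔ DL h m := by
  rw [DD, closure_le]
  rintro _ ⟨j, rfl⟩
  by_cases hj : j = l
  · subst hj
    exact mem_sup_right (h_mem_DL h hlm)
  · exact mem_sup_left (h_mem_DL h hj)

theorem DD_le_sup' (l : Fin k) : DD h ≤ zpowers (h l) ⊔ DL h l := by
  rw [DD, closure_le]
  rintro _ ⟨j, rfl⟩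
  by_cases hj : j = l
  · subst hj
    exact mem_sup_left (mem_zpowers _)
  · exact mem_sup_right (h_mem_DL h hj)

theorem avg_mul' (d : Abs ρ S h Z p) {X Y Z' : Subgroup N} (hX : X ≤ DD h) (hY : Y ≤ DD h) (hZ : Z' ≤ DD h)
    (hXZ : X ≤ Z') (hYZ : Y ≤ Z') (hle : Z' ≤ X ⊔ Y) : avg ρ X * avg ρ Y = avg ρ Z' :=
  avg_mul_avg ρ d.two (d.odd_card hX) (d.odd_card hY) (d.odd_card hZ) hXZ hYZ hle
    fun x hx y hy => d.DD_comm x (hX hx) y (hY hy)

theorem DL_DL (d : Abs ρ S h Z p) {l m : Fin k} (hlm : l ≠ m) :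
    avg ρ (DL h l) * avg ρ (DL h m) = avg ρ (DD h) :=
  d.avg_mul' (DL_le h l) (DL_le h m) le_rfl (DL_le h l) (DL_le h m) (DD_le_sup hlm)

theorem self_mul (d : Abs ρ S h Z p) {X : Subgroup N} (hX : X ≤ DD h) : avg ρ X * avg ρ X = avg ρ X :=
  d.avg_mul' hX hX hX le_rfl le_rfl le_sup_left

theorem mul_DD (d : Abs ρ S h Z p) {X : Subgroup N} (hX : X ≤ DD h) : avg ρ X * avg ρ (DD h) = avg ρ (DD h) :=
  d.avg_mul' hX le_rfl le_rfl hX le_rfl le_sup_right

theorem DD_mul (d : Abs ρ S h Z p) {X : Subgroup N} (hX : X ≤ DD h) : avg ρ (DD h) * avg ρ X = avg ρ (DD h) :=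
  d.avg_mul' le_rfl hX le_rfl le_rfl hX le_sup_left

theorem add_self' (d : Abs ρ S h Z p) (T : AddMonoid.End A) : T + T = 0 := End_two d.two T

theorem eps_idem (d : Abs ρ S h Z p) (l : Fin k) : eps ρ h l * eps ρ h l = eps ρ h l := by
  rw [eps, mul_add, add_mul, add_mul, d.self_mul (DL_le h l), d.mul_DD (DL_le h l), d.DD_mul (DL_le h l),
    d.self_mul le_rfl, d.add_self', add_zero]

theorem eps_orth (d : Abs ρ S h Z p) {l m : Fin k} (hlm : l ≠ m) : eps ρ h l * eps ρ h m = 0 := by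
  rw [eps, eps, mul_add, add_mul, add_mul, d.DL_DL hlm, d.mul_DD (DL_le h l), d.DD_mul (DL_le h m),
    d.self_mul le_rfl, d.add_self']

theorem h_mul_eps (d : Abs ρ S h Z p) {l m : Fin k} (hml : m ≠ l) : ρ (h m) * eps ρ h l = eps ρ h l := by
  rw [eps, mul_add, left_avg ρ (h_mem_DL h hml), left_avg ρ (h_mem_DD h m)]

/-- An element of `N` which commutes with all `h m` commutes with `eps l`. -/
theorem commute_DD (d : Abs ρ S h Z p) {x : N} (hx : x ∈ DD h) (l : Fin k) :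
    ρ x * eps ρ h l = eps ρ h l * ρ x := by
  rw [eps, mul_add, add_mul]
  congr 1
  · refine commute_avg ρ fun y hy => ?_
    rw [← map_mul, ← map_mul, d.DD_comm x hx y (DL_le h l hy)]
  · refine commute_avg ρ fun y hy => ?_
    rw [← map_mul, ← map_mul, d.DD_comm x hx y hy]

/-! ### the action of `S` -/

/-- `s` permutes the `⟨h l⟩` as `σ`. -/
def Perm (h : Fin k → N) (s : N) (σ : Equiv.Perm (Fin k)) : Prop :=
  ∀ l, ∃ r : ℕ, s * h l * s⁻¹ = h (σ l) ^ r

theorem map_DL_le {s : N} {σ : Equiv.Perm (Fin k)} (hs : Perm h s σ) (l : Fin k) :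
    (DL h l).map (MulAut.conj s).toMonoidHom ≤ DL h (σ l) := by
  rw [DL, MonoidHom.map_closure, closure_le]
  rintro _ ⟨_, ⟨m, hm, rfl⟩, rfl⟩
  obtain ⟨r, hr⟩ := hs m
  have : (MulAut.conj s).toMonoidHom (h m) = h (σ m) ^ r := by rw [← hr]; rfl
  rw [SetLike.mem_coe, this]
  exact pow_mem (h_mem_DL h fun e => hm (σ.injective e)) _

theorem map_DD_le {s : N} {σ : Equiv.Perm (Fin k)} (hs : Perm h s σ) :
    (DD h).map (MulAut.conj s).toMonoidHom ≤ DD h := by
  rw [DD, MonoidHom.map_closure, closure_le]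
  rintro _ ⟨_, ⟨m, rfl⟩, rfl⟩
  obtain ⟨r, hr⟩ := hs m
  have : (MulAut.conj s).toMonoidHom (h m) = h (σ m) ^ r := by rw [← hr]; rfl
  rw [SetLike.mem_coe, this]
  exact pow_mem (h_mem_DD h _) _

theorem card_map_conj (X : Subgroup N) (s : N) :
    Nat.card (X.map (MulAut.conj s).toMonoidHom) = Nat.card X :=
  Nat.card_congr (X.equivMapOfInjective (MulAut.conj s).toMonoidHom (MulAut.conj s).injective).toEquiv.symm

theorem map_DD {s : N} {σ : Equiv.Perm (Fin k)} (hs : Perm h s σ) :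
    (DD h).map (MulAut.conj s).toMonoidHom = DD h :=
  eq_of_le_of_card_ge (map_DD_le hs) (card_map_conj _ _).ge

theorem map_DL {s : N} {σ : Equiv.Perm (Fin k)} (hs : Perm h s σ) (l : Fin k) :
    (DL h l).map (MulAut.conj s).toMonoidHom = DL h (σ l) := by
  have h1 : ∀ m, Nat.card (DL h m) ≤ Nat.card (DL h (σ m)) := by
    intro m
    rw [← card_map_conj (DL h m) s]
    exact Subgroup.card_le_of_le (map_DL_le hs m)
  have h2 := (Finset.sum_eq_sum_iff_of_le (s := Finset.univ) (fun i _ => h1 i)).1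
    (Equiv.sum_comp σ fun m => Nat.card (DL h m)).symm l (Finset.mem_univ l)
  refine eq_of_le_of_card_ge (map_DL_le hs l) ?_
  rw [card_map_conj, h2]

theorem conj_eps {s : N} {σ : Equiv.Perm (Fin k)} (hs : Perm h s σ) (l : Fin k) :
    ρ s * eps ρ h l = eps ρ h (σ l) * ρ s := by
  rw [eps, eps, mul_add, add_mul, avg_conj, avg_conj, map_DL hs, map_DD hs]

/-! ### (1) -/

theorem pow_fix {x : N} {a : A} (hx : ρ x a = a) {y : N} (hy : y ∈ zpowers x) : ρ y a = a := by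
  obtain ⟨n, rfl⟩ := hy
  have h1 : ∀ m : ℕ, ρ (x ^ m) a = a := by
    intro m
    induction m with
    | zero => rw [pow_zero, map_one]; rfl
    | succ m ih => rw [pow_succ, map_mul]; change ρ (x ^ m) (ρ x a) = a; rw [hx, ih]
  rcases n with n | n
  · have h3 := h1 n
    change ρ (x ^ ((n : ℕ) : ℤ)) a = a
    rw [zpow_natCast]
    exact h3
  · have h3 : ρ (x ^ (n + 1)) a = a := h1 _
    calc ρ ((fun z : ℤ => x ^ z) (Int.negSucc n)) a = ρ (x ^ (n + 1))⁻¹ a := by
          rw [show (fun z : ℤ => x ^ z) (Int.negSucc n) = (x ^ (n + 1))⁻¹ from zpow_negSucc x n]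
      _ = ρ (x ^ (n + 1))⁻¹ (ρ (x ^ (n + 1)) a) := by rw [h3]
      _ = ρ ((x ^ (n + 1))⁻¹ * x ^ (n + 1)) a := by rw [map_mul]; rfl
      _ = a := by rw [inv_mul_cancel, map_one]; rfl

/-- `Z l` is invariant under `D`. -/
theorem Z_inv (d : Abs ρ S h Z p) (l : Fin k) : ∀ x ∈ DD h, ∀ z ∈ Z l, ρ x z ∈ Z l := by
  have hgen : ∀ m, ∀ z ∈ Z l, ρ (h m) z ∈ Z l := by
    intro m z hz
    by_cases hm : l = m
    · subst hm; exact d.Znor l z hz
    · rw [d.Zcent l m hm z hz]; exact hz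
  intro x hx
  rw [DD] at hx
  induction hx using Subgroup.closure_induction with
  | mem y hy => obtain ⟨m, rfl⟩ := hy; exact hgen m
  | one => intro z hz; rw [map_one]; exact hz
  | mul a b ha hb iha ihb => intro z hz; rw [map_mul]; exact iha _ (ihb z hz)
  | inv a ha iha =>
    intro z hz
    -- `a⁻¹ = a ^ (p - 1)`
    have h1 : a⁻¹ = a ^ (p - 1) := by
      have h2 := d.DD_pow a ha
      have h3 : a ^ (p - 1) * a = 1 := by
        rw [← pow_succ, Nat.sub_add_cancel d.prime.one_lt.le, h2]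
      exact (eq_inv_of_mul_eq_one_left h3).symm
    rw [h1]
    generalize p - 1 = n
    induction n with
    | zero => rw [pow_zero, map_one]; exact hz
    | succ n ih => rw [pow_succ', map_mul]; exact iha _ ih

theorem avg_Z (d : Abs ρ S h Z p) {l : Fin k} {X : Subgroup N} (hX : X ≤ DD h) (hl : h l ∈ X) {z : A}
    (hz : z ∈ Z l) : avg ρ X z = 0 := by
  refine d.Zfpf l _ (avg_mem ρ (fun x hx => d.Z_inv l x (hX hx)) hz) ?_
  exact fix_avg_apply ρ hl z

theorem avg_DL_Z (d : Abs ρ S h Z p) {l : Fin k} {z : A} (hz : z ∈ Z l) : avg ρ (DL h l) z = z := by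
  refine avg_apply_of_fix ρ d.two (d.odd_card (DL_le h l)) fun x hx => ?_
  rw [DL] at hx
  induction hx using Subgroup.closure_induction with
  | mem y hy => obtain ⟨m, hm, rfl⟩ := hy; exact d.Zcent l m (fun e => hm e.symm) z hz
  | one => rw [map_one]; rfl
  | mul a b ha hb iha ihb => rw [map_mul]; change ρ a (ρ b z) = z; rw [ihb, iha]
  | inv a ha iha => exact pow_fix iha ⟨-1, by simp⟩

theorem eps_Z (d : Abs ρ S h Z p) {l : Fin k} {z : A} (hz : z ∈ Z l) : eps ρ h l z = z := by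
  change avg ρ (DL h l) z + avg ρ (DD h) z = z
  rw [d.avg_DL_Z hz, d.avg_Z le_rfl (h_mem_DD h l) hz, add_zero]

theorem eps_Z' (d : Abs ρ S h Z p) {l m : Fin k} (hml : m ≠ l) {z : A} (hz : z ∈ Z l) : eps ρ h m z = 0 := by
  change avg ρ (DL h m) z + avg ρ (DD h) z = 0
  rw [d.avg_Z (DL_le h m) (h_mem_DL h hml.symm) hz, d.avg_Z le_rfl (h_mem_DD h l) hz, add_zero]

theorem eps_ne (d : Abs ρ S h Z p) (l : Fin k) : ∃ a, eps ρ h l a ≠ 0 := by
  obtain ⟨a, ha⟩ := AddSubgroup.ne_bot_iff_exists_ne_zero.1 (d.Zne l)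
  refine ⟨a, ?_⟩
  rw [d.eps_Z a.2]
  exact fun h => ha (Subtype.ext h)

/-- **(1)** `A = ⨁ C_l`. -/
theorem sum_eps (d : Abs ρ S h Z p) : ∑ l, eps ρ h l = 1 := by
  classical
  set E : AddMonoid.End A := ∑ l, eps ρ h l with hE
  have hEE : E * E = E := by
    rw [hE, Finset.sum_mul]
    refine Finset.sum_congr rfl fun l _ => ?_
    rw [Finset.mul_sum, Finset.sum_eq_single l (fun m _ hm => d.eps_orth hm.symm)
      (fun h => (h (Finset.mem_univ l)).elim), d.eps_idem]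
  have hES : ∀ s ∈ (S : Subgroup N), ρ s * E = E * ρ s := by
    intro s hs
    obtain ⟨σ, hσ⟩ := d.perm s hs
    rw [hE, Finset.mul_sum, Finset.sum_mul]
    calc ∑ l, ρ s * eps ρ h l = ∑ l, eps ρ h (σ l) * ρ s := Finset.sum_congr rfl fun l _ => conj_eps hσ l
      _ = _ := Equiv.sum_comp σ fun l => eps ρ h l * ρ s
  have hEapp : ∀ a, E a = ∑ l, eps ρ h l a := by
    intro a
    rw [hE]
    exact AddMonoidHom.finsetSum_apply _ _ _
  have hEZ : ∀ a ∈ ⨆ l, Z l, E a = a := by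
    intro a ha
    have : ⨆ l, Z l ≤ (E : A →+ A).eqLocus (AddMonoidHom.id A) := by
      refine iSup_le fun l z hz => ?_
      change E z = z
      rw [hEapp, Finset.sum_eq_single l (fun m _ hm => d.eps_Z' hm hz)
        (fun h => (h (Finset.mem_univ l)).elim), d.eps_Z hz]
    exact this ha
  have hker : (E : A →+ A).ker = ⊥ := by
    by_contra hne
    obtain ⟨a, ha, ha0, hfix⟩ := exists_fix (ρ := ρ) d.two S.isPGroup' (K := (E : A →+ A).ker) (by
      intro s hs a ha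
      have h1 : E a = 0 := ha
      change E (ρ s a) = 0
      have h2 := congrArg (fun T : AddMonoid.End A => T a) (hES s hs)
      change ρ s (E a) = E (ρ s a) at h2
      rw [← h2, h1, map_zero]) hne
    have h1 : E a = 0 := ha
    rw [hEZ a (d.fix a hfix)] at h1
    exact ha0 h1
  ext a
  have h1 : a + E a ∈ (E : A →+ A).ker := by
    change E (a + E a) = 0
    have h2 := congrArg (fun T : AddMonoid.End A => T a) hEE
    change E (E a) = E a at h2
    rw [map_add, h2, d.two]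
  rw [hker, AddSubgroup.mem_bot] at h1
  change E a = a
  have h3 := d.two a
  calc E a = a + a + E a := by rw [h3, zero_add]
    _ = a + (a + E a) := by rw [add_assoc]
    _ = a := by rw [h1, add_zero]

theorem avg_h_mul_eps (d : Abs ρ S h Z p) (l : Fin k) : avg ρ (zpowers (h l)) * eps ρ h l = 0 := by
  rw [eps, mul_add, d.mul_DD (zpowers_le_DD h l),
    d.avg_mul' (zpowers_le_DD h l) (DL_le h l) le_rfl (zpowers_le_DD h l) (DL_le h l) (DD_le_sup' l), d.add_self']

/-- `eps l = 1 + avg ⟨h l⟩`. -/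
theorem eps_eq (d : Abs ρ S h Z p) (l : Fin k) : eps ρ h l = 1 + avg ρ (zpowers (h l)) := by
  classical
  have h1 : avg ρ (zpowers (h l)) = ∑ m, avg ρ (zpowers (h l)) * eps ρ h m := by
    rw [← Finset.mul_sum, d.sum_eps, mul_one]
  have h2 : eps ρ h l + avg ρ (zpowers (h l)) = 1 := by
    rw [h1, ← d.sum_eps, ← Finset.add_sum_erase Finset.univ _ (Finset.mem_univ l),
      ← Finset.add_sum_erase (a := l) Finset.univ (fun m => eps ρ h m) (Finset.mem_univ l), d.avg_h_mul_eps, zero_add]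
    congr 1
    refine Finset.sum_congr rfl fun m hm => ?_
    have hml : l ≠ m := (Finset.ne_of_mem_erase hm).symm
    refine avg_mul_of_fix ρ d.two (d.odd_card (zpowers_le_DD h l)) fun x hx => ?_
    ext a
    exact pow_fix (ρ := ρ) (congrArg (fun T : AddMonoid.End A => T a) (d.h_mul_eps hml)) hx
  calc eps ρ h l = eps ρ h l + (avg ρ (zpowers (h l)) + avg ρ (zpowers (h l))) := by rw [d.add_self', add_zero]
    _ = _ := by rw [← add_assoc, h2]

/-- `h l` is fixed-point-free on `C_l`. -/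
theorem fpf (d : Abs ρ S h Z p) {l : Fin k} {a : A} (ha : ρ (h l) (eps ρ h l a) = eps ρ h l a) :
    eps ρ h l a = 0 := by
  have h1 : avg ρ (zpowers (h l)) (eps ρ h l a) = eps ρ h l a :=
    avg_apply_of_fix ρ d.two (d.odd_card (zpowers_le_DD h l)) fun x hx => pow_fix ha hx
  rw [← h1]
  exact congrArg (fun T : AddMonoid.End A => T a) (d.avg_h_mul_eps l)

/-- An element of `N` which commutes with `h l` commutes with `eps l`. -/
theorem commute_eps (d : Abs ρ S h Z p) {x : N} {l : Fin k} (hx : x * h l = h l * x) :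
    ρ x * eps ρ h l = eps ρ h l * ρ x := by
  rw [d.eps_eq, mul_add, add_mul, mul_one, one_mul]
  congr 1
  refine commute_avg ρ fun y hy => ?_
  obtain ⟨n, rfl⟩ := hy
  rw [← map_mul, ← map_mul]
  congr 1
  exact ((show Commute x (h l) from hx).zpow_right n)

theorem h_ne (d : Abs ρ S h Z p) (l : Fin k) : h l ≠ 1 := by
  intro he
  obtain ⟨a, ha⟩ := d.eps_ne l
  refine ha (d.fpf ?_)
  rw [he, map_one]
  rfl

theorem orderOf_h (d : Abs ρ S h Z p) (l : Fin k) : orderOf (h l) = p := by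
  haveI := Fact.mk d.prime
  exact orderOf_eq_prime (d.hp l) (d.h_ne l)

end Abs

end Cfsg.Agent.Omega.ThmC.Four

end

section


/-!
# THEOREM C, case `q ≥ 4`, (2): no four-group all of whose involutions have the same commutator space
-/

set_option autoImplicit false
set_option linter.unusedSectionVars false
set_option linter.unusedVariables false

namespace Cfsg.Agent.Omega.ThmC.Four

open Subgroup Cfsg

universe u

/-- `[A, f]`. -/
def im {N A : Type u} [Group N] [AddCommGroup A] (ρ : N →* AddMonoid.End A) (f : N) : AddSubgroup A :=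
  AddMonoidHom.range (1 + ρ f : AddMonoid.End A)

theorem mem_im {N A : Type u} [Group N] [AddCommGroup A] {ρ : N →* AddMonoid.End A} {f : N} {a : A} :
    a ∈ im ρ f ↔ ∃ b, b + ρ f b = a := Iff.rfl

theorem rho_mul {N A : Type u} [Group N] [AddCommGroup A] (ρ : N →* AddMonoid.End A) (f g : N) (a : A) :
    ρ (f * g) a = ρ f (ρ g a) := by rw [map_mul]; rfl

theorem rho_one {N A : Type u} [Group N] [AddCommGroup A] (ρ : N →* AddMonoid.End A) (a : A) :
    ρ 1 a = a := by rw [map_one]; rfl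

namespace Abs

variable {N A : Type u} [Group N] [Finite N] [AddCommGroup A] [Finite A] {ρ : N →* AddMonoid.End A}
  {S : Sylow 2 N} {k : ℕ} {h : Fin k → N} {Z : Fin k → AddSubgroup A} {p : ℕ}

theorem Perm.mul {s t : N} {σ τ : Equiv.Perm (Fin k)} (hs : Perm h s σ) (ht : Perm h t τ) :
    Perm h (s * t) (σ * τ) := by
  intro l
  obtain ⟨r, hr⟩ := ht l
  obtain ⟨r', hr'⟩ := hs (τ l)
  refine ⟨r' * r, ?_⟩
  calc s * t * h l * (s * t)⁻¹ = s * (t * h l * t⁻¹) * s⁻¹ := by group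
    _ = (s * h (τ l) * s⁻¹) ^ r := by rw [hr, conj_pow]
    _ = h ((σ * τ) l) ^ (r' * r) := by rw [hr', ← pow_mul]; rfl

theorem conj_eps_apply {s : N} {σ : Equiv.Perm (Fin k)} (hs : Perm h s σ) (l : Fin k) (a : A) :
    ρ s (eps ρ h l a) = eps ρ h (σ l) (ρ s a) :=
  congrArg (fun T : AddMonoid.End A => T a) (conj_eps hs l)

theorem idem_apply (d : Abs ρ S h Z p) (l : Fin k) (a : A) : eps ρ h l (eps ρ h l a) = eps ρ h l a :=
  congrArg (fun T : AddMonoid.End A => T a) (d.eps_idem l)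

theorem orth_apply (d : Abs ρ S h Z p) {l m : Fin k} (hlm : l ≠ m) (a : A) : eps ρ h l (eps ρ h m a) = 0 :=
  congrArg (fun T : AddMonoid.End A => T a) (d.eps_orth hlm)

theorem sq_apply {g : N} (hgg : g * g = 1) (a : A) : ρ g (ρ g a) = a := by
  rw [← rho_mul, hgg, rho_one]

/-- elements of `[A, g]` are fixed by the involution `g`. -/
theorem fix_im {g : N} (hgg : g * g = 1) {a : A} (ha : a ∈ im ρ g) : ρ g a = a := by
  obtain ⟨b, rfl⟩ := mem_im.1 ha
  rw [map_add, sq_apply hgg, add_comm]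

theorem stepA1 (d : Abs ρ S h Z p) {f g : N} {σ τ : Equiv.Perm (Fin k)} (hf : Perm h f σ) (hg : Perm h g τ)
    (hgg : g * g = 1) (him : im ρ f ≤ im ρ g) {x : Fin k} (hx : σ x ≠ x) : τ x ≠ x := by
  intro hτ
  have key : ∀ a, ∃ b, eps ρ h x a = eps ρ h x b + ρ g (eps ρ h x b) := by
    intro a
    obtain ⟨b, hb⟩ := mem_im.1 (him (mem_im.2 ⟨eps ρ h x a, rfl⟩))
    refine ⟨b, ?_⟩
    have h1 := congrArg (eps ρ h x) hb
    rw [map_add, map_add, d.idem_apply, conj_eps_apply hf, d.orth_apply hx.symm, add_zero] at h1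
    rw [conj_eps_apply hg, hτ]
    exact h1.symm
  have hfix : ∀ a, ρ g (eps ρ h x a) = eps ρ h x a := by
    intro a
    obtain ⟨b, hb⟩ := key a
    rw [hb, map_add, sq_apply hgg, add_comm]
  obtain ⟨a, ha⟩ := d.eps_ne x
  obtain ⟨b, hb⟩ := key a
  rw [hfix, d.two] at hb
  exact ha hb

theorem stepA2 (d : Abs ρ S h Z p) {f g : N} {σ τ : Equiv.Perm (Fin k)} (hf : Perm h f σ) (hg : Perm h g τ)
    (hgg : g * g = 1) (him : im ρ f ≤ im ρ g) {x : Fin k} (hx : σ x ≠ x) (hx' : τ x ≠ x) : τ (σ x) = x := by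
  by_contra hne
  obtain ⟨a, ha⟩ := d.eps_ne x
  have h1 := fix_im hgg (him (mem_im.2 ⟨eps ρ h x a, rfl⟩))
  have h2 := congrArg (eps ρ h x) h1
  rw [map_add, map_add, map_add, d.idem_apply, conj_eps_apply hf, d.orth_apply hx.symm, add_zero,
    conj_eps_apply hg, conj_eps_apply hg, d.orth_apply (Ne.symm hx'), d.orth_apply (Ne.symm hne), add_zero] at h2
  exact ha h2.symm

theorem stepA (d : Abs ρ S h Z p) {f g : N} {σ τ : Equiv.Perm (Fin k)} (hf : Perm h f σ) (hg : Perm h g τ)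
    (hgg : g * g = 1) (hgf : g * f * (g * f) = 1) (h1 : im ρ f = im ρ g) (h2 : im ρ f = im ρ (g * f))
    (x : Fin k) : σ x = x := by
  by_contra hx
  have h3 := d.stepA1 hf hg hgg h1.le hx
  have h4 := d.stepA2 hf hg hgg h1.le hx h3
  exact d.stepA1 hf (hg.mul hf) hgf h2.le hx h4

theorem inv_or (d : Abs ρ S h Z p) {f : N} (hff : f * f = 1) {l : Fin k} {r : ℕ}
    (hr : f * h l * f⁻¹ = h l ^ r) : f * h l = h l * f ∨ f * h l = (h l)⁻¹ * f := by
  have hfi : f⁻¹ = f := by rw [inv_eq_iff_mul_eq_one, hff]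
  have h1 : h l ^ ((r : ℤ) * r) = h l ^ (1 : ℤ) := by
    have e1 : f * (f * h l * f⁻¹) * f⁻¹ = h l := by
      calc f * (f * h l * f⁻¹) * f⁻¹ = (f * f) * h l * (f * f)⁻¹ := by group
        _ = h l := by rw [hff]; group
    have e2 : f * h l ^ r * f⁻¹ = h l ^ (r * r) := by
      rw [← conj_pow, hr, ← pow_mul]
    rw [hr, e2] at e1
    rw [zpow_one, ← Nat.cast_mul, zpow_natCast, e1]
  rw [← orderOf_dvd_sub_iff_zpow_eq_zpow, d.orderOf_h] at h1
  have h2 : (r : ℤ) * r - 1 = (r - 1) * (r - (-1)) := by ring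
  rw [h2] at h1
  have key : ∀ n : ℤ, (p : ℤ) ∣ r - n → f * h l = h l ^ n * f := by
    intro n hn
    rw [← d.orderOf_h l, orderOf_dvd_sub_iff_zpow_eq_zpow, zpow_natCast, ← hr] at hn
    rw [← hn, inv_mul_cancel_right]
  rcases (Nat.prime_iff_prime_int.1 d.prime).dvd_or_dvd h1 with h3 | h3
  · left
    rw [key 1 h3, zpow_one]
  · right
    rw [key (-1) h3, zpow_neg_one]

theorem sq_fix (d : Abs ρ S h Z p) {l : Fin k} {a : A} (ha : ρ (h l) (ρ (h l) a) = a) : ρ (h l) a = a := by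
  have h1 : ρ (h l ^ 2) a = a := by rw [pow_two, rho_mul, ha]
  refine pow_fix h1 ?_
  obtain ⟨m, hm⟩ := d.prime.odd_of_ne_two d.odd
  refine ⟨(m + 1 : ℕ), ?_⟩
  change (h l ^ 2) ^ ((m + 1 : ℕ) : ℤ) = h l
  rw [zpow_natCast, ← pow_mul, show 2 * (m + 1) = p + 1 by omega, pow_succ, d.hp, one_mul]

theorem fpf' (d : Abs ρ S h Z p) {l : Fin k} {a : A} (he : eps ρ h l a = a) (ha : ρ (h l) a = a) : a = 0 := by
  have := d.fpf (l := l) (a := a) (by rw [he, ha])
  rwa [he] at this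

theorem commute_eps_apply (d : Abs ρ S h Z p) {x : N} {l : Fin k} (hx : x * h l = h l * x) (a : A) :
    ρ x (eps ρ h l a) = eps ρ h l (ρ x a) :=
  congrArg (fun T : AddMonoid.End A => T a) (d.commute_eps hx)

/-- If `f` inverts `h l` and `im f = im f''` where `f''` commutes with `h l`: contradiction. -/
theorem stepB (d : Abs ρ S h Z p) {f f' : N} (hff : f * f = 1) {l : Fin k}
    (hfc : ∀ a, ρ f (eps ρ h l a) = eps ρ h l (ρ f a)) (hf : f * h l = (h l)⁻¹ * f)
    (hf' : f' * h l = h l * f') (him : im ρ f = im ρ f') : False := by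
  -- `f` is trivial on the vectors `c` with `f c = c`, `f (h c) = h c`
  have key : ∀ c, eps ρ h l c = c → ρ f c = c → ρ f (ρ (h l) c) = ρ (h l) c → c = 0 := by
    intro c hc h1 h2
    refine d.fpf' hc (d.sq_fix ?_)
    have h3 : ρ f (ρ (h l) c) = ρ (h l)⁻¹ c := by
      rw [← rho_mul, hf, rho_mul, h1]
    rw [h2] at h3
    rw [h3, ← rho_mul, mul_inv_cancel, rho_one]
  have hh : ∀ a, ρ (h l) (eps ρ h l a) = eps ρ h l (ρ (h l) a) := fun a => d.commute_eps_apply rfl a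
  have h1 : ∀ a, ρ f (eps ρ h l a) = eps ρ h l a := by
    intro a
    have h0 : eps ρ h l a + ρ f (eps ρ h l a) = 0 := by
      set c := eps ρ h l a + ρ f (eps ρ h l a) with hc
      have hcim : c ∈ im ρ f := mem_im.2 ⟨_, rfl⟩
      have hce : eps ρ h l c = c := by rw [hc, map_add, d.idem_apply, hfc, d.idem_apply]
      refine key c hce (fix_im hff hcim) ?_
      refine fix_im hff ?_
      rw [him] at hcim ⊢
      obtain ⟨b, hb⟩ := mem_im.1 hcim
      refine mem_im.2 ⟨ρ (h l) b, ?_⟩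
      rw [← hb, map_add, ← rho_mul, ← rho_mul, hf']
    calc ρ f (eps ρ h l a) = (eps ρ h l a + eps ρ h l a) + ρ f (eps ρ h l a) := by rw [d.two, zero_add]
      _ = eps ρ h l a := by rw [add_assoc, h0, add_zero]
  obtain ⟨a, ha⟩ := d.eps_ne l
  refine ha (key _ (d.idem_apply l a) (h1 a) ?_)
  rw [hh, h1]

theorem no_four_S (d : Abs ρ S h Z p) {f g : N} (hf : f ∈ (S : Subgroup N)) (hg : g ∈ (S : Subgroup N))
    (hff : f * f = 1) (hgg : g * g = 1) (hfg : f * g = g * f) (hf1 : f ≠ 1)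
    (h1 : im ρ f = im ρ g) (h2 : im ρ f = im ρ (g * f)) : False := by
  obtain ⟨σ, hσ⟩ := d.perm f hf
  obtain ⟨τ, hτ⟩ := d.perm g hg
  have hgf : g * f * (g * f) = 1 := by
    calc g * f * (g * f) = g * (f * g) * f := by group
      _ = (g * g) * (f * f) := by rw [hfg]; group
      _ = 1 := by rw [hff, hgg, one_mul]
  have hfg' : f * g * (f * g) = 1 := by rw [hfg]; exact hgf
  have hσ1 : ∀ x, σ x = x := d.stepA hσ hτ hgg hgf h1 h2
  have hτ1 : ∀ x, τ x = x := d.stepA hτ hσ hff hfg' h1.symm (by rw [← h1, h2, hfg])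
  have hσ2 : ∀ l, ∃ r : ℕ, f * h l * f⁻¹ = h l ^ r := fun l => by
    obtain ⟨r, hr⟩ := hσ l
    exact ⟨r, by rw [hr, hσ1]⟩
  have hτ2 : ∀ l, ∃ r : ℕ, g * h l * g⁻¹ = h l ^ r := fun l => by
    obtain ⟨r, hr⟩ := hτ l
    exact ⟨r, by rw [hr, hτ1]⟩
  -- some `h l` is inverted by `f`
  have hl : ∃ l, ¬ f * h l = h l * f := by
    by_contra hcon
    push Not at hcon
    exact hf1 (d.field f hf hcon)
  obtain ⟨l, hl⟩ := hl
  obtain ⟨r, hr⟩ := hσ2 l
  have hinv : f * h l = (h l)⁻¹ * f := (d.inv_or hff hr).resolve_left hl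
  have hfc : ∀ a, ρ f (eps ρ h l a) = eps ρ h l (ρ f a) := by
    intro a
    rw [conj_eps_apply hσ, hσ1]
  obtain ⟨r', hr'⟩ := hτ2 l
  rcases d.inv_or hgg hr' with hg1 | hg1
  · exact d.stepB hff hfc hinv hg1 h1
  · refine d.stepB hff hfc hinv (f' := g * f) ?_ h2
    calc g * f * h l = g * (f * h l) := by group
      _ = (g * h l * g⁻¹)⁻¹ * g * f := by rw [hinv]; group
      _ = h l * (g * f) := by rw [hg1]; group

theorem exists_conj_le {N : Type u} [Group N] [Finite N] {S : Sylow 2 N} {M : Subgroup N}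
    (hS : (S : Subgroup N) ≤ M) {T : Subgroup N} (hT : IsPGroup 2 T) (hTM : T ≤ M) :
    ∃ x ∈ M, ∀ t ∈ T, x * t * x⁻¹ ∈ (S : Subgroup N) := by
  obtain ⟨Q, hQ⟩ := (hT.comap_of_injective M.subtype M.subtype_injective).exists_le_sylow
  obtain ⟨x, hx⟩ := MulAction.exists_smul_eq M Q (S.subtype hS)
  refine ⟨x, x.2, fun t ht => ?_⟩
  have h1 : (⟨t, hTM ht⟩ : M) ∈ Q := hQ ht
  have h2 : x * ⟨t, hTM ht⟩ * x⁻¹ ∈ (x • Q : Sylow 2 M) := by
    rw [← SetLike.mem_coe, Sylow.coe_smul]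
    exact ⟨⟨t, hTM ht⟩, h1, rfl⟩
  rw [hx] at h2
  exact h2

theorem im_conj (x f : N) : im ρ (x * f * x⁻¹) = (im ρ f).map (ρ x : A →+ A) := by
  ext a
  constructor
  · intro ha
    obtain ⟨b, rfl⟩ := mem_im.1 ha
    refine ⟨ρ x⁻¹ b + ρ f (ρ x⁻¹ b), mem_im.2 ⟨_, rfl⟩, ?_⟩
    change ρ x (ρ x⁻¹ b + ρ f (ρ x⁻¹ b)) = _
    rw [map_add, ← rho_mul, mul_inv_cancel, rho_one, ← rho_mul, ← rho_mul]
  · rintro ⟨_, hc, rfl⟩
    obtain ⟨b, rfl⟩ := mem_im.1 hc
    refine mem_im.2 ⟨ρ x b, ?_⟩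
    change _ = ρ x (b + ρ f b)
    rw [map_add, ← rho_mul, ← rho_mul]
    congr 3
    group

/-- **(2)**: a 2-subgroup of `N` contains no four-group `⟨f, g⟩` with `[A, f] = [A, g] = [A, fg]`. -/
theorem no_four (d : Abs ρ S h Z p) {T : Subgroup N} (hT : IsPGroup 2 T) {f g : N} (hf : f ∈ T) (hg : g ∈ T)
    (hff : f * f = 1) (hgg : g * g = 1) (hfg : f * g = g * f) (hf1 : f ≠ 1)
    (h1 : im ρ f = im ρ g) (h2 : im ρ f = im ρ (g * f)) : False := by
  obtain ⟨x, -, hx⟩ := exists_conj_le (S := S) (M := ⊤) le_top hT le_top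
  refine d.no_four_S (hx f hf) (hx g hg) ?_ ?_ ?_ ?_ ?_ ?_
  · calc x * f * x⁻¹ * (x * f * x⁻¹) = x * (f * f) * x⁻¹ := by group
      _ = 1 := by rw [hff]; group
  · calc x * g * x⁻¹ * (x * g * x⁻¹) = x * (g * g) * x⁻¹ := by group
      _ = 1 := by rw [hgg]; group
  · calc x * f * x⁻¹ * (x * g * x⁻¹) = x * (f * g) * x⁻¹ := by group
      _ = x * g * x⁻¹ * (x * f * x⁻¹) := by rw [hfg]; group
  · intro h3
    apply hf1
    calc f = x⁻¹ * (x * f * x⁻¹) * x := by group
      _ = 1 := by rw [h3]; group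
  · rw [im_conj, im_conj, h1]
  · rw [show x * g * x⁻¹ * (x * f * x⁻¹) = x * (g * f) * x⁻¹ by group, im_conj, im_conj, h2]

end Abs

end Cfsg.Agent.Omega.ThmC.Four

end

section


/-!
# THEOREM C with `D = C_V(O²(P))`, case `q ≥ 4` (bb OMEGA #19922, helper399; #20115, helper914): the data

* `DatD S L Z h p` : the situation in `G` (`L = S^L`, `E = Ω₁ Z(L)`, `Z l = Z_l`, `h l = h_l`); it is
  `ThmC.Four.Dat` with a weaker condition on `Ω₁ Z(S)`.
* `AbsD ρ S h Z p` : the situation in the group `N = N_G(E) / C_G(E)` acting faithfully on `E` (written additively).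
-/

set_option autoImplicit false

namespace Cfsg.Agent.Omega.IId.ThmCQ

open Subgroup Cfsg Cfsg.Agent.ZN Cfsg.Agent.Omega.ThmC.Four

universe u

/-- The data of THEOREM C with `D`, case `q ≥ 4`. `L = S^L`, `E = Ω₁ Z(L)`. -/
structure DatD {G : Type u} [Group G] [Finite G] (S : Sylow 2 G) (L : Subgroup G) {k : ℕ}
    (Z : Fin k → Subgroup G) (h : Fin k → G) (p : ℕ) : Prop where
  prime : p.Prime
  odd : p ≠ 2
  LS : L ≤ S
  nor : (S : Subgroup G) ≤ normalizer (L : Set G)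
  cL : centralizer (L : Set G) ≤ L
  hL : ∀ l, h l ∈ normalizer (L : Set G)
  /-- the `h l` commute and have order `p` modulo `C(E)` -/
  hcomm : ∀ l m, Act (zc L) (h l * h m) (h m * h l)
  hp : ∀ l, Act (zc L) (h l ^ p) 1
  /-- `S` permutes the `⟨h l⟩` modulo `C(E)` -/
  perm : ∀ s ∈ (S : Subgroup G), ∃ σ : Equiv.Perm (Fin k), ∀ l, ∃ r : ℕ,
    Act (zc L) (s * h l * s⁻¹) (h (σ l) ^ r)
  /-- `C_S(D^) = L` (modulo `C(E)`) -/
  field : ∀ s ∈ (S : Subgroup G), (∀ l, Act (zc L) (s * h l) (h l * s)) → s ∈ L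
  ZE : ∀ l, Z l ≤ zc L
  Zne : ∀ l, Z l ≠ ⊥
  Znor : ∀ l, h l ∈ normalizer (Z l : Set G)
  Zfpf : ∀ l, ∀ z ∈ Z l, h l * z = z * h l → z = 1
  Zcent : ∀ l m, l ≠ m → ∀ z ∈ Z l, h m * z = z * h m
  /-- `S` permutes the `Z l` -/
  Zperm : ∀ s ∈ (S : Subgroup G), ∀ l, ∃ m, ∀ v, v ∈ Z l ↔ s * v * s⁻¹ ∈ Z m
  /-- `S` is transitive on the `Z l` -/
  trans : ∀ l m, ∃ s ∈ (S : Subgroup G), ∀ v, v ∈ Z l ↔ s * v * s⁻¹ ∈ Z m
  /-- `C_E(S) ≤ C_E(D^) (∑ Z l)` -/
  fix : ∀ z ∈ zc (S : Subgroup G), ∃ d ∈ zc L, (∀ l, h l * d = d * h l) ∧ ∃ w ∈ ⨆ l, Z l, z = d * w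

/-- `C_A(D^)` -/
def C0 {N A : Type u} [Group N] [AddCommGroup A] (ρ : N →* AddMonoid.End A) {k : ℕ} (h : Fin k → N) : AddSubgroup A where
  carrier := {a | ∀ l, ρ (h l) a = a}
  zero_mem' l := map_zero _
  add_mem' ha hb l := by rw [map_add, ha l, hb l]
  neg_mem' ha l := by rw [map_neg, ha l]

/-- The data of THEOREM C with `D`, case `q ≥ 4`, in `N = N_G(E) / C_G(E)` (any finite group), acting faithfully on
`A = E` (written additively) by `ρ`. -/
structure AbsD {N A : Type u} [Group N] [Finite N] [AddCommGroup A] [Finite A] (ρ : N →* AddMonoid.End A)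
    (S : Sylow 2 N) {k : ℕ} (h : Fin k → N) (Z : Fin k → AddSubgroup A) (p : ℕ) : Prop where
  two : ∀ a : A, a + a = 0
  inj : Function.Injective ρ
  prime : p.Prime
  odd : p ≠ 2
  hcomm : ∀ l m, h l * h m = h m * h l
  hp : ∀ l, h l ^ p = 1
  perm : ∀ s ∈ (S : Subgroup N), ∃ σ : Equiv.Perm (Fin k), ∀ l, ∃ r : ℕ, s * h l * s⁻¹ = h (σ l) ^ r
  field : ∀ s ∈ (S : Subgroup N), (∀ l, s * h l = h l * s) → s = 1
  Zne : ∀ l, Z l ≠ ⊥
  Znor : ∀ l, ∀ z ∈ Z l, ρ (h l) z ∈ Z l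
  Zfpf : ∀ l, ∀ z ∈ Z l, ρ (h l) z = z → z = 0
  Zcent : ∀ l m, l ≠ m → ∀ z ∈ Z l, ρ (h m) z = z
  fix : ∀ a : A, (∀ s ∈ (S : Subgroup N), ρ s a = a) → a ∈ C0 ρ h ⊔ ⨆ l, Z l

end Cfsg.Agent.Omega.IId.ThmCQ

end

section


/-!
# THEOREM C with `D`, case `q ≥ 4`, (1): the decomposition `A = C₀ ⊕ ⨁ C_l`

`eps ρ h l` is the projection onto `C_l = [A, h l]`, `avg ρ (DD h)` the projection onto `C₀ = C_A(D^)`
(after helper334's `ThmC/FourDec.lean`).
-/

set_option autoImplicit false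
set_option linter.unusedSectionVars false
set_option linter.unusedVariables false
set_option linter.style.haveILetI false

namespace Cfsg.Agent.Omega.IId.ThmCQ

open Subgroup Cfsg Cfsg.Agent.Omega.ThmC.Four
open Cfsg.Agent.Omega.ThmC.Four.Abs (Perm zpowers_le_DD' DD_le_sup DD_le_sup' map_DL_le map_DD_le card_map_conj map_DD map_DL conj_eps pow_fix)

universe u

namespace AbsD

variable {N A : Type u} [Group N] [Finite N] [AddCommGroup A] [Finite A] {ρ : N →* AddMonoid.End A}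
  {S : Sylow 2 N} {k : ℕ} {h : Fin k → N} {Z : Fin k → AddSubgroup A} {p : ℕ}

theorem DD_comm (d : AbsD ρ S h Z p) : ∀ x ∈ DD h, ∀ y ∈ DD h, x * y = y * x := by
  have h1 : ∀ l, ∀ y ∈ DD h, h l * y = y * h l := by
    intro l y hy
    have : DD h ≤ centralizer ({h l} : Set N) := by
      rw [DD, closure_le]
      rintro _ ⟨m, rfl⟩
      rw [SetLike.mem_coe, mem_centralizer_iff]
      rintro _ rfl
      exact d.hcomm l m
    exact mem_centralizer_iff.1 (this hy) _ rfl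
  intro x hx y hy
  have : DD h ≤ centralizer ({y} : Set N) := by
    rw [DD, closure_le]
    rintro _ ⟨m, rfl⟩
    rw [SetLike.mem_coe, mem_centralizer_iff]
    rintro _ rfl
    exact (h1 m _ hy).symm
  exact (mem_centralizer_iff.1 (this hx) _ rfl).symm

theorem DD_pow (d : AbsD ρ S h Z p) : ∀ x ∈ DD h, x ^ p = 1 := by
  intro x hx
  have hx' := hx
  rw [DD] at hx
  induction hx using Subgroup.closure_induction with
  | mem z hz => obtain ⟨l, rfl⟩ := hz; exact d.hp l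
  | one => exact one_pow _
  | mul a b ha hb iha ihb =>
    have hc : Commute a b := d.DD_comm a ha b hb
    rw [hc.mul_pow, iha ha, ihb hb, one_mul]
  | inv a ha iha => rw [inv_pow, iha ha, inv_one]

theorem odd_card (d : AbsD ρ S h Z p) {X : Subgroup N} (hX : X ≤ DD h) : Odd (Nat.card X) := by
  haveI := Fact.mk d.prime
  have : IsPGroup p X := fun x => ⟨1, by
    rw [pow_one]
    exact Subtype.ext (d.DD_pow _ (hX x.2))⟩
  obtain ⟨n, hn⟩ := IsPGroup.iff_card.1 this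
  rw [hn]
  exact (d.prime.odd_of_ne_two d.odd).pow

theorem avg_mul' (d : AbsD ρ S h Z p) {X Y Z' : Subgroup N} (hX : X ≤ DD h) (hY : Y ≤ DD h) (hZ : Z' ≤ DD h)
    (hXZ : X ≤ Z') (hYZ : Y ≤ Z') (hle : Z' ≤ X ⊔ Y) : avg ρ X * avg ρ Y = avg ρ Z' :=
  avg_mul_avg ρ d.two (d.odd_card hX) (d.odd_card hY) (d.odd_card hZ) hXZ hYZ hle
    fun x hx y hy => d.DD_comm x (hX hx) y (hY hy)

theorem DL_DL (d : AbsD ρ S h Z p) {l m : Fin k} (hlm : l ≠ m) :
    avg ρ (DL h l) * avg ρ (DL h m) = avg ρ (DD h) :=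
  d.avg_mul' (DL_le h l) (DL_le h m) le_rfl (DL_le h l) (DL_le h m) (DD_le_sup hlm)

theorem self_mul (d : AbsD ρ S h Z p) {X : Subgroup N} (hX : X ≤ DD h) : avg ρ X * avg ρ X = avg ρ X :=
  d.avg_mul' hX hX hX le_rfl le_rfl le_sup_left

theorem mul_DD (d : AbsD ρ S h Z p) {X : Subgroup N} (hX : X ≤ DD h) : avg ρ X * avg ρ (DD h) = avg ρ (DD h) :=
  d.avg_mul' hX le_rfl le_rfl hX le_rfl le_sup_right

theorem DD_mul (d : AbsD ρ S h Z p) {X : Subgroup N} (hX : X ≤ DD h) : avg ρ (DD h) * avg ρ X = avg ρ (DD h) :=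
  d.avg_mul' le_rfl hX le_rfl le_rfl hX le_sup_left

theorem add_self' (d : AbsD ρ S h Z p) (T : AddMonoid.End A) : T + T = 0 := End_two d.two T

theorem eps_idem (d : AbsD ρ S h Z p) (l : Fin k) : eps ρ h l * eps ρ h l = eps ρ h l := by
  rw [eps, mul_add, add_mul, add_mul, d.self_mul (DL_le h l), d.mul_DD (DL_le h l), d.DD_mul (DL_le h l),
    d.self_mul le_rfl, d.add_self', add_zero]

theorem eps_orth (d : AbsD ρ S h Z p) {l m : Fin k} (hlm : l ≠ m) : eps ρ h l * eps ρ h m = 0 := by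
  rw [eps, eps, mul_add, add_mul, add_mul, d.DL_DL hlm, d.mul_DD (DL_le h l), d.DD_mul (DL_le h m),
    d.self_mul le_rfl, d.add_self']

theorem h_mul_eps (d : AbsD ρ S h Z p) {l m : Fin k} (hml : m ≠ l) : ρ (h m) * eps ρ h l = eps ρ h l := by
  rw [eps, mul_add, left_avg ρ (h_mem_DL h hml), left_avg ρ (h_mem_DD h m)]

/-- An element of `N` which commutes with all `h m` commutes with `eps l`. -/
theorem commute_DD (d : AbsD ρ S h Z p) {x : N} (hx : x ∈ DD h) (l : Fin k) :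
    ρ x * eps ρ h l = eps ρ h l * ρ x := by
  rw [eps, mul_add, add_mul]
  congr 1
  · refine commute_avg ρ fun y hy => ?_
    rw [← map_mul, ← map_mul, d.DD_comm x hx y (DL_le h l hy)]
  · refine commute_avg ρ fun y hy => ?_
    rw [← map_mul, ← map_mul, d.DD_comm x hx y hy]

/-! ### (1) -/

/-- `Z l` is invariant under `D`. -/
theorem Z_inv (d : AbsD ρ S h Z p) (l : Fin k) : ∀ x ∈ DD h, ∀ z ∈ Z l, ρ x z ∈ Z l := by
  have hgen : ∀ m, ∀ z ∈ Z l, ρ (h m) z ∈ Z l := by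
    intro m z hz
    by_cases hm : l = m
    · subst hm; exact d.Znor l z hz
    · rw [d.Zcent l m hm z hz]; exact hz
  intro x hx
  rw [DD] at hx
  induction hx using Subgroup.closure_induction with
  | mem y hy => obtain ⟨m, rfl⟩ := hy; exact hgen m
  | one => intro z hz; rw [map_one]; exact hz
  | mul a b ha hb iha ihb => intro z hz; rw [map_mul]; exact iha _ (ihb z hz)
  | inv a ha iha =>
    intro z hz
    -- `a⁻¹ = a ^ (p - 1)`
    have h1 : a⁻¹ = a ^ (p - 1) := by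
      have h2 := d.DD_pow a ha
      have h3 : a ^ (p - 1) * a = 1 := by
        rw [← pow_succ, Nat.sub_add_cancel d.prime.one_lt.le, h2]
      exact (eq_inv_of_mul_eq_one_left h3).symm
    rw [h1]
    generalize p - 1 = n
    induction n with
    | zero => rw [pow_zero, map_one]; exact hz
    | succ n ih => rw [pow_succ', map_mul]; exact iha _ ih

theorem avg_Z (d : AbsD ρ S h Z p) {l : Fin k} {X : Subgroup N} (hX : X ≤ DD h) (hl : h l ∈ X) {z : A}
    (hz : z ∈ Z l) : avg ρ X z = 0 := by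
  refine d.Zfpf l _ (avg_mem ρ (fun x hx => d.Z_inv l x (hX hx)) hz) ?_
  exact fix_avg_apply ρ hl z

theorem avg_DL_Z (d : AbsD ρ S h Z p) {l : Fin k} {z : A} (hz : z ∈ Z l) : avg ρ (DL h l) z = z := by
  refine avg_apply_of_fix ρ d.two (d.odd_card (DL_le h l)) fun x hx => ?_
  rw [DL] at hx
  induction hx using Subgroup.closure_induction with
  | mem y hy => obtain ⟨m, hm, rfl⟩ := hy; exact d.Zcent l m (fun e => hm e.symm) z hz
  | one => rw [map_one]; rfl
  | mul a b ha hb iha ihb => rw [map_mul]; change ρ a (ρ b z) = z; rw [ihb, iha]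
  | inv a ha iha => exact pow_fix iha ⟨-1, by simp⟩

theorem eps_Z (d : AbsD ρ S h Z p) {l : Fin k} {z : A} (hz : z ∈ Z l) : eps ρ h l z = z := by
  change avg ρ (DL h l) z + avg ρ (DD h) z = z
  rw [d.avg_DL_Z hz, d.avg_Z le_rfl (h_mem_DD h l) hz, add_zero]

theorem eps_Z' (d : AbsD ρ S h Z p) {l m : Fin k} (hml : m ≠ l) {z : A} (hz : z ∈ Z l) : eps ρ h m z = 0 := by
  change avg ρ (DL h m) z + avg ρ (DD h) z = 0
  rw [d.avg_Z (DL_le h m) (h_mem_DL h hml.symm) hz, d.avg_Z le_rfl (h_mem_DD h l) hz, add_zero]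

theorem eps_ne (d : AbsD ρ S h Z p) (l : Fin k) : ∃ a, eps ρ h l a ≠ 0 := by
  obtain ⟨a, ha⟩ := AddSubgroup.ne_bot_iff_exists_ne_zero.1 (d.Zne l)
  refine ⟨a, ?_⟩
  rw [d.eps_Z a.2]
  exact fun h => ha (Subtype.ext h)

theorem DD_mul_eps (d : AbsD ρ S h Z p) (l : Fin k) : avg ρ (DD h) * eps ρ h l = 0 := by
  rw [eps, mul_add, d.DD_mul (DL_le h l), d.self_mul le_rfl, d.add_self']

theorem eps_mul_DD (d : AbsD ρ S h Z p) (l : Fin k) : eps ρ h l * avg ρ (DD h) = 0 := by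
  rw [eps, add_mul, d.mul_DD (DL_le h l), d.self_mul le_rfl, d.add_self']

/-- `C₀` is fixed by `D^`. -/
theorem C0_fix {a : A} (ha : a ∈ C0 ρ h) : ∀ x ∈ DD h, ρ x a = a := by
  intro x hx
  rw [DD] at hx
  induction hx using Subgroup.closure_induction with
  | mem y hy => obtain ⟨m, rfl⟩ := hy; exact ha m
  | one => rw [map_one]; rfl
  | mul a b ha hb iha ihb => rw [map_mul]; change ρ a (ρ b _) = _; rw [ihb, iha]
  | inv a ha iha => exact pow_fix iha ⟨-1, by simp⟩

theorem avg_C0 (d : AbsD ρ S h Z p) {X : Subgroup N} (hX : X ≤ DD h) {a : A} (ha : a ∈ C0 ρ h) : avg ρ X a = a :=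
  avg_apply_of_fix ρ d.two (d.odd_card hX) fun x hx => C0_fix ha x (hX hx)

theorem eps_C0 (d : AbsD ρ S h Z p) (l : Fin k) {a : A} (ha : a ∈ C0 ρ h) : eps ρ h l a = 0 := by
  change avg ρ (DL h l) a + avg ρ (DD h) a = 0
  rw [d.avg_C0 (DL_le h l) ha, d.avg_C0 le_rfl ha, d.two]

/-- **(1)** `A = C₀ ⊕ ⨁ C_l`. -/
theorem sum_eps (d : AbsD ρ S h Z p) : avg ρ (DD h) + ∑ l, eps ρ h l = 1 := by
  classical
  set E₁ : AddMonoid.End A := ∑ l, eps ρ h l with hE₁
  set E : AddMonoid.End A := avg ρ (DD h) + E₁ with hE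
  have hEE₁ : E₁ * E₁ = E₁ := by
    rw [hE₁, Finset.sum_mul]
    refine Finset.sum_congr rfl fun l _ => ?_
    rw [Finset.mul_sum, Finset.sum_eq_single l (fun m _ hm => d.eps_orth hm.symm)
      (fun h => (h (Finset.mem_univ l)).elim), d.eps_idem]
  have h01 : avg ρ (DD h) * E₁ = 0 := by
    rw [hE₁, Finset.mul_sum]
    exact Finset.sum_eq_zero fun l _ => d.DD_mul_eps l
  have h10 : E₁ * avg ρ (DD h) = 0 := by
    rw [hE₁, Finset.sum_mul]
    exact Finset.sum_eq_zero fun l _ => d.eps_mul_DD l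
  have hEE : E * E = E := by
    rw [hE, mul_add, add_mul, add_mul, d.self_mul le_rfl, h10, h01, hEE₁, add_zero, zero_add]
  have hES : ∀ s ∈ (S : Subgroup N), ρ s * E = E * ρ s := by
    intro s hs
    obtain ⟨σ, hσ⟩ := d.perm s hs
    rw [hE, mul_add, add_mul, hE₁, Finset.mul_sum, Finset.sum_mul]
    congr 1
    · rw [avg_conj, map_DD hσ]
    · calc ∑ l, ρ s * eps ρ h l = ∑ l, eps ρ h (σ l) * ρ s := Finset.sum_congr rfl fun l _ => conj_eps hσ l
        _ = _ := Equiv.sum_comp σ fun l => eps ρ h l * ρ s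
  have hEapp : ∀ a, E a = avg ρ (DD h) a + ∑ l, eps ρ h l a := by
    intro a
    rw [hE, hE₁]
    change avg ρ (DD h) a + (∑ l, eps ρ h l : AddMonoid.End A) a = _
    congr 1
    exact AddMonoidHom.finsetSum_apply _ _ _
  have hEZ : ∀ a ∈ C0 ρ h ⊔ ⨆ l, Z l, E a = a := by
    intro a ha
    have : C0 ρ h ⊔ ⨆ l, Z l ≤ (E : A →+ A).eqLocus (AddMonoidHom.id A) := by
      refine sup_le (fun a ha => ?_) (iSup_le fun l z hz => ?_)
      · change E a = a
        rw [hEapp, d.avg_C0 le_rfl ha, Finset.sum_eq_zero fun l _ => d.eps_C0 l ha, add_zero]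
      · change E z = z
        rw [hEapp, d.avg_Z le_rfl (h_mem_DD h l) hz, zero_add, Finset.sum_eq_single l (fun m _ hm => d.eps_Z' hm hz)
          (fun h => (h (Finset.mem_univ l)).elim), d.eps_Z hz]
    exact this ha
  have hker : (E : A →+ A).ker = ⊥ := by
    by_contra hne
    obtain ⟨a, ha, ha0, hfix⟩ := exists_fix (ρ := ρ) d.two S.isPGroup' (K := (E : A →+ A).ker) (by
      intro s hs a ha
      have h1 : E a = 0 := ha
      change E (ρ s a) = 0
      have h2 := congrArg (fun T : AddMonoid.End A => T a) (hES s hs)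
      change ρ s (E a) = E (ρ s a) at h2
      rw [← h2, h1, map_zero]) hne
    have h1 : E a = 0 := ha
    rw [hEZ a (d.fix a hfix)] at h1
    exact ha0 h1
  ext a
  have h1 : a + E a ∈ (E : A →+ A).ker := by
    change E (a + E a) = 0
    have h2 := congrArg (fun T : AddMonoid.End A => T a) hEE
    change E (E a) = E a at h2
    rw [map_add, h2, d.two]
  rw [hker, AddSubgroup.mem_bot] at h1
  change E a = a
  have h3 := d.two a
  calc E a = a + a + E a := by rw [h3, zero_add]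
    _ = a + (a + E a) := by rw [add_assoc]
    _ = a := by rw [h1, add_zero]

theorem avg_h_mul_eps (d : AbsD ρ S h Z p) (l : Fin k) : avg ρ (zpowers (h l)) * eps ρ h l = 0 := by
  rw [eps, mul_add, d.mul_DD (zpowers_le_DD h l),
    d.avg_mul' (zpowers_le_DD h l) (DL_le h l) le_rfl (zpowers_le_DD h l) (DL_le h l) (DD_le_sup' l), d.add_self']

/-- `eps l = 1 + avg ⟨h l⟩`. -/
theorem eps_eq (d : AbsD ρ S h Z p) (l : Fin k) : eps ρ h l = 1 + avg ρ (zpowers (h l)) := by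
  classical
  have h1 : avg ρ (zpowers (h l)) = avg ρ (DD h) + ∑ m, avg ρ (zpowers (h l)) * eps ρ h m := by
    calc avg ρ (zpowers (h l)) = avg ρ (zpowers (h l)) * (avg ρ (DD h) + ∑ l, eps ρ h l) := by
          rw [d.sum_eps, mul_one]
      _ = _ := by rw [mul_add, d.mul_DD (zpowers_le_DD h l), Finset.mul_sum]
  have h2 : eps ρ h l + avg ρ (zpowers (h l)) = 1 := by
    rw [h1, ← d.sum_eps, ← Finset.add_sum_erase Finset.univ _ (Finset.mem_univ l),
      ← Finset.add_sum_erase (a := l) Finset.univ (fun m => eps ρ h m) (Finset.mem_univ l), d.avg_h_mul_eps, zero_add,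
      add_left_comm]
    congr 2
    refine Finset.sum_congr rfl fun m hm => ?_
    have hml : l ≠ m := (Finset.ne_of_mem_erase hm).symm
    refine avg_mul_of_fix ρ d.two (d.odd_card (zpowers_le_DD h l)) fun x hx => ?_
    ext a
    exact pow_fix (ρ := ρ) (congrArg (fun T : AddMonoid.End A => T a) (d.h_mul_eps hml)) hx
  calc eps ρ h l = eps ρ h l + (avg ρ (zpowers (h l)) + avg ρ (zpowers (h l))) := by rw [d.add_self', add_zero]
    _ = _ := by rw [← add_assoc, h2]

/-- `h l` is fixed-point-free on `C_l`. -/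
theorem fpf (d : AbsD ρ S h Z p) {l : Fin k} {a : A} (ha : ρ (h l) (eps ρ h l a) = eps ρ h l a) :
    eps ρ h l a = 0 := by
  have h1 : avg ρ (zpowers (h l)) (eps ρ h l a) = eps ρ h l a :=
    avg_apply_of_fix ρ d.two (d.odd_card (zpowers_le_DD h l)) fun x hx => pow_fix ha hx
  rw [← h1]
  exact congrArg (fun T : AddMonoid.End A => T a) (d.avg_h_mul_eps l)

/-- An element of `N` which commutes with `h l` commutes with `eps l`. -/
theorem commute_eps (d : AbsD ρ S h Z p) {x : N} {l : Fin k} (hx : x * h l = h l * x) :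
    ρ x * eps ρ h l = eps ρ h l * ρ x := by
  rw [d.eps_eq, mul_add, add_mul, mul_one, one_mul]
  congr 1
  refine commute_avg ρ fun y hy => ?_
  obtain ⟨n, rfl⟩ := hy
  rw [← map_mul, ← map_mul]
  congr 1
  exact ((show Commute x (h l) from hx).zpow_right n)

theorem h_ne (d : AbsD ρ S h Z p) (l : Fin k) : h l ≠ 1 := by
  intro he
  obtain ⟨a, ha⟩ := d.eps_ne l
  refine ha (d.fpf ?_)
  rw [he, map_one]
  rfl

theorem orderOf_h (d : AbsD ρ S h Z p) (l : Fin k) : orderOf (h l) = p := by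
  haveI := Fact.mk d.prime
  exact orderOf_eq_prime (d.hp l) (d.h_ne l)

end AbsD

end Cfsg.Agent.Omega.IId.ThmCQ

end

section


/-!
# THEOREM C with `D`, case `q ≥ 4`, (2): no four-group all of whose involutions have the same commutator space
(after helper334's `ThmC/FourTwo.lean`)
-/

set_option autoImplicit false
set_option linter.unusedSectionVars false
set_option linter.unusedVariables false

namespace Cfsg.Agent.Omega.IId.ThmCQ

open Subgroup Cfsg Cfsg.Agent.Omega.ThmC.Four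
open Cfsg.Agent.Omega.ThmC.Four.Abs (Perm Perm.mul conj_eps pow_fix conj_eps_apply sq_apply fix_im exists_conj_le im_conj)

universe u

namespace AbsD

variable {N A : Type u} [Group N] [Finite N] [AddCommGroup A] [Finite A] {ρ : N →* AddMonoid.End A}
  {S : Sylow 2 N} {k : ℕ} {h : Fin k → N} {Z : Fin k → AddSubgroup A} {p : ℕ}

theorem idem_apply (d : AbsD ρ S h Z p) (l : Fin k) (a : A) : eps ρ h l (eps ρ h l a) = eps ρ h l a :=
  congrArg (fun T : AddMonoid.End A => T a) (d.eps_idem l)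

theorem orth_apply (d : AbsD ρ S h Z p) {l m : Fin k} (hlm : l ≠ m) (a : A) : eps ρ h l (eps ρ h m a) = 0 :=
  congrArg (fun T : AddMonoid.End A => T a) (d.eps_orth hlm)

theorem stepA1 (d : AbsD ρ S h Z p) {f g : N} {σ τ : Equiv.Perm (Fin k)} (hf : Perm h f σ) (hg : Perm h g τ)
    (hgg : g * g = 1) (him : im ρ f ≤ im ρ g) {x : Fin k} (hx : σ x ≠ x) : τ x ≠ x := by
  intro hτ
  have key : ∀ a, ∃ b, eps ρ h x a = eps ρ h x b + ρ g (eps ρ h x b) := by
    intro a
    obtain ⟨b, hb⟩ := mem_im.1 (him (mem_im.2 ⟨eps ρ h x a, rfl⟩))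
    refine ⟨b, ?_⟩
    have h1 := congrArg (eps ρ h x) hb
    rw [map_add, map_add, d.idem_apply, conj_eps_apply hf, d.orth_apply hx.symm, add_zero] at h1
    rw [conj_eps_apply hg, hτ]
    exact h1.symm
  have hfix : ∀ a, ρ g (eps ρ h x a) = eps ρ h x a := by
    intro a
    obtain ⟨b, hb⟩ := key a
    rw [hb, map_add, sq_apply hgg, add_comm]
  obtain ⟨a, ha⟩ := d.eps_ne x
  obtain ⟨b, hb⟩ := key a
  rw [hfix, d.two] at hb
  exact ha hb

theorem stepA2 (d : AbsD ρ S h Z p) {f g : N} {σ τ : Equiv.Perm (Fin k)} (hf : Perm h f σ) (hg : Perm h g τ)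
    (hgg : g * g = 1) (him : im ρ f ≤ im ρ g) {x : Fin k} (hx : σ x ≠ x) (hx' : τ x ≠ x) : τ (σ x) = x := by
  by_contra hne
  obtain ⟨a, ha⟩ := d.eps_ne x
  have h1 := fix_im hgg (him (mem_im.2 ⟨eps ρ h x a, rfl⟩))
  have h2 := congrArg (eps ρ h x) h1
  rw [map_add, map_add, map_add, d.idem_apply, conj_eps_apply hf, d.orth_apply hx.symm, add_zero,
    conj_eps_apply hg, conj_eps_apply hg, d.orth_apply (Ne.symm hx'), d.orth_apply (Ne.symm hne), add_zero] at h2
  exact ha h2.symm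

theorem stepA (d : AbsD ρ S h Z p) {f g : N} {σ τ : Equiv.Perm (Fin k)} (hf : Perm h f σ) (hg : Perm h g τ)
    (hgg : g * g = 1) (hgf : g * f * (g * f) = 1) (h1 : im ρ f = im ρ g) (h2 : im ρ f = im ρ (g * f))
    (x : Fin k) : σ x = x := by
  by_contra hx
  have h3 := d.stepA1 hf hg hgg h1.le hx
  have h4 := d.stepA2 hf hg hgg h1.le hx h3
  exact d.stepA1 hf (hg.mul hf) hgf h2.le hx h4

theorem inv_or (d : AbsD ρ S h Z p) {f : N} (hff : f * f = 1) {l : Fin k} {r : ℕ}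
    (hr : f * h l * f⁻¹ = h l ^ r) : f * h l = h l * f ∨ f * h l = (h l)⁻¹ * f := by
  have hfi : f⁻¹ = f := by rw [inv_eq_iff_mul_eq_one, hff]
  have h1 : h l ^ ((r : ℤ) * r) = h l ^ (1 : ℤ) := by
    have e1 : f * (f * h l * f⁻¹) * f⁻¹ = h l := by
      calc f * (f * h l * f⁻¹) * f⁻¹ = (f * f) * h l * (f * f)⁻¹ := by group
        _ = h l := by rw [hff]; group
    have e2 : f * h l ^ r * f⁻¹ = h l ^ (r * r) := by
      rw [← conj_pow, hr, ← pow_mul]
    rw [hr, e2] at e1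
    rw [zpow_one, ← Nat.cast_mul, zpow_natCast, e1]
  rw [← orderOf_dvd_sub_iff_zpow_eq_zpow, d.orderOf_h] at h1
  have h2 : (r : ℤ) * r - 1 = (r - 1) * (r - (-1)) := by ring
  rw [h2] at h1
  have key : ∀ n : ℤ, (p : ℤ) ∣ r - n → f * h l = h l ^ n * f := by
    intro n hn
    rw [← d.orderOf_h l, orderOf_dvd_sub_iff_zpow_eq_zpow, zpow_natCast, ← hr] at hn
    rw [← hn, inv_mul_cancel_right]
  rcases (Nat.prime_iff_prime_int.1 d.prime).dvd_or_dvd h1 with h3 | h3
  · left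
    rw [key 1 h3, zpow_one]
  · right
    rw [key (-1) h3, zpow_neg_one]

theorem sq_fix (d : AbsD ρ S h Z p) {l : Fin k} {a : A} (ha : ρ (h l) (ρ (h l) a) = a) : ρ (h l) a = a := by
  have h1 : ρ (h l ^ 2) a = a := by rw [pow_two, rho_mul, ha]
  refine pow_fix h1 ?_
  obtain ⟨m, hm⟩ := d.prime.odd_of_ne_two d.odd
  refine ⟨(m + 1 : ℕ), ?_⟩
  change (h l ^ 2) ^ ((m + 1 : ℕ) : ℤ) = h l
  rw [zpow_natCast, ← pow_mul, show 2 * (m + 1) = p + 1 by omega, pow_succ, d.hp, one_mul]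

theorem fpf' (d : AbsD ρ S h Z p) {l : Fin k} {a : A} (he : eps ρ h l a = a) (ha : ρ (h l) a = a) : a = 0 := by
  have := d.fpf (l := l) (a := a) (by rw [he, ha])
  rwa [he] at this

theorem commute_eps_apply (d : AbsD ρ S h Z p) {x : N} {l : Fin k} (hx : x * h l = h l * x) (a : A) :
    ρ x (eps ρ h l a) = eps ρ h l (ρ x a) :=
  congrArg (fun T : AddMonoid.End A => T a) (d.commute_eps hx)

/-- If `f` inverts `h l` and `im f = im f''` where `f''` commutes with `h l`: contradiction. -/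
theorem stepB (d : AbsD ρ S h Z p) {f f' : N} (hff : f * f = 1) {l : Fin k}
    (hfc : ∀ a, ρ f (eps ρ h l a) = eps ρ h l (ρ f a)) (hf : f * h l = (h l)⁻¹ * f)
    (hf' : f' * h l = h l * f') (him : im ρ f = im ρ f') : False := by
  -- `f` is trivial on the vectors `c` with `f c = c`, `f (h c) = h c`
  have key : ∀ c, eps ρ h l c = c → ρ f c = c → ρ f (ρ (h l) c) = ρ (h l) c → c = 0 := by
    intro c hc h1 h2
    refine d.fpf' hc (d.sq_fix ?_)
    have h3 : ρ f (ρ (h l) c) = ρ (h l)⁻¹ c := by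
      rw [← rho_mul, hf, rho_mul, h1]
    rw [h2] at h3
    rw [h3, ← rho_mul, mul_inv_cancel, rho_one]
  have hh : ∀ a, ρ (h l) (eps ρ h l a) = eps ρ h l (ρ (h l) a) := fun a => d.commute_eps_apply rfl a
  have h1 : ∀ a, ρ f (eps ρ h l a) = eps ρ h l a := by
    intro a
    have h0 : eps ρ h l a + ρ f (eps ρ h l a) = 0 := by
      set c := eps ρ h l a + ρ f (eps ρ h l a) with hc
      have hcim : c ∈ im ρ f := mem_im.2 ⟨_, rfl⟩
      have hce : eps ρ h l c = c := by rw [hc, map_add, d.idem_apply, hfc, d.idem_apply]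
      refine key c hce (fix_im hff hcim) ?_
      refine fix_im hff ?_
      rw [him] at hcim ⊢
      obtain ⟨b, hb⟩ := mem_im.1 hcim
      refine mem_im.2 ⟨ρ (h l) b, ?_⟩
      rw [← hb, map_add, ← rho_mul, ← rho_mul, hf']
    calc ρ f (eps ρ h l a) = (eps ρ h l a + eps ρ h l a) + ρ f (eps ρ h l a) := by rw [d.two, zero_add]
      _ = eps ρ h l a := by rw [add_assoc, h0, add_zero]
  obtain ⟨a, ha⟩ := d.eps_ne l
  refine ha (key _ (d.idem_apply l a) (h1 a) ?_)
  rw [hh, h1]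

theorem no_four_S (d : AbsD ρ S h Z p) {f g : N} (hf : f ∈ (S : Subgroup N)) (hg : g ∈ (S : Subgroup N))
    (hff : f * f = 1) (hgg : g * g = 1) (hfg : f * g = g * f) (hf1 : f ≠ 1)
    (h1 : im ρ f = im ρ g) (h2 : im ρ f = im ρ (g * f)) : False := by
  obtain ⟨σ, hσ⟩ := d.perm f hf
  obtain ⟨τ, hτ⟩ := d.perm g hg
  have hgf : g * f * (g * f) = 1 := by
    calc g * f * (g * f) = g * (f * g) * f := by group
      _ = (g * g) * (f * f) := by rw [hfg]; group
      _ = 1 := by rw [hff, hgg, one_mul]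
  have hfg' : f * g * (f * g) = 1 := by rw [hfg]; exact hgf
  have hσ1 : ∀ x, σ x = x := d.stepA hσ hτ hgg hgf h1 h2
  have hτ1 : ∀ x, τ x = x := d.stepA hτ hσ hff hfg' h1.symm (by rw [← h1, h2, hfg])
  have hσ2 : ∀ l, ∃ r : ℕ, f * h l * f⁻¹ = h l ^ r := fun l => by
    obtain ⟨r, hr⟩ := hσ l
    exact ⟨r, by rw [hr, hσ1]⟩
  have hτ2 : ∀ l, ∃ r : ℕ, g * h l * g⁻¹ = h l ^ r := fun l => by
    obtain ⟨r, hr⟩ := hτ l
    exact ⟨r, by rw [hr, hτ1]⟩
  -- some `h l` is inverted by `f`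
  have hl : ∃ l, ¬ f * h l = h l * f := by
    by_contra hcon
    push Not at hcon
    exact hf1 (d.field f hf hcon)
  obtain ⟨l, hl⟩ := hl
  obtain ⟨r, hr⟩ := hσ2 l
  have hinv : f * h l = (h l)⁻¹ * f := (d.inv_or hff hr).resolve_left hl
  have hfc : ∀ a, ρ f (eps ρ h l a) = eps ρ h l (ρ f a) := by
    intro a
    rw [conj_eps_apply hσ, hσ1]
  obtain ⟨r', hr'⟩ := hτ2 l
  rcases d.inv_or hgg hr' with hg1 | hg1
  · exact d.stepB hff hfc hinv hg1 h1
  · refine d.stepB hff hfc hinv (f' := g * f) ?_ h2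
    calc g * f * h l = g * (f * h l) := by group
      _ = (g * h l * g⁻¹)⁻¹ * g * f := by rw [hinv]; group
      _ = h l * (g * f) := by rw [hg1]; group

/-- **(2)**: a 2-subgroup of `N` contains no four-group `⟨f, g⟩` with `[A, f] = [A, g] = [A, fg]`. -/
theorem no_four (d : AbsD ρ S h Z p) {T : Subgroup N} (hT : IsPGroup 2 T) {f g : N} (hf : f ∈ T) (hg : g ∈ T)
    (hff : f * f = 1) (hgg : g * g = 1) (hfg : f * g = g * f) (hf1 : f ≠ 1)
    (h1 : im ρ f = im ρ g) (h2 : im ρ f = im ρ (g * f)) : False := by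
  obtain ⟨x, -, hx⟩ := exists_conj_le (S := S) (M := ⊤) le_top hT le_top
  refine d.no_four_S (hx f hf) (hx g hg) ?_ ?_ ?_ ?_ ?_ ?_
  · calc x * f * x⁻¹ * (x * f * x⁻¹) = x * (f * f) * x⁻¹ := by group
      _ = 1 := by rw [hff]; group
  · calc x * g * x⁻¹ * (x * g * x⁻¹) = x * (g * g) * x⁻¹ := by group
      _ = 1 := by rw [hgg]; group
  · calc x * f * x⁻¹ * (x * g * x⁻¹) = x * (f * g) * x⁻¹ := by group
      _ = x * g * x⁻¹ * (x * f * x⁻¹) := by rw [hfg]; group
  · intro h3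
    apply hf1
    calc f = x⁻¹ * (x * f * x⁻¹) * x := by group
      _ = 1 := by rw [h3]; group
  · rw [im_conj, im_conj, h1]
  · rw [show x * g * x⁻¹ * (x * f * x⁻¹) = x * (g * f) * x⁻¹ by group, im_conj, im_conj, h2]

end AbsD

end Cfsg.Agent.Omega.IId.ThmCQ

end

end

-- merged: Cfsg.Agent.Mrg.Omega.ThmC.FourCore
section

section


/-!
# THEOREM C, case `q ≥ 4`, (3)(b): the ring computation

`e`, `f` orthogonal idempotents, `u` an involution which commutes with `e + f`, `D` central, `H = D` on the image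
of `e`, `H = 1` on the image of `1 - e`.  If `u` commutes with `v = H u H⁻¹`, then `b₀ = u v`, `b₁ = H b₀ H⁻¹` and
`b₀ b₁` have the same image of `b - 1`.
-/

set_option autoImplicit false

namespace Cfsg.Agent.Omega.ThmC.Four

universe u

theorem eq_of_add {R : Type*} [Ring R] (h2 : ∀ x : R, x + x = 0) {x y : R} (h : x + y = 0) : x = y := by
  calc x = x + (y + y) := by rw [h2, add_zero]
    _ = y := by rw [← add_assoc, h, zero_add]

theorem core {R : Type*} [Ring R] (h2 : ∀ x : R, x + x = 0) {e f u D D' H H' : R}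
    (ee : e * e = e) (ff : f * f = f) (ef : e * f = 0) (fe : f * e = 0) (uu : u * u = 1)
    (ug : u * (e + f) = (e + f) * u) (DD : D * D' = 1) (DD' : D' * D = 1)
    (De : D * e = e * D) (Df : D * f = f * D) (Du : D * u = u * D) (DH : D * H = H * D) (DH' : D * H' = H' * D)
    (HH' : H' * H = 1) (He : H * e = D * e) (Hf : H * f = f)
    (Hg : H * (1 + (e + f)) = 1 + (e + f))
    (comm : u * (H * u * H') = H * u * H' * u)
    (ce : ∀ T : R, e * T = T → D * T = T → T = 0) (cf : ∀ T : R, f * T = T → D * T = T → T = 0)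
    (ce2 : ∀ T : R, e * T = T → D * (D * T) = T → T = 0)
    (cf2 : ∀ T : R, f * T = T → D * (D * T) = T → T = 0) {b₀ b₁ : R} (hb₀ : b₀ = u * (H * u * H'))
    (hb₁ : b₁ = H * b₀ * H') :
    ((1 + b₁) * e = D' * ((1 + b₀) * e) ∧ (1 + b₁) * f = D * ((1 + b₀) * f)) ∧
    ((1 + b₀ * b₁) * e = (1 + D') * ((1 + b₀) * e) ∧ (1 + b₀ * b₁) * f = (1 + D) * ((1 + b₀) * f)) ∧
    ((1 + b₀) * (1 + (e + f)) = 0 ∧ (1 + b₁) * (1 + (e + f)) = 0 ∧ (1 + b₀ * b₁) * (1 + (e + f)) = 0) ∧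
    D * b₀ = b₀ * D := by
  have D'_comm : ∀ {x : R}, D * x = x * D → D' * x = x * D' := by
    intro x hx
    calc D' * x = D' * x * (D * D') := by rw [DD, mul_one]
      _ = D' * (x * D) * D' := by noncomm_ring
      _ = D' * (D * x) * D' := by rw [hx]
      _ = (D' * D) * x * D' := by noncomm_ring
      _ = x * D' := by rw [DD', one_mul]
  have De' := D'_comm De
  have Df' := D'_comm Df
  have Du' := D'_comm Du
  have DH1 := D'_comm DH
  have H'e : H' * e = D' * e := by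
    calc H' * e = D' * (D * (H' * e)) := by rw [← mul_assoc D', DD', one_mul]
      _ = D' * (H' * (D * e)) := by rw [← mul_assoc D H', DH', mul_assoc H' D]
      _ = D' * ((H' * H) * e) := by rw [← He, mul_assoc H']
      _ = D' * e := by rw [HH', one_mul]
  have H'f : H' * f = f := by
    calc H' * f = H' * (H * f) := by rw [Hf]
      _ = f := by rw [← mul_assoc, HH', one_mul]
  have H'g : H' * (1 + (e + f)) = 1 + (e + f) := by
    calc H' * (1 + (e + f)) = H' * (H * (1 + (e + f))) := by rw [Hg]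
      _ = 1 + (e + f) := by rw [← mul_assoc, HH', one_mul]
  obtain ⟨α, hα⟩ : ∃ α, α = e * u * e := ⟨_, rfl⟩
  obtain ⟨δ, hδ⟩ : ∃ δ, δ = f * u * f := ⟨_, rfl⟩
  obtain ⟨P, hP⟩ : ∃ P, P = e * u * f := ⟨_, rfl⟩
  obtain ⟨Q, hQ⟩ : ∃ Q, Q = f * u * e := ⟨_, rfl⟩
  have eα : e * α = α := by rw [hα, ← mul_assoc, ← mul_assoc, ee]
  have eP : e * P = P := by rw [hP, ← mul_assoc, ← mul_assoc, ee]
  have fδ : f * δ = δ := by rw [hδ, ← mul_assoc, ← mul_assoc, ff]
  have fQ : f * Q = Q := by rw [hQ, ← mul_assoc, ← mul_assoc, ff]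
  have fα : f * α = 0 := by rw [hα, ← mul_assoc, ← mul_assoc, fe, zero_mul, zero_mul]
  have fP : f * P = 0 := by rw [hP, ← mul_assoc, ← mul_assoc, fe, zero_mul, zero_mul]
  have eδ : e * δ = 0 := by rw [hδ, ← mul_assoc, ← mul_assoc, ef, zero_mul, zero_mul]
  have eQ : e * Q = 0 := by rw [hQ, ← mul_assoc, ← mul_assoc, ef, zero_mul, zero_mul]
  have ue : u * e = α + Q := by
    calc u * e = u * (e + f) * e := by rw [mul_assoc, add_mul, ee, fe, add_zero]
      _ = (e + f) * u * e := by rw [ug]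
      _ = α + Q := by rw [hα, hQ, add_mul, add_mul]
  have uf : u * f = P + δ := by
    calc u * f = u * (e + f) * f := by rw [mul_assoc, add_mul, ff, ef, zero_add]
      _ = (e + f) * u * f := by rw [ug]
      _ = P + δ := by rw [hP, hδ, add_mul, add_mul]
  have Dα : D * α = α * D := by
    rw [hα, ← mul_assoc, ← mul_assoc, De, mul_assoc e D u, Du, mul_assoc e, mul_assoc u D e, De]; noncomm_ring
  have Dδ : D * δ = δ * D := by
    rw [hδ, ← mul_assoc, ← mul_assoc, Df, mul_assoc f D u, Du, mul_assoc f, mul_assoc u D f, Df]; noncomm_ring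
  have DP : D * P = P * D := by
    rw [hP, ← mul_assoc, ← mul_assoc, De, mul_assoc e D u, Du, mul_assoc e, mul_assoc u D f, Df]; noncomm_ring
  have DQ : D * Q = Q * D := by
    rw [hQ, ← mul_assoc, ← mul_assoc, Df, mul_assoc f D u, Du, mul_assoc f, mul_assoc u D e, De]; noncomm_ring
  have Dα' := D'_comm Dα
  have Dδ' := D'_comm Dδ
  have DP' := D'_comm DP
  have DQ' := D'_comm DQ
  have Hα : H * α = D * α := by
    calc H * α = H * (e * α) := by rw [eα]
      _ = D * (e * α) := by rw [← mul_assoc, He, mul_assoc]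
      _ = D * α := by rw [eα]
  have HP : H * P = D * P := by
    calc H * P = H * (e * P) := by rw [eP]
      _ = D * (e * P) := by rw [← mul_assoc, He, mul_assoc]
      _ = D * P := by rw [eP]
  have Hδ : H * δ = δ := by
    calc H * δ = H * (f * δ) := by rw [fδ]
      _ = δ := by rw [← mul_assoc, Hf, fδ]
  have HQ : H * Q = Q := by
    calc H * Q = H * (f * Q) := by rw [fQ]
      _ = Q := by rw [← mul_assoc, Hf, fQ]
  obtain ⟨v, hv⟩ : ∃ v, v = H * u * H' := ⟨_, rfl⟩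
  rw [← hv] at comm hb₀
  have ve : v * e = α + D' * Q := by
    calc v * e = H * u * (H' * e) := by rw [hv, mul_assoc]
      _ = H * (u * D') * e := by rw [H'e]; noncomm_ring
      _ = (H * D') * (u * e) := by rw [← Du']; noncomm_ring
      _ = D' * (H * α + H * Q) := by rw [← DH1, ue]; noncomm_ring
      _ = D' * D * α + D' * Q := by rw [Hα, HQ]; noncomm_ring
      _ = α + D' * Q := by rw [DD', one_mul]
  have vf : v * f = D * P + δ := by
    calc v * f = H * u * (H' * f) := by rw [hv, mul_assoc]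
      _ = H * (u * f) := by rw [H'f, mul_assoc]
      _ = D * P + δ := by rw [uf, mul_add, HP, Hδ]
  have uα : u * α = α * α + Q * α := by
    calc u * α = (u * e) * α := by rw [mul_assoc, eα]
      _ = _ := by rw [ue, add_mul]
  have uQ : u * Q = P * Q + δ * Q := by
    calc u * Q = (u * f) * Q := by rw [mul_assoc, fQ]
      _ = _ := by rw [uf, add_mul]
  have uP : u * P = α * P + Q * P := by
    calc u * P = (u * e) * P := by rw [mul_assoc, eP]
      _ = _ := by rw [ue, add_mul]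
  have uδ : u * δ = P * δ + δ * δ := by
    calc u * δ = (u * f) * δ := by rw [mul_assoc, fδ]
      _ = _ := by rw [uf, add_mul]
  have vα : v * α = α * α + D' * (Q * α) := by
    calc v * α = (v * e) * α := by rw [mul_assoc, eα]
      _ = _ := by rw [ve, add_mul, mul_assoc]
  have vQ : v * Q = D * (P * Q) + δ * Q := by
    calc v * Q = (v * f) * Q := by rw [mul_assoc, fQ]
      _ = _ := by rw [vf, add_mul, mul_assoc]
  have vP : v * P = α * P + D' * (Q * P) := by
    calc v * P = (v * e) * P := by rw [mul_assoc, eP]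
      _ = _ := by rw [ve, add_mul, mul_assoc]
  have vδ : v * δ = D * (P * δ) + δ * δ := by
    calc v * δ = (v * f) * δ := by rw [mul_assoc, fδ]
      _ = _ := by rw [vf, add_mul, mul_assoc]
  have uve : u * v * e = (α * α + D' * (P * Q)) + (Q * α + D' * (δ * Q)) := by
    calc u * v * e = u * (v * e) := mul_assoc _ _ _
      _ = u * α + (u * D') * Q := by rw [ve, mul_add, mul_assoc]
      _ = (α * α + Q * α) + D' * (P * Q + δ * Q) := by rw [uα, ← Du', mul_assoc, uQ]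
      _ = _ := by rw [mul_add]; abel
  have vue : v * u * e = (α * α + D * (P * Q)) + (D' * (Q * α) + δ * Q) := by
    calc v * u * e = v * (u * e) := mul_assoc _ _ _
      _ = _ := by rw [ue, mul_add, vα, vQ]; abel
  have uvf : u * v * f = (D * (α * P) + P * δ) + (D * (Q * P) + δ * δ) := by
    calc u * v * f = u * (v * f) := mul_assoc _ _ _
      _ = (u * D) * P + u * δ := by rw [vf, mul_add, mul_assoc]
      _ = D * (α * P + Q * P) + (P * δ + δ * δ) := by rw [← Du, mul_assoc, uP, uδ]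
      _ = _ := by rw [mul_add]; abel
  have vuf : v * u * f = (α * P + D * (P * δ)) + (D' * (Q * P) + δ * δ) := by
    calc v * u * f = v * (u * f) := mul_assoc _ _ _
      _ = _ := by rw [uf, mul_add, vP, vδ]; abel
  have hcomm : u * v = v * u := comm
  rw [hcomm, vue] at uve
  rw [hcomm, vuf] at uvf
  -- projections
  have pe : ∀ {x y x' y' : R}, e * x = x → e * y = 0 → e * x' = x' → e * y' = 0 → x + y = x' + y' → x = x' := by
    intro x y x' y' h1 h2 h3 h4 h
    have := congrArg (fun t => e * t) h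
    simpa [mul_add, h1, h2, h3, h4] using this
  have pf : ∀ {x y x' y' : R}, f * x = 0 → f * y = y → f * x' = 0 → f * y' = y' → x + y = x' + y' → y = y' := by
    intro x y x' y' h1 h2 h3 h4 h
    have := congrArg (fun t => f * t) h
    simpa [mul_add, h1, h2, h3, h4] using this
  have E1 : ∀ x, e * x = x → e * (D * x) = D * x := by
    intro x hx; rw [← mul_assoc, ← De, mul_assoc, hx]
  have E1' : ∀ x, e * x = x → e * (D' * x) = D' * x := by
    intro x hx; rw [← mul_assoc, ← De', mul_assoc, hx]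
  have E0 : ∀ x, e * x = 0 → e * (D * x) = 0 := by
    intro x hx; rw [← mul_assoc, ← De, mul_assoc, hx, mul_zero]
  have E0' : ∀ x, e * x = 0 → e * (D' * x) = 0 := by
    intro x hx; rw [← mul_assoc, ← De', mul_assoc, hx, mul_zero]
  have F1 : ∀ x, f * x = x → f * (D * x) = D * x := by
    intro x hx; rw [← mul_assoc, ← Df, mul_assoc, hx]
  have F1' : ∀ x, f * x = x → f * (D' * x) = D' * x := by
    intro x hx; rw [← mul_assoc, ← Df', mul_assoc, hx]
  have F0 : ∀ x, f * x = 0 → f * (D * x) = 0 := by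
    intro x hx; rw [← mul_assoc, ← Df, mul_assoc, hx, mul_zero]
  have F0' : ∀ x, f * x = 0 → f * (D' * x) = 0 := by
    intro x hx; rw [← mul_assoc, ← Df', mul_assoc, hx, mul_zero]
  have mule : ∀ {x : R} (y : R), e * x = x → e * (x * y) = x * y := by
    intro x y hx; rw [← mul_assoc, hx]
  have mule0 : ∀ {x : R} (y : R), e * x = 0 → e * (x * y) = 0 := by
    intro x y hx; rw [← mul_assoc, hx, zero_mul]
  have mulf : ∀ {x : R} (y : R), f * x = x → f * (x * y) = x * y := by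
    intro x y hx; rw [← mul_assoc, hx]
  have mulf0 : ∀ {x : R} (y : R), f * x = 0 → f * (x * y) = 0 := by
    intro x y hx; rw [← mul_assoc, hx, zero_mul]
  have adde : ∀ {x y : R}, e * x = x → e * y = y → e * (x + y) = x + y := by
    intro x y hx hy; rw [mul_add, hx, hy]
  have adde0 : ∀ {x y : R}, e * x = 0 → e * y = 0 → e * (x + y) = 0 := by
    intro x y hx hy; rw [mul_add, hx, hy, add_zero]
  have addf : ∀ {x y : R}, f * x = x → f * y = y → f * (x + y) = x + y := by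
    intro x y hx hy; rw [mul_add, hx, hy]
  have addf0 : ∀ {x y : R}, f * x = 0 → f * y = 0 → f * (x + y) = 0 := by
    intro x y hx hy; rw [mul_add, hx, hy, add_zero]
  -- the four equations
  have q1 : α * α + D * (P * Q) = α * α + D' * (P * Q) :=
    pe (adde (mule _ eα) (E1 _ (mule _ eP))) (adde0 (E0' _ (mule0 _ eQ)) (mule0 _ eδ))
      (adde (mule _ eα) (E1' _ (mule _ eP))) (adde0 (mule0 _ eQ) (E0' _ (mule0 _ eδ))) uve
  have q2 : D' * (Q * α) + δ * Q = Q * α + D' * (δ * Q) :=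
    pf (addf0 (mulf0 _ fα) (F0 _ (mulf0 _ fP))) (addf (F1' _ (mulf _ fQ)) (mulf _ fδ))
      (addf0 (mulf0 _ fα) (F0' _ (mulf0 _ fP))) (addf (mulf _ fQ) (F1' _ (mulf _ fδ))) uve
  have q3 : α * P + D * (P * δ) = D * (α * P) + P * δ :=
    pe (adde (mule _ eα) (E1 _ (mule _ eP))) (adde0 (E0' _ (mule0 _ eQ)) (mule0 _ eδ))
      (adde (E1 _ (mule _ eα)) (mule _ eP)) (adde0 (E0 _ (mule0 _ eQ)) (mule0 _ eδ)) uvf
  have q4 : D' * (Q * P) + δ * δ = D * (Q * P) + δ * δ :=
    pf (addf0 (mulf0 _ fα) (F0 _ (mulf0 _ fP))) (addf (F1' _ (mulf _ fQ)) (mulf _ fδ))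
      (addf0 (F0 _ (mulf0 _ fα)) (mulf0 _ fP)) (addf (F1 _ (mulf _ fQ)) (mulf _ fδ)) uvf
  have PQ : P * Q = 0 := by
    refine ce2 _ (mule _ eP) ?_
    rw [add_left_cancel q1, ← mul_assoc, DD, one_mul]
  have QP : Q * P = 0 := by
    refine cf2 _ (mulf _ fQ) ?_
    rw [← add_right_cancel q4, ← mul_assoc, DD, one_mul]
  have Qα : Q * α = δ * Q := by
    refine eq_of_add h2 (cf _ (addf (mulf _ fQ) (mulf _ fδ)) ?_)
    have h3 : D * (D' * (Q * α) + δ * Q) = D * (Q * α + D' * (δ * Q)) := by rw [q2]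
    rw [mul_add, mul_add, ← mul_assoc D D', ← mul_assoc D D', DD, one_mul, one_mul] at h3
    -- Qα + D(δQ) = D(Qα) + δQ
    rw [mul_add]
    have h4 := h2 (D * (δ * Q))
    have h5 := h2 (δ * Q)
    calc D * (Q * α) + D * (δ * Q) = D * (Q * α) + δ * Q + (δ * Q + D * (δ * Q)) := by
          rw [add_assoc (D * (Q * α)), ← add_assoc (δ * Q), h5, zero_add]
      _ = Q * α + D * (δ * Q) + (δ * Q + D * (δ * Q)) := by rw [h3]
      _ = Q * α + δ * Q + (D * (δ * Q) + D * (δ * Q)) := by abel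
      _ = Q * α + δ * Q := by rw [h4, add_zero]
  have αP : α * P = P * δ := by
    refine eq_of_add h2 (ce _ (adde (mule _ eα) (mule _ eP)) ?_)
    rw [mul_add]
    have h4 := h2 (D * (P * δ))
    have h5 := h2 (P * δ)
    calc D * (α * P) + D * (P * δ) = D * (α * P) + P * δ + (P * δ + D * (P * δ)) := by
          rw [add_assoc (D * (α * P)), ← add_assoc (P * δ), h5, zero_add]
      _ = α * P + D * (P * δ) + (P * δ + D * (P * δ)) := by rw [q3]
      _ = α * P + P * δ + (D * (P * δ) + D * (P * δ)) := by abel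
      _ = α * P + P * δ := by rw [h4, add_zero]
  have αα : α * α = e := by
    have h3 : (α * α + P * Q) + (Q * α + δ * Q) = e + 0 := by
      calc (α * α + P * Q) + (Q * α + δ * Q) = u * α + u * Q := by rw [uα, uQ]; abel
        _ = u * (u * e) := by rw [ue, mul_add]
        _ = e + 0 := by rw [← mul_assoc, uu, one_mul, add_zero]
    have h4 := pe (adde (mule _ eα) (mule _ eP)) (adde0 (mule0 _ eQ) (mule0 _ eδ)) ee (mul_zero e) h3
    rw [PQ, add_zero] at h4
    exact h4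
  have δδ : δ * δ = f := by
    have h3 : (α * P + P * δ) + (Q * P + δ * δ) = 0 + f := by
      calc (α * P + P * δ) + (Q * P + δ * δ) = u * P + u * δ := by rw [uP, uδ]; abel
        _ = u * (u * f) := by rw [uf, mul_add]
        _ = 0 + f := by rw [← mul_assoc, uu, one_mul, zero_add]
    have h4 := pf (addf0 (mulf0 _ fα) (mulf0 _ fP)) (addf (mulf _ fQ) (mulf _ fδ)) (mul_zero f) ff h3
    rw [QP, zero_add] at h4
    exact h4
  -- the new element
  have b₀v : b₀ = u * v := hb₀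
  obtain ⟨Q₁, hQ₁⟩ : ∃ Q₁, Q₁ = (1 + D') * (Q * α) := ⟨_, rfl⟩
  obtain ⟨P₁, hP₁⟩ : ∃ P₁, P₁ = (1 + D) * (α * P) := ⟨_, rfl⟩
  have b₀e : b₀ * e = e + Q₁ := by
    rw [b₀v, hcomm, vue, PQ, mul_zero, add_zero, αα, ← Qα, hQ₁, add_mul, one_mul]
    abel
  have b₀f : b₀ * f = f + P₁ := by
    rw [b₀v, hcomm, vuf, QP, mul_zero, zero_add, δδ, ← αP, hP₁, add_mul, one_mul]
    abel
  have fQ₁ : f * Q₁ = Q₁ := by
    rw [hQ₁, add_mul, one_mul]
    exact addf (mulf _ fQ) (F1' _ (mulf _ fQ))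
  have eP₁ : e * P₁ = P₁ := by
    rw [hP₁, add_mul, one_mul]
    exact adde (mule _ eα) (E1 _ (mule _ eα))
  have PQ₁ : P₁ * Q₁ = 0 := by
    calc P₁ * Q₁ = (1 + D) * α * (P * (1 + D')) * (Q * α) := by rw [hP₁, hQ₁]; noncomm_ring
      _ = (1 + D) * α * ((1 + D') * P) * (Q * α) := by
          rw [show P * (1 + D') = (1 + D') * P by rw [mul_add, add_mul, mul_one, one_mul, DP']]
      _ = (1 + D) * α * (1 + D') * (P * Q) * α := by noncomm_ring
      _ = 0 := by rw [PQ, mul_zero, zero_mul]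
  have QP₁ : Q₁ * P₁ = 0 := by
    calc Q₁ * P₁ = (1 + D') * Q * (α * (1 + D)) * (α * P) := by rw [hP₁, hQ₁]; noncomm_ring
      _ = (1 + D') * Q * ((1 + D) * α) * (α * P) := by
          rw [show α * (1 + D) = (1 + D) * α by rw [mul_add, add_mul, mul_one, one_mul, Dα]]
      _ = (1 + D') * (Q * (1 + D)) * ((α * α) * P) := by noncomm_ring
      _ = (1 + D') * ((1 + D) * Q) * P := by
          rw [αα, eP, show Q * (1 + D) = (1 + D) * Q by rw [mul_add, add_mul, mul_one, one_mul, DQ]]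
      _ = (1 + D') * (1 + D) * (Q * P) := by noncomm_ring
      _ = 0 := by rw [QP, mul_zero]
  have Dv : D * v = v * D := by
    calc D * v = (D * H) * u * H' := by rw [hv]; noncomm_ring
      _ = H * (D * u) * H' := by rw [DH]; noncomm_ring
      _ = H * u * (D * H') := by rw [Du]; noncomm_ring
      _ = v * D := by rw [DH', hv]; noncomm_ring
  have Db₀ : D * b₀ = b₀ * D := by
    calc D * b₀ = (D * u) * v := by rw [b₀v]; noncomm_ring
      _ = u * (D * v) := by rw [Du]; noncomm_ring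
      _ = b₀ * D := by rw [Dv, b₀v]; noncomm_ring
  have Db₀' := D'_comm Db₀
  have HQ₁ : H * Q₁ = Q₁ := by
    calc H * Q₁ = H * (f * Q₁) := by rw [fQ₁]
      _ = Q₁ := by rw [← mul_assoc, Hf, fQ₁]
  have HP₁ : H * P₁ = D * P₁ := by
    calc H * P₁ = H * (e * P₁) := by rw [eP₁]
      _ = D * (e * P₁) := by rw [← mul_assoc, He, mul_assoc]
      _ = D * P₁ := by rw [eP₁]
  have b₁e : b₁ * e = e + D' * Q₁ := by
    calc b₁ * e = H * b₀ * (H' * e) := by rw [hb₁, mul_assoc]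
      _ = H * (b₀ * D') * e := by rw [H'e]; noncomm_ring
      _ = (H * D') * (b₀ * e) := by rw [← Db₀']; noncomm_ring
      _ = D' * (H * e + H * Q₁) := by rw [← DH1, b₀e]; noncomm_ring
      _ = (D' * D) * e + D' * Q₁ := by rw [He, HQ₁]; noncomm_ring
      _ = e + D' * Q₁ := by rw [DD', one_mul]
  have b₁f : b₁ * f = f + D * P₁ := by
    calc b₁ * f = H * b₀ * (H' * f) := by rw [hb₁, mul_assoc]
      _ = H * (b₀ * f) := by rw [H'f, mul_assoc]
      _ = f + D * P₁ := by rw [b₀f, mul_add, Hf, HP₁]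
  have b₀Q₁ : b₀ * Q₁ = Q₁ := by
    calc b₀ * Q₁ = (b₀ * f) * Q₁ := by rw [mul_assoc, fQ₁]
      _ = Q₁ := by rw [b₀f, add_mul, fQ₁, PQ₁, add_zero]
  have b₀P₁ : b₀ * P₁ = P₁ := by
    calc b₀ * P₁ = (b₀ * e) * P₁ := by rw [mul_assoc, eP₁]
      _ = P₁ := by rw [b₀e, add_mul, eP₁, QP₁, add_zero]
  have N₀e : (1 + b₀) * e = Q₁ := by
    rw [add_mul, one_mul, b₀e, ← add_assoc, h2, zero_add]
  have N₀f : (1 + b₀) * f = P₁ := by
    rw [add_mul, one_mul, b₀f, ← add_assoc, h2, zero_add]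
  have ug' : u * (1 + (e + f)) = (1 + (e + f)) * u := by
    rw [mul_add, add_mul, mul_one, one_mul, ug]
  have vg : v * (1 + (e + f)) = u * (1 + (e + f)) := by
    calc v * (1 + (e + f)) = H * u * (H' * (1 + (e + f))) := by rw [hv, mul_assoc]
      _ = H * (u * (1 + (e + f))) := by rw [H'g, mul_assoc]
      _ = (H * (1 + (e + f))) * u := by rw [ug', mul_assoc]
      _ = u * (1 + (e + f)) := by rw [Hg, ug']
  have b₀g : b₀ * (1 + (e + f)) = 1 + (e + f) := by
    rw [b₀v, mul_assoc, vg, ← mul_assoc, uu, one_mul]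
  have b₁g : b₁ * (1 + (e + f)) = 1 + (e + f) := by
    calc b₁ * (1 + (e + f)) = H * b₀ * (H' * (1 + (e + f))) := by rw [hb₁, mul_assoc]
      _ = 1 + (e + f) := by rw [H'g, mul_assoc, b₀g, Hg]
  refine ⟨⟨?_, ?_⟩, ⟨?_, ?_⟩, ⟨?_, ?_, ?_⟩, Db₀⟩
  · rw [N₀e, add_mul, one_mul, b₁e, ← add_assoc, h2, zero_add]
  · rw [N₀f, add_mul, one_mul, b₁f, ← add_assoc, h2, zero_add]
  · rw [N₀e, add_mul, one_mul, mul_assoc, b₁e, mul_add, b₀e, ← mul_assoc b₀ D', ← Db₀', mul_assoc D', b₀Q₁]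
    rw [add_mul, one_mul, ← add_assoc, ← add_assoc, h2, zero_add]
  · rw [N₀f, add_mul, one_mul, mul_assoc, b₁f, mul_add, b₀f, ← mul_assoc b₀ D, ← Db₀, mul_assoc D, b₀P₁]
    rw [add_mul, one_mul, ← add_assoc, ← add_assoc, h2, zero_add]
  · rw [add_mul, one_mul, b₀g, h2]
  · rw [add_mul, one_mul, b₁g, h2]
  · rw [add_mul, one_mul, mul_assoc, b₁g, b₀g, h2]

end Cfsg.Agent.Omega.ThmC.Four

end

section


/-!
# THEOREM C, case `q ≥ 4` (bb OMEGA 16418, helper522): the coprime lemma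

Commuting elements `h l` of order dividing the odd prime `p` normalise the `2`-group `W ≠ 1` and have no common fixed
point on `W`: for one `a`, all the `h l * (h a ^ n l)⁻¹` have a common fixed point `w ≠ 1` in `W`.
-/

set_option autoImplicit false

namespace Cfsg.Agent.Omega.ThmC.Four

open Subgroup

/-- in an elementary abelian `p`-group `H`, an element outside of a hyperplane `B` generates `H` modulo `B` -/
theorem exists_pow_mem {N : Type*} [Group N] [Finite N] {p : ℕ} (hp : p.Prime) {H B : Subgroup N}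
    (hc : ∀ x ∈ H, ∀ y ∈ H, x * y = y * x) (hi : B.relIndex H = p) {x y : N} (hx : x ∈ H)
    (hy : y ∈ H) (hyB : y ∉ B) : ∃ n : ℕ, x * (y ^ n)⁻¹ ∈ B := by
  have : Fact p.Prime := ⟨hp⟩
  have hn : (B.subgroupOf H).Normal := ⟨fun b hb g => by
    rw [mem_subgroupOf] at hb ⊢
    have h1 : ((g * b * g⁻¹ : H) : N) = b := by
      rw [coe_mul, coe_mul, coe_inv, hc _ g.2 _ b.2, mul_inv_cancel_right]
    rw [h1]; exact hb⟩
  have hcard : Nat.card (H ⧸ B.subgroupOf H) = p := by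
    rw [← Subgroup.index_eq_card]
    exact hi
  have hy1 : (QuotientGroup.mk (⟨y, hy⟩ : H) : H ⧸ B.subgroupOf H) ≠ 1 := by
    rw [Ne, QuotientGroup.eq_one_iff, mem_subgroupOf]
    exact hyB
  obtain ⟨n, hn⟩ := mem_powers_of_prime_card (g' := (QuotientGroup.mk (⟨x, hx⟩ : H) : H ⧸ B.subgroupOf H))
    hcard hy1
  refine ⟨n, ?_⟩
  have h2 : (QuotientGroup.mk ((⟨x, hx⟩ : H) * ((⟨y, hy⟩ : H) ^ n)⁻¹) : H ⧸ B.subgroupOf H) = 1 := by
    rw [QuotientGroup.mk_mul, QuotientGroup.mk_inv, QuotientGroup.mk_pow]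
    rw [← hn]
    exact mul_inv_cancel _
  rw [QuotientGroup.eq_one_iff, mem_subgroupOf] at h2
  exact h2

theorem exists_hyperplane {N : Type*} [Group N] [Finite N] {p : ℕ} (hp : p.Prime) (hp2 : p ≠ 2) {k : ℕ}
    {h : Fin k → N} (hc : ∀ l m, h l * h m = h m * h l) (hpow : ∀ l, h l ^ p = 1) {W : Subgroup N}
    (hW : IsPGroup 2 W) (hne : W ≠ ⊥) (hn : ∀ l, h l ∈ normalizer (W : Set N))
    (hfix : ∀ w ∈ W, (∀ l, w * h l = h l * w) → w = 1) :
    ∃ (a : Fin k) (n : Fin k → ℕ), n a = 1 ∧ ∃ w ∈ W, w ≠ 1 ∧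
      ∀ l, w * (h l * (h a ^ n l)⁻¹) = (h l * (h a ^ n l)⁻¹) * w := by
  classical
  have : Fact p.Prime := ⟨hp⟩
  set H : Subgroup N := _root_.Subgroup.closure (Set.range h) with hH
  have hhH : ∀ l, h l ∈ H := fun l => subset_closure ⟨l, rfl⟩
  have hcen : H ≤ centralizer (Set.range h) := by
    rw [hH, closure_le]
    rintro _ ⟨l, rfl⟩
    rw [SetLike.mem_coe, mem_centralizer_iff]
    rintro _ ⟨m, rfl⟩
    exact hc m l
  have hcen2 : H ≤ centralizer (H : Set N) := by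
    conv_lhs => rw [hH]
    rw [closure_le]
    rintro _ ⟨l, rfl⟩
    rw [SetLike.mem_coe, mem_centralizer_iff]
    intro x hx
    exact (mem_centralizer_iff.1 (hcen hx) (h l) ⟨l, rfl⟩).symm
  have hcomm : ∀ x ∈ H, ∀ y ∈ H, x * y = y * x := fun x hx y hy =>
    mem_centralizer_iff.1 (hcen2 hy) x hx
  have hHp : ∀ x ∈ H, x ^ p = 1 := by
    intro x hx
    induction hx using closure_induction with
    | mem x hx => obtain ⟨l, rfl⟩ := hx; exact hpow l
    | one => exact one_pow p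
    | mul x y hx hy h1 h2 => rw [(show Commute x y from hcomm x hx y hy).mul_pow, h1, h2, one_mul]
    | inv x hx h1 => rw [inv_pow, h1, inv_one]
  have hel : Cfsg.IsElementaryAbelian p H :=
    ⟨⟨⟨fun a b => Subtype.ext (hcomm a a.2 b b.2)⟩⟩, hHp⟩
  have hHn : H ≤ normalizer (W : Set N) := by
    rw [hH, closure_le]
    rintro _ ⟨l, rfl⟩
    exact hn l
  have hH1 : H ≠ ⊥ := by
    intro h1
    apply hne
    rw [eq_bot_iff]
    intro w hw
    rw [mem_bot]
    refine hfix w hw fun l => ?_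
    have h2 : h l = 1 := by
      have := hhH l
      rwa [h1, mem_bot] at this
    rw [h2, one_mul, mul_one]
  have hpW : ¬ p ∣ Nat.card W := by
    obtain ⟨n, hn⟩ := IsPGroup.iff_card.1 hW
    rw [hn]
    intro h1
    exact hp2 ((Nat.prime_dvd_prime_iff_eq hp Nat.prime_two).1 (hp.dvd_of_dvd_pow h1))
  have hgen := Cfsg.Agent.Lib.CoprimeHyperplane.iSup_centralizer_hyperplane hel hH1 hpW hHn
  obtain ⟨B, hB⟩ : ∃ B : {B : Subgroup N // B ≤ H ∧ B.relIndex H = p},
      W ⊓ centralizer ((B : Subgroup N) : Set N) ≠ ⊥ := by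
    by_contra h1
    push Not at h1
    apply hne
    rw [← hgen, iSup_eq_bot]
    exact h1
  obtain ⟨B, hBH, hBi⟩ := B
  obtain ⟨w, hw, hw1⟩ := (Subgroup.bot_or_exists_ne_one _).resolve_left hB
  obtain ⟨hwW, hwB⟩ := mem_inf.1 hw
  obtain ⟨a, ha⟩ : ∃ a, h a ∉ B := by
    by_contra h1
    push Not at h1
    exact hw1 (hfix w hwW fun l => (mem_centralizer_iff.1 hwB (h l) (h1 l)).symm)
  have hex : ∀ l, ∃ n : ℕ, (l = a → n = 1) ∧ h l * (h a ^ n)⁻¹ ∈ B := by
    intro l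
    by_cases hla : l = a
    · refine ⟨1, fun _ => rfl, ?_⟩
      rw [hla, pow_one, mul_inv_cancel]
      exact B.one_mem
    · obtain ⟨n, hn⟩ := exists_pow_mem hp hcomm hBi (hhH l) (hhH a) ha
      exact ⟨n, fun h => absurd h hla, hn⟩
  choose n hn1 hn2 using hex
  exact ⟨a, n, hn1 a rfl, w, hwW, hw1, fun l => (mem_centralizer_iff.1 hwB _ (hn2 l)).symm⟩

end Cfsg.Agent.Omega.ThmC.Four

end

end

-- merged: Cfsg.Agent.Mrg.Omega.ThmC.FourMain
section

section


/-!
# THEOREM C, case `q ≥ 4`, (3): the theorem in `N = N_G(E) / C_G(E)`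

`Abs.main` : a 2-subgroup of `N` normalised by the `h l` and by the elements of `S` which normalise every `⟨h l⟩` is
trivial.
-/

set_option autoImplicit false
set_option linter.unusedSectionVars false
set_option linter.unusedVariables false

namespace Cfsg.Agent.Omega.ThmC.Four

open Subgroup Cfsg

universe u

namespace Abs

variable {N A : Type u} [Group N] [Finite N] [AddCommGroup A] [Finite A] {ρ : N →* AddMonoid.End A}
  {S : Sylow 2 N} {k : ℕ} {h : Fin k → N} {Z : Fin k → AddSubgroup A} {p : ℕ}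

/-! ### (3)(a) -/

/-- The elements of `N` which commute with all `eps l`. -/
def stabC (ρ : N →* AddMonoid.End A) (h : Fin k → N) : Subgroup N where
  carrier := {n | ∀ l, ρ n * eps ρ h l = eps ρ h l * ρ n}
  one_mem' := fun l => by rw [map_one, one_mul, mul_one]
  mul_mem' := by
    intro a b ha hb l
    rw [map_mul, mul_assoc, hb l, ← mul_assoc, ha l, mul_assoc]
  inv_mem' := by
    intro a ha l
    have h1 : ρ a⁻¹ * ρ a = 1 := by rw [← map_mul, inv_mul_cancel, map_one]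
    have h2 : ρ a * ρ a⁻¹ = 1 := by rw [← map_mul, mul_inv_cancel, map_one]
    calc ρ a⁻¹ * eps ρ h l = ρ a⁻¹ * eps ρ h l * (ρ a * ρ a⁻¹) := by rw [h2, mul_one]
      _ = ρ a⁻¹ * (eps ρ h l * ρ a) * ρ a⁻¹ := by noncomm_ring
      _ = ρ a⁻¹ * (ρ a * eps ρ h l) * ρ a⁻¹ := by rw [ha l]
      _ = (ρ a⁻¹ * ρ a) * eps ρ h l * ρ a⁻¹ := by noncomm_ring
      _ = eps ρ h l * ρ a⁻¹ := by rw [h1, one_mul]

theorem mem_stabC {n : N} : n ∈ stabC ρ h ↔ ∀ l, ρ n * eps ρ h l = eps ρ h l * ρ n := Iff.rfl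

theorem perm_eq (d : Abs ρ S h Z p) {s : N} {σ : Equiv.Perm (Fin k)} (hs : Perm h s σ) {l : Fin k}
    (hc : ρ s * eps ρ h l = eps ρ h l * ρ s) : σ l = l := by
  by_contra hne
  have h2 : ρ s * ρ s⁻¹ = 1 := by rw [← map_mul, mul_inv_cancel, map_one]
  have h1 : eps ρ h (σ l) = eps ρ h l := by
    calc eps ρ h (σ l) = eps ρ h (σ l) * ρ s * ρ s⁻¹ := by rw [mul_assoc, h2, mul_one]
      _ = eps ρ h l * ρ s * ρ s⁻¹ := by rw [← conj_eps hs, hc]
      _ = eps ρ h l := by rw [mul_assoc, h2, mul_one]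
  obtain ⟨a, ha⟩ := d.eps_ne l
  apply ha
  have h3 := d.eps_orth hne
  rw [h1, d.eps_idem] at h3
  rw [h3]
  rfl

theorem S_le_normalizer (d : Abs ρ S h Z p) : (S : Subgroup N) ≤ normalizer (stabC ρ h : Set N) := by
  have key : ∀ s ∈ (S : Subgroup N), ∀ n ∈ stabC ρ h, s * n * s⁻¹ ∈ stabC ρ h := by
    intro s hs n hn l
    obtain ⟨σ, hσ⟩ := d.perm s hs
    obtain ⟨τ, hτ⟩ := d.perm s⁻¹ (inv_mem hs)
    have h1 : σ (τ l) = l := by
      have := d.perm_eq (Perm.mul hσ hτ) (l := l) (by rw [mul_inv_cancel, map_one, one_mul, mul_one])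
      exact this
    have h2 : ρ s⁻¹ * eps ρ h l = eps ρ h (τ l) * ρ s⁻¹ := conj_eps hτ l
    have h3 : ρ s * eps ρ h (τ l) = eps ρ h l * ρ s := by rw [conj_eps hσ, h1]
    calc ρ (s * n * s⁻¹) * eps ρ h l = ρ s * ρ n * (ρ s⁻¹ * eps ρ h l) := by
          rw [map_mul, map_mul]; noncomm_ring
      _ = ρ s * (ρ n * eps ρ h (τ l)) * ρ s⁻¹ := by rw [h2]; noncomm_ring
      _ = (ρ s * eps ρ h (τ l)) * ρ n * ρ s⁻¹ := by rw [hn]; noncomm_ring
      _ = eps ρ h l * ρ (s * n * s⁻¹) := by rw [h3, map_mul, map_mul]; noncomm_ring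
  intro s hs
  rw [mem_normalizer_iff]
  intro n
  refine ⟨key s hs n, fun hn => ?_⟩
  have := key s⁻¹ (inv_mem hs) _ hn
  simpa [mul_assoc] using this

/-- (3)(a) -/
theorem mem_S (d : Abs ρ S h Z p) {W : Subgroup N} (hW : IsPGroup 2 W)
    (hSW : ∀ s ∈ (S : Subgroup N), (∀ l, ∃ r : ℕ, s * h l * s⁻¹ = h l ^ r) → s ∈ normalizer (W : Set N))
    {w : N} (hw : w ∈ W) (hc : w ∈ stabC ρ h) : w ∈ (S : Subgroup N) := by
  set T : Subgroup N := (S : Subgroup N) ⊓ stabC ρ h with hT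
  have hTN : T ≤ normalizer ((W ⊓ stabC ρ h : Subgroup N) : Set N) := by
    rintro s ⟨hs, hs0⟩
    have h1 : s ∈ normalizer (W : Set N) := by
      refine hSW s hs fun l => ?_
      obtain ⟨σ, hσ⟩ := d.perm s hs
      obtain ⟨r, hr⟩ := hσ l
      exact ⟨r, by rw [hr, d.perm_eq hσ (hs0 l)]⟩
    have h2 := d.S_le_normalizer hs
    rw [mem_normalizer_iff] at h1 h2 ⊢
    intro n
    exact ⟨fun hn => ⟨(h1 n).1 hn.1, (h2 n).1 hn.2⟩, fun hn => ⟨(h1 n).2 hn.1, (h2 n).2 hn.2⟩⟩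
  have hT2 : IsPGroup 2 T := S.isPGroup'.to_le inf_le_left
  have hW2 : IsPGroup 2 (W ⊓ stabC ρ h : Subgroup N) := hW.to_le inf_le_left
  have hsup : IsPGroup 2 (T ⊔ (W ⊓ stabC ρ h) : Subgroup N) := hT2.to_sup_of_normal_right' hW2 hTN
  have hle : T ⊔ (W ⊓ stabC ρ h) ≤ stabC ρ h := sup_le inf_le_right inf_le_right
  obtain ⟨x, hx, hxS⟩ := exists_conj_le (S := S) (M := normalizer (stabC ρ h : Set N)) d.S_le_normalizer hsup
    (hle.trans le_normalizer)
  have h3 : (T ⊔ (W ⊓ stabC ρ h)).map (MulAut.conj x).toMonoidHom ≤ T := by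
    rintro _ ⟨t, ht, rfl⟩
    exact ⟨hxS t ht, (mem_normalizer_iff.1 hx t).1 (hle ht)⟩
  have h4 : Nat.card ↥(T ⊔ (W ⊓ stabC ρ h)) ≤ Nat.card T := by
    rw [← card_map_conj (T ⊔ (W ⊓ stabC ρ h)) x]
    exact Subgroup.card_le_of_le h3
  have h5 : T = T ⊔ (W ⊓ stabC ρ h) := eq_of_le_of_card_ge le_sup_left h4
  have h6 : w ∈ T := by
    rw [h5]
    exact mem_sup_right ⟨hw, hc⟩
  exact h6.1

/-- An element of `W` which commutes with all `eps l` is trivial. -/
theorem eq_one_of_eps (d : Abs ρ S h Z p) {W : Subgroup N} (hW : IsPGroup 2 W)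
    (hh : ∀ l, h l ∈ normalizer (W : Set N))
    (hSW : ∀ s ∈ (S : Subgroup N), (∀ l, ∃ r : ℕ, s * h l * s⁻¹ = h l ^ r) → s ∈ normalizer (W : Set N))
    {w : N} (hw : w ∈ W) (hc : ∀ l, ρ w * eps ρ h l = eps ρ h l * ρ w) : w = 1 := by
  have hwS : w ∈ (S : Subgroup N) := d.mem_S hW hSW hw hc
  obtain ⟨σ, hσ⟩ := d.perm w hwS
  refine d.field w hwS fun l => ?_
  obtain ⟨r, hr⟩ := hσ l
  rw [d.perm_eq hσ (hc l)] at hr
  have h1 : w * (h l * w⁻¹ * (h l)⁻¹) ∈ W :=
    mul_mem hw ((mem_normalizer_iff.1 (hh l) w⁻¹).1 (inv_mem hw))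
  have h2 : w * (h l * w⁻¹ * (h l)⁻¹) = h l ^ r * (h l)⁻¹ := by rw [← hr]; group
  have h3 : (w * (h l * w⁻¹ * (h l)⁻¹)) ^ p = 1 := by
    rw [h2]
    exact d.DD_pow _ (mul_mem (pow_mem (h_mem_DD h l) r) (inv_mem (h_mem_DD h l)))
  have h4 : w * (h l * w⁻¹ * (h l)⁻¹) = 1 := by
    obtain ⟨n, hn⟩ := hW ⟨_, h1⟩
    have h5 : (w * (h l * w⁻¹ * (h l)⁻¹)) ^ 2 ^ n = 1 := congrArg Subtype.val hn
    have h6 : orderOf (w * (h l * w⁻¹ * (h l)⁻¹)) ∣ Nat.gcd p (2 ^ n) :=
      Nat.dvd_gcd (orderOf_dvd_of_pow_eq_one h3) (orderOf_dvd_of_pow_eq_one h5)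
    have h7 : Nat.Coprime p (2 ^ n) :=
      Nat.Coprime.pow_right n ((Nat.coprime_primes d.prime Nat.prime_two).2 d.odd)
    rw [h7.gcd_eq_one] at h6
    exact orderOf_eq_one_iff.1 (Nat.dvd_one.1 h6)
  calc w * h l = w * (h l * w⁻¹ * (h l)⁻¹) * h l * w := by group
    _ = h l * w := by rw [h4, one_mul]

/-! ### (3)(b) -/

theorem fix_rest (d : Abs ρ S h Z p) {l a : Fin k} (hla : l ≠ a) {T : AddMonoid.End A}
    (hT : ∀ m, m ≠ l → m ≠ a → T * eps ρ h m = eps ρ h m) :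
    T * (1 + (eps ρ h l + eps ρ h a)) = 1 + (eps ρ h l + eps ρ h a) := by
  classical
  have h1 : (1 : AddMonoid.End A) + (eps ρ h l + eps ρ h a) = ∑ m ∈ (Finset.univ.erase l).erase a, eps ρ h m := by
    have h2 : (1 : AddMonoid.End A) = eps ρ h l + (eps ρ h a + ∑ m ∈ (Finset.univ.erase l).erase a, eps ρ h m) := by
      rw [Finset.add_sum_erase _ _ (Finset.mem_erase.2 ⟨hla.symm, Finset.mem_univ a⟩),
        Finset.add_sum_erase _ _ (Finset.mem_univ l), d.sum_eps]
    calc (1 : AddMonoid.End A) + (eps ρ h l + eps ρ h a)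
        = (eps ρ h l + eps ρ h l) + (eps ρ h a + eps ρ h a) +
          ∑ m ∈ (Finset.univ.erase l).erase a, eps ρ h m := by
          conv_lhs => rw [h2]
          abel
      _ = _ := by rw [d.add_self', d.add_self', zero_add, zero_add]
  rw [h1, Finset.mul_sum]
  refine Finset.sum_congr rfl fun m hm => ?_
  rw [Finset.mem_erase, Finset.mem_erase] at hm
  exact hT m hm.2.1 hm.1

theorem h_eps_apply (d : Abs ρ S h Z p) {l m : Fin k} (hml : m ≠ l) {c : A} (hc : eps ρ h l c = c) :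
    ρ (h m) c = c := by
  have := congrArg (fun T : AddMonoid.End A => T c) (d.h_mul_eps hml)
  change ρ (h m) (eps ρ h l c) = eps ρ h l c at this
  rwa [hc] at this

theorem mem_zpowers_pow (d : Abs ρ S h Z p) {a : Fin k} {n : ℕ} (hn : ¬ p ∣ n) : h a ∈ zpowers (h a ^ n) := by
  have hcop : Nat.Coprime n p := ((Nat.Prime.coprime_iff_not_dvd d.prime).2 hn).symm
  obtain ⟨m, hm⟩ := exists_pow_eq_self_of_coprime (x := h a) (n := n) (by rw [d.orderOf_h]; exact hcop)
  exact ⟨m, by change (h a ^ n) ^ (m : ℤ) = h a; rw [zpow_natCast, hm]⟩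

theorem pow_eps_apply (d : Abs ρ S h Z p) {l a : Fin k} (hla : a ≠ l) (n : ℕ) {c : A} (hc : eps ρ h l c = c) :
    ρ (h a ^ n) c = c :=
  pow_fix (d.h_eps_apply hla hc) ⟨n, zpow_natCast _ _⟩

theorem inv_apply {x : N} {c : A} (hx : ρ x c = c) : ρ x⁻¹ c = c := pow_fix hx ⟨-1, zpow_neg_one _⟩

theorem inv_apply' {x : N} {c : A} (hx : ρ x⁻¹ c = c) : ρ x c = c := by
  have := inv_apply (ρ := ρ) hx
  rwa [inv_inv] at this

/-- `h l (h a ^ n)⁻¹` is fixed-point-free on `C_l`. -/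
theorem fpf_pair (d : Abs ρ S h Z p) {l a : Fin k} (hla : l ≠ a) {n : ℕ} {c : A}
    (hc : eps ρ h l c = c) (hx : ρ (h l * (h a ^ n)⁻¹) c = c) : c = 0 := by
  refine d.fpf' hc ?_
  rw [rho_mul, inv_apply (d.pow_eps_apply hla.symm n hc)] at hx
  exact hx

/-- `h l (h a ^ n)⁻¹` is fixed-point-free on `C_a`. -/
theorem fpf_pair' (d : Abs ρ S h Z p) {l a : Fin k} (hla : l ≠ a) {n : ℕ} (hn : ¬ p ∣ n) {c : A}
    (hc : eps ρ h a c = c) (hx : ρ (h l * (h a ^ n)⁻¹) c = c) : c = 0 := by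
  have h1 : h l * (h a ^ n)⁻¹ = (h a ^ n)⁻¹ * h l :=
    d.DD_comm _ (h_mem_DD h l) _ (inv_mem (pow_mem (h_mem_DD h a) n))
  rw [h1, rho_mul, d.h_eps_apply hla hc] at hx
  exact d.fpf' hc (pow_fix (inv_apply' hx) (d.mem_zpowers_pow hn))

theorem pair_mem_DD (l a : Fin k) (n : ℕ) : h l * (h a ^ n)⁻¹ ∈ DD h :=
  mul_mem (h_mem_DD h l) (inv_mem (pow_mem (h_mem_DD h a) n))

theorem eps_pair (d : Abs ρ S h Z p) {l a : Fin k} (hla : l ≠ a) {n : ℕ} (hn : ¬ p ∣ n) :
    eps ρ h l + eps ρ h a = 1 + avg ρ (zpowers (h l * (h a ^ n)⁻¹)) := by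
  set x := h l * (h a ^ n)⁻¹ with hx
  have hxD : x ∈ DD h := pair_mem_DD l a n
  have hXD : zpowers x ≤ DD h := zpowers_le.2 hxD
  have hcomm : ∀ m, avg ρ (zpowers x) * eps ρ h m = eps ρ h m * avg ρ (zpowers x) := fun m =>
    (commute_avg ρ fun y hy => (d.commute_DD (hXD hy) m).symm).symm
  have hfix : ∀ c, ρ x (avg ρ (zpowers x) c) = avg ρ (zpowers x) c := fun c =>
    fix_avg_apply ρ (mem_zpowers x) c
  have z1 : avg ρ (zpowers x) * eps ρ h l = 0 := by
    ext c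
    refine d.fpf_pair hla (n := n) ?_ (hfix _)
    rw [hcomm]
    exact d.idem_apply l _
  have z2 : avg ρ (zpowers x) * eps ρ h a = 0 := by
    ext c
    refine d.fpf_pair' hla hn ?_ (hfix _)
    rw [hcomm]
    exact d.idem_apply a _
  have z3 : avg ρ (zpowers x) * (1 + (eps ρ h l + eps ρ h a)) = 1 + (eps ρ h l + eps ρ h a) := by
    refine d.fix_rest hla fun m hml hma => ?_
    refine avg_mul_of_fix ρ d.two (d.odd_card hXD) fun y hy => ?_
    ext c
    refine pow_fix (ρ := ρ) (x := x) ?_ hy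
    change ρ x (eps ρ h m c) = eps ρ h m c
    rw [hx, rho_mul, inv_apply (d.pow_eps_apply hma.symm n (d.idem_apply m c)),
      d.h_eps_apply hml.symm (d.idem_apply m c)]
  rw [mul_add, mul_add, z1, z2, mul_one, add_zero, add_zero] at z3
  rw [z3, ← add_assoc, d.add_self', zero_add]

/-- `im` of a product with a surjection. -/
theorem range_eq {T U V : AddMonoid.End A} (h1 : T = U * V) (hV : Function.Surjective V) :
    AddMonoidHom.range T = AddMonoidHom.range U := by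
  apply le_antisymm
  · rintro _ ⟨x, rfl⟩
    exact ⟨V x, by rw [h1]; rfl⟩
  · rintro _ ⟨x, rfl⟩
    obtain ⟨y, rfl⟩ := hV x
    exact ⟨y, by rw [h1]; rfl⟩

theorem real_case (d : Abs ρ S h Z p) {W : Subgroup N} (hW : IsPGroup 2 W)
    (hh : ∀ l, h l ∈ normalizer (W : Set N)) (hfix : ∀ w ∈ W, (∀ l, w * h l = h l * w) → w = 1)
    {a b : Fin k} {n : Fin k → ℕ} (hba : b ≠ a) (hpb : ¬ p ∣ n b) (hna : n a = 1) {w : N} (hw : w ∈ W)
    (hw1 : w ≠ 1) (hwc : ∀ l, w * (h l * (h a ^ n l)⁻¹) = (h l * (h a ^ n l)⁻¹) * w) : False := by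
  classical
  -- the subgroup `U`
  set U : Subgroup N := W ⊓ centralizer (Set.range fun l => h l * (h a ^ n l)⁻¹) with hU
  have memU : ∀ {y}, y ∈ U ↔ y ∈ W ∧ ∀ l, y * (h l * (h a ^ n l)⁻¹) = (h l * (h a ^ n l)⁻¹) * y := by
    intro y
    rw [hU, mem_inf, mem_centralizer_iff]
    refine and_congr_right fun _ => ⟨fun h1 l => (h1 _ ⟨l, rfl⟩).symm, ?_⟩
    rintro h1 _ ⟨l, rfl⟩
    exact (h1 l).symm
  have hwU : w ∈ U := memU.2 ⟨hw, hwc⟩
  -- an involution in the centre of `U`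
  obtain ⟨u, huU, hu1, huu, hucen⟩ : ∃ u ∈ U, u ≠ 1 ∧ u * u = 1 ∧ ∀ y ∈ U, u * y = y * u := by
    have hU2 : IsPGroup 2 U := hW.to_le inf_le_left
    have : Nontrivial U := ⟨⟨w, hwU⟩, 1, fun h1 => hw1 (congrArg Subtype.val h1)⟩
    have := hU2.center_nontrivial
    have hd : 2 ∣ Nat.card (center U) := by
      have hc2 : IsPGroup 2 (center U) := hU2.to_subgroup _
      obtain ⟨m, hm⟩ := IsPGroup.iff_card.1 hc2
      have h3 : 1 < Nat.card (center U) := Finite.one_lt_card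
      rw [hm] at h3 ⊢
      exact dvd_pow_self 2 (by rintro rfl; simp at h3)
    obtain ⟨c, hc⟩ := exists_prime_orderOf_dvd_card' 2 hd
    refine ⟨((c : U) : N), (c : U).2, ?_, ?_, ?_⟩
    · intro h3
      have : c = 1 := Subtype.ext (Subtype.ext h3)
      rw [this, orderOf_one] at hc
      omega
    · have h3 : c * c = 1 := by rw [← pow_two, ← hc]; exact pow_orderOf_eq_one c
      exact congrArg (fun z : center U => ((z : U) : N)) h3
    · intro y hy
      have h3 := mem_center_iff.1 c.2 ⟨y, hy⟩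
      exact (congrArg (fun z : U => (z : N)) h3).symm
  -- `t`, `dd`
  set t : N := h a ^ n b with ht
  have htD : t ∈ DD h := pow_mem (h_mem_DD h a) _
  have htU : ∀ y ∈ U, t * y * t⁻¹ ∈ U := by
    intro y hy
    obtain ⟨hyW, hyc⟩ := memU.1 hy
    refine memU.2 ⟨?_, fun l => ?_⟩
    · exact (mem_normalizer_iff.1 (pow_mem (hh a) (n b)) y).1 hyW
    · have h3 : t * (h l * (h a ^ n l)⁻¹) = (h l * (h a ^ n l)⁻¹) * t :=
        d.DD_comm _ htD _ (pair_mem_DD l a (n l))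
      have h4 : t⁻¹ * (h l * (h a ^ n l)⁻¹) = (h l * (h a ^ n l)⁻¹) * t⁻¹ :=
        d.DD_comm _ (inv_mem htD) _ (pair_mem_DD l a (n l))
      calc t * y * t⁻¹ * (h l * (h a ^ n l)⁻¹) = t * y * (t⁻¹ * (h l * (h a ^ n l)⁻¹)) := by group
        _ = t * (y * (h l * (h a ^ n l)⁻¹)) * t⁻¹ := by rw [h4]; group
        _ = (t * (h l * (h a ^ n l)⁻¹)) * y * t⁻¹ := by rw [hyc l]; group
        _ = (h l * (h a ^ n l)⁻¹) * (t * y * t⁻¹) := by rw [h3]; group
  have htU' : ∀ y ∈ U, t⁻¹ * y * t ∈ U := by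
    intro y hy
    obtain ⟨hyW, hyc⟩ := memU.1 hy
    refine memU.2 ⟨?_, fun l => ?_⟩
    · have := (mem_normalizer_iff.1 (inv_mem (pow_mem (hh a) (n b))) y).1 hyW
      rwa [inv_inv] at this
    · have h3 : t * (h l * (h a ^ n l)⁻¹) = (h l * (h a ^ n l)⁻¹) * t :=
        d.DD_comm _ htD _ (pair_mem_DD l a (n l))
      have h4 : t⁻¹ * (h l * (h a ^ n l)⁻¹) = (h l * (h a ^ n l)⁻¹) * t⁻¹ :=
        d.DD_comm _ (inv_mem htD) _ (pair_mem_DD l a (n l))
      calc t⁻¹ * y * t * (h l * (h a ^ n l)⁻¹) = t⁻¹ * y * (t * (h l * (h a ^ n l)⁻¹)) := by group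
        _ = t⁻¹ * (y * (h l * (h a ^ n l)⁻¹)) * t := by rw [h3]; group
        _ = (t⁻¹ * (h l * (h a ^ n l)⁻¹)) * y * t := by rw [hyc l]; group
        _ = (h l * (h a ^ n l)⁻¹) * (t⁻¹ * y * t) := by rw [h4]; group
  -- `cen y` : `y ∈ Z(U)`
  let cen : N → Prop := fun y => y ∈ U ∧ ∀ z ∈ U, y * z = z * y
  have cen_mul : ∀ {y z}, cen y → cen z → cen (y * z) := by
    rintro y z ⟨hy, hy'⟩ ⟨hz, hz'⟩
    refine ⟨mul_mem hy hz, fun x hx => ?_⟩
    rw [mul_assoc, hz' x hx, ← mul_assoc, hy' x hx, mul_assoc]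
  have cen_conj : ∀ {y}, cen y → cen (t * y * t⁻¹) := by
    rintro y ⟨hy, hy'⟩
    refine ⟨htU y hy, fun x hx => ?_⟩
    have h3 := hy' _ (htU' x hx)
    calc t * y * t⁻¹ * x = t * (y * (t⁻¹ * x * t)) * t⁻¹ := by group
      _ = x * (t * y * t⁻¹) := by rw [h3]; group
  have cu : cen u := ⟨huU, hucen⟩
  have cv : cen (t * u * t⁻¹) := cen_conj cu
  set v : N := t * u * t⁻¹ with hv
  set b₀ : N := u * v with hb₀
  have cb₀ : cen b₀ := cen_mul cu cv
  set b₁ : N := t * b₀ * t⁻¹ with hb₁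
  have cb₁ : cen b₁ := cen_conj cb₀
  have hvv : v * v = 1 := by
    calc v * v = t * (u * u) * t⁻¹ := by rw [hv]; group
      _ = 1 := by rw [huu]; group
  have huv : u * v = v * u := cu.2 v cv.1
  have hb₀2 : b₀ * b₀ = 1 := by
    calc b₀ * b₀ = u * (v * u) * v := by rw [hb₀]; group
      _ = (u * u) * (v * v) := by rw [← huv]; group
      _ = 1 := by rw [huu, hvv, one_mul]
  have hb₁2 : b₁ * b₁ = 1 := by
    calc b₁ * b₁ = t * (b₀ * b₀) * t⁻¹ := by rw [hb₁]; group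
      _ = 1 := by rw [hb₀2]; group
  -- `b₀ ≠ 1`
  have hb₀1 : b₀ ≠ 1 := by
    intro h1
    have h2 : v = u := by
      calc v = (u * u) * v := by rw [huu, one_mul]
        _ = u * b₀ := by rw [hb₀, mul_assoc]
        _ = u := by rw [h1, mul_one]
    have hut : u * t = t * u := by
      calc u * t = v * t := by rw [h2]
        _ = t * u := by rw [hv]; group
    have hua : u * h a = h a * u := by
      obtain ⟨m, hm⟩ := d.mem_zpowers_pow (a := a) hpb
      have h3 : (h a ^ n b) ^ m = h a := hm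
      rw [← h3]
      exact ((show Commute u (h a ^ n b) from hut).zpow_right m)
    have hul : ∀ l, u * h l = h l * u := by
      intro l
      have h3 := (memU.1 huU).2 l
      have h4 : u * h a ^ n l = h a ^ n l * u := (show Commute u (h a) from hua).pow_right (n l)
      calc u * h l = u * (h l * (h a ^ n l)⁻¹) * h a ^ n l := by group
        _ = (h l * (h a ^ n l)⁻¹) * (u * h a ^ n l) := by rw [h3]; group
        _ = h l * u := by rw [h4]; group
    exact hu1 (hfix u (memU.1 huU).1 hul)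
  -- `dd = t (h b)⁻¹`
  set dd : N := t * (h b)⁻¹ with hdd
  have hddD : dd ∈ DD h := mul_mem htD (inv_mem (h_mem_DD h b))
  have hdd' : dd⁻¹ = h b * (h a ^ n b)⁻¹ := by rw [hdd, ht]; group
  have hddc : ∀ y ∈ U, dd * y = y * dd := by
    intro y hy
    have h3 := (memU.1 hy).2 b
    rw [← hdd'] at h3
    calc dd * y = dd * (y * dd⁻¹) * dd := by group
      _ = y * dd := by rw [h3]; group
  have R1 : ∀ {x y : N}, x * y = y * x → ρ x * ρ y = ρ y * ρ x := by
    intro x y hxy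
    rw [← map_mul, hxy, map_mul]
  -- fixed points
  have fe : ∀ c, eps ρ h a c = c → ρ dd c = c → c = 0 := by
    intro c hc hx
    refine d.fpf_pair' hba hpb hc ?_
    rw [← hdd']
    exact inv_apply hx
  have ff : ∀ c, eps ρ h b c = c → ρ dd c = c → c = 0 := by
    intro c hc hx
    refine d.fpf_pair hba (n := n b) hc ?_
    rw [← hdd']
    exact inv_apply hx
  have sq : ∀ c, ρ dd (ρ dd c) = c → ρ dd c = c := by
    intro c hc
    have h1 : ρ (dd ^ 2) c = c := by rw [pow_two, rho_mul, hc]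
    refine pow_fix h1 ?_
    obtain ⟨m, hm⟩ := d.prime.odd_of_ne_two d.odd
    refine ⟨(m + 1 : ℕ), ?_⟩
    change (dd ^ 2) ^ ((m + 1 : ℕ) : ℤ) = dd
    rw [zpow_natCast, ← pow_mul, show 2 * (m + 1) = p + 1 by omega, pow_succ, d.DD_pow dd hddD, one_mul]
  have hab : a ≠ b := hba.symm
  obtain ⟨⟨o1, o2⟩, ⟨o3, o4⟩, ⟨o5, o6, o7⟩, -⟩ :=
    core (R := AddMonoid.End A) (End_two d.two) (e := eps ρ h a) (f := eps ρ h b) (u := ρ u) (D := ρ dd)
      (D' := ρ dd⁻¹) (H := ρ t) (H' := ρ t⁻¹) (b₀ := ρ b₀) (b₁ := ρ b₁)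
      (d.eps_idem a) (d.eps_idem b) (d.eps_orth hab) (d.eps_orth hba)
      (by rw [← map_mul, huu, map_one])
      (by
        rw [add_comm (eps ρ h a), d.eps_pair hba hpb, mul_add, add_mul, mul_one, one_mul]
        congr 1
        refine commute_avg ρ fun y hy => ?_
        refine R1 ?_
        obtain ⟨m, rfl⟩ := hy
        exact (show Commute u (h b * (h a ^ n b)⁻¹) from (memU.1 huU).2 b).zpow_right m)
      (by rw [← map_mul, mul_inv_cancel, map_one]) (by rw [← map_mul, inv_mul_cancel, map_one])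
      (d.commute_DD hddD a) (d.commute_DD hddD b) (R1 (hddc u huU)) (R1 (d.DD_comm _ hddD _ htD))
      (R1 (d.DD_comm _ hddD _ (inv_mem htD)))
      (by rw [← map_mul, inv_mul_cancel, map_one])
      (by
        ext c
        change ρ t (eps ρ h a c) = ρ dd (eps ρ h a c)
        rw [hdd, rho_mul, inv_apply (d.h_eps_apply hba (d.idem_apply a c))])
      (by
        ext c
        exact d.pow_eps_apply hab (n b) (d.idem_apply b c))
      (d.fix_rest hab fun m hma hmb => by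
        ext c
        exact d.pow_eps_apply hma.symm (n b) (d.idem_apply m c))
      (by
        rw [← map_mul, ← map_mul, ← map_mul, ← map_mul]
        exact congrArg ρ huv)
      (fun T h1 h2 => by
        ext c
        exact fe _ (congrArg (fun T : AddMonoid.End A => T c) h1) (congrArg (fun T : AddMonoid.End A => T c) h2))
      (fun T h1 h2 => by
        ext c
        exact ff _ (congrArg (fun T : AddMonoid.End A => T c) h1) (congrArg (fun T : AddMonoid.End A => T c) h2))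
      (fun T h1 h2 => by
        ext c
        exact fe _ (congrArg (fun T : AddMonoid.End A => T c) h1)
          (sq _ (congrArg (fun T : AddMonoid.End A => T c) h2)))
      (fun T h1 h2 => by
        ext c
        exact ff _ (congrArg (fun T : AddMonoid.End A => T c) h1)
          (sq _ (congrArg (fun T : AddMonoid.End A => T c) h2)))
      (by rw [hb₀, hv, map_mul, map_mul, map_mul]) (by rw [hb₁, map_mul, map_mul])
  -- the images
  set e := eps ρ h a with he
  set f := eps ρ h b with hf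
  set D := ρ dd with hD
  set D' := ρ dd⁻¹ with hD'
  have ee : e * e = e := d.eps_idem a
  have ff' : f * f = f := d.eps_idem b
  have ef : e * f = 0 := d.eps_orth hab
  have fe' : f * e = 0 := d.eps_orth hba
  have DD1 : D * D' = 1 := by rw [hD, hD', ← map_mul, mul_inv_cancel, map_one]
  have DD2 : D' * D = 1 := by rw [hD, hD', ← map_mul, inv_mul_cancel, map_one]
  have De : D * e = e * D := d.commute_DD hddD a
  have Df : D * f = f * D := d.commute_DD hddD b
  have De' : D' * e = e * D' := d.commute_DD (inv_mem hddD) a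
  have Df' : D' * f = f * D' := d.commute_DD (inv_mem hddD) b
  have hdi : ∀ y ∈ U, dd⁻¹ * y = y * dd⁻¹ := by
    intro y hy
    have := hddc y hy
    calc dd⁻¹ * y = dd⁻¹ * (y * dd) * dd⁻¹ := by group
      _ = y * dd⁻¹ := by rw [← this]; group
  have Db : D * (1 + ρ b₀) = (1 + ρ b₀) * D := by
    rw [mul_add, add_mul, mul_one, one_mul, R1 (hddc b₀ cb₀.1)]
  have Db' : D' * (1 + ρ b₀) = (1 + ρ b₀) * D' := by
    rw [mul_add, add_mul, mul_one, one_mul, R1 (hdi b₀ cb₀.1)]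
  have split : ∀ T : AddMonoid.End A, T * (1 + (e + f)) = 0 → T = T * e + T * f := by
    intro T hT
    calc T = T + (T * (e + f) + T * (e + f)) := by rw [d.add_self', add_zero]
      _ = T * (1 + (e + f)) + (T * e + T * f) := by noncomm_ring
      _ = T * e + T * f := by rw [hT, zero_add]
  have surj : ∀ E F : AddMonoid.End A, e * E = E * e → f * F = F * f →
      (∀ c, e c = c → E c = 0 → c = 0) → (∀ c, f c = c → F c = 0 → c = 0) →
      Function.Surjective ⇑(E * e + F * f + (1 + (e + f)) : AddMonoid.End A) := by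
    intro E F hE hF hE0 hF0
    refine Finite.surjective_of_injective ?_
    rw [injective_iff_map_eq_zero]
    intro x hx
    have ex : e * (E * e + F * f + (1 + (e + f))) = E * e := by
      have k1 : e * (E * e) = E * e := by rw [← mul_assoc, hE, mul_assoc, ee]
      have k2 : e * (F * f) = 0 := by rw [← hF, ← mul_assoc, ef, zero_mul]
      have k3 : e * (1 + (e + f)) = 0 := by rw [mul_add, mul_add, ee, ef, mul_one, add_zero, d.add_self']
      rw [mul_add, mul_add, k1, k2, k3, add_zero, add_zero]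
    have fx : f * (E * e + F * f + (1 + (e + f))) = F * f := by
      have k1 : f * (F * f) = F * f := by rw [← mul_assoc, hF, mul_assoc, ff']
      have k2 : f * (E * e) = 0 := by rw [← hE, ← mul_assoc, fe', zero_mul]
      have k3 : f * (1 + (e + f)) = 0 := by rw [mul_add, mul_add, ff', fe', mul_one, zero_add, d.add_self']
      rw [mul_add, mul_add, k1, k2, k3, add_zero, zero_add]
    have h1 : E (e x) = 0 := by
      have := congrArg (fun T : AddMonoid.End A => T x) ex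
      change e ((E * e + F * f + (1 + (e + f)) : AddMonoid.End A) x) = E (e x) at this
      rw [← this, hx, map_zero]
    have h2 : F (f x) = 0 := by
      have := congrArg (fun T : AddMonoid.End A => T x) fx
      change f ((E * e + F * f + (1 + (e + f)) : AddMonoid.End A) x) = F (f x) at this
      rw [← this, hx, map_zero]
    have h3 : e x = 0 := hE0 _ (d.idem_apply a x) h1
    have h4 : f x = 0 := hF0 _ (d.idem_apply b x) h2
    have h5 : E (e x) + F (f x) + (x + (e x + f x)) = 0 := hx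
    rw [h3, h4, map_zero, map_zero, zero_add, zero_add, add_zero] at h5
    exact h5
  have zero_of : ∀ (i : Fin k) (T T' : AddMonoid.End A), T' * T = 1 → ∀ c, T c = 0 → c = 0 := by
    intro i T T' hT c hc
    have := congrArg (fun T : AddMonoid.End A => T c) hT
    change T' (T c) = c at this
    rw [← this, hc, map_zero]
  have him1 : im ρ b₁ = im ρ b₀ := by
    refine range_eq (T := 1 + ρ b₁) (U := 1 + ρ b₀) (V := D' * e + D * f + (1 + (e + f))) ?_
      (surj D' D De'.symm Df.symm (fun c _ => zero_of a D' D DD1 c) (fun c _ => zero_of a D D' DD2 c))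
    calc 1 + ρ b₁ = (1 + ρ b₁) * e + (1 + ρ b₁) * f := split _ o6
      _ = D' * (1 + ρ b₀) * e + D * (1 + ρ b₀) * f := by rw [o1, o2]; noncomm_ring
      _ = (1 + ρ b₀) * (D' * e + D * f) + 0 := by rw [Db, Db']; noncomm_ring
      _ = (1 + ρ b₀) * (D' * e + D * f + (1 + (e + f))) := by rw [← o5]; noncomm_ring
  have him2 : im ρ (b₀ * b₁) = im ρ b₀ := by
    refine range_eq (T := 1 + ρ (b₀ * b₁)) (U := 1 + ρ b₀)
      (V := (1 + D') * e + (1 + D) * f + (1 + (e + f))) ?_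
      (surj (1 + D') (1 + D) (by rw [mul_add, add_mul, De', mul_one, one_mul])
        (by rw [mul_add, add_mul, Df, mul_one, one_mul]) ?_ ?_)
    · rw [map_mul]
      calc 1 + ρ b₀ * ρ b₁ = (1 + ρ b₀ * ρ b₁) * e + (1 + ρ b₀ * ρ b₁) * f := split _ o7
        _ = (1 + D') * (1 + ρ b₀) * e + (1 + D) * (1 + ρ b₀) * f := by rw [o3, o4]; noncomm_ring
        _ = (1 + ρ b₀) * e + D' * (1 + ρ b₀) * e + ((1 + ρ b₀) * f + D * (1 + ρ b₀) * f) := by noncomm_ring
        _ = (1 + ρ b₀) * ((1 + D') * e + (1 + D) * f) + 0 := by rw [Db, Db']; noncomm_ring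
        _ = (1 + ρ b₀) * ((1 + D') * e + (1 + D) * f + (1 + (e + f))) := by rw [← o5]; noncomm_ring
    · intro c hc h1
      have h2 : c + ρ dd⁻¹ c = 0 := h1
      refine fe c hc (inv_apply' ?_)
      calc ρ dd⁻¹ c = (c + c) + ρ dd⁻¹ c := by rw [d.two, zero_add]
        _ = c := by rw [add_assoc, h2, add_zero]
    · intro c hc h1
      have h2 : c + ρ dd c = 0 := h1
      refine ff c hc ?_
      calc ρ dd c = (c + c) + ρ dd c := by rw [d.two, zero_add]
        _ = c := by rw [add_assoc, h2, add_zero]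
  exact d.no_four hW (f := b₀) (g := b₁) (memU.1 cb₀.1).1 (memU.1 cb₁.1).1 hb₀2 hb₁2 (cb₀.2 b₁ cb₁.1) hb₀1
    him1.symm (by rw [← cb₀.2 b₁ cb₁.1, him2])

/-- **THEOREM C, case `q ≥ 4`, in `N = N_G(E) / C_G(E)`.** -/
theorem main (d : Abs ρ S h Z p) {W : Subgroup N} (hW : IsPGroup 2 W)
    (hh : ∀ l, h l ∈ normalizer (W : Set N))
    (hSW : ∀ s ∈ (S : Subgroup N), (∀ l, ∃ r : ℕ, s * h l * s⁻¹ = h l ^ r) → s ∈ normalizer (W : Set N)) :
    W = ⊥ := by
  by_contra hne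
  have hfix : ∀ w ∈ W, (∀ l, w * h l = h l * w) → w = 1 := fun w hw hc =>
    d.eq_one_of_eps hW hh hSW hw fun l => d.commute_eps (hc l)
  obtain ⟨a, n, hna, w, hw, hw1, hwc⟩ := exists_hyperplane d.prime d.odd d.hcomm d.hp hW hne hh hfix
  have hdiv : ∀ l, p ∣ n l → ρ w * eps ρ h l = eps ρ h l * ρ w := by
    intro l hl
    obtain ⟨m, hm⟩ := hl
    have h1 := hwc l
    have h2 : h a ^ n l = 1 := by rw [hm, pow_mul, d.hp, one_pow]
    rw [h2, inv_one, mul_one] at h1
    exact d.commute_eps h1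
  have hpair : ∀ l, l ≠ a → ¬ p ∣ n l →
      ρ w * (eps ρ h l + eps ρ h a) = (eps ρ h l + eps ρ h a) * ρ w := by
    intro l hla hl
    rw [d.eps_pair hla hl, mul_add, add_mul, mul_one, one_mul]
    congr 1
    refine commute_avg ρ fun y hy => ?_
    obtain ⟨m, rfl⟩ := hy
    rw [← map_mul, ← map_mul]
    congr 1
    exact (show Commute w (h l * (h a ^ n l)⁻¹) from hwc l).zpow_right m
  -- it suffices to commute with `eps a`
  have hsuff : ρ w * eps ρ h a = eps ρ h a * ρ w → False := by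
    intro ha
    refine hw1 (d.eq_one_of_eps hW hh hSW hw fun l => ?_)
    by_cases hla : l = a
    · rw [hla]; exact ha
    · by_cases hl : p ∣ n l
      · exact hdiv l hl
      · have h1 := hpair l hla hl
        rw [mul_add, add_mul, ha] at h1
        exact add_right_cancel h1
  by_cases hb : ∃ b, b ≠ a ∧ ¬ p ∣ n b
  · obtain ⟨b, hba, hpb⟩ := hb
    exact d.real_case hW hh hfix hba hpb hna hw hw1 hwc
  · push Not at hb
    apply hsuff
    have h1 : eps ρ h a = 1 + ∑ m ∈ Finset.univ.erase a, eps ρ h m := by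
      have h2 : eps ρ h a + ∑ m ∈ Finset.univ.erase a, eps ρ h m = 1 := by
        rw [Finset.add_sum_erase _ _ (Finset.mem_univ a), d.sum_eps]
      rw [← h2, add_assoc, d.add_self', add_zero]
    rw [h1, mul_add, add_mul, mul_one, one_mul]
    congr 1
    rw [Finset.mul_sum, Finset.sum_mul]
    exact Finset.sum_congr rfl fun m hm => hdiv m (hb m (Finset.ne_of_mem_erase hm))

end Abs

end Cfsg.Agent.Omega.ThmC.Four

end

section


/-!
# THEOREM C with `D`, case `q ≥ 4`, (3): supports of size at least 2 (after helper334's `ThmC/FourMain.lean`)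

* `eq_one_of_eps` : an element of a 2-subgroup `W` (normalised by the `h l` and by the elements of `S` which normalise
  every `⟨h l⟩`) which commutes with all `eps l` is trivial;
* `real_case` : no element `≠ 1` of `W` commutes with `h l (h a ^ n l)⁻¹` for all `l`, `p ∤ n b` for some `b ≠ a`;
* `exists_single` : if `W ≠ 1`, then some `w ≠ 1` in `W` commutes with all `h l`, `l ≠ a`.
-/

set_option autoImplicit false
set_option linter.unusedSectionVars false
set_option linter.unusedVariables false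

namespace Cfsg.Agent.Omega.IId.ThmCQ

open Subgroup Cfsg Cfsg.Agent.Omega.ThmC.Four
open Cfsg.Agent.Omega.ThmC.Four.Abs (Perm Perm.mul conj_eps pow_fix conj_eps_apply sq_apply fix_im exists_conj_le
  card_map_conj stabC mem_stabC inv_apply inv_apply' range_eq pair_mem_DD)

universe u

namespace AbsD

variable {N A : Type u} [Group N] [Finite N] [AddCommGroup A] [Finite A] {ρ : N →* AddMonoid.End A}
  {S : Sylow 2 N} {k : ℕ} {h : Fin k → N} {Z : Fin k → AddSubgroup A} {p : ℕ}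

/-! ### (3)(a) -/

theorem perm_eq (d : AbsD ρ S h Z p) {s : N} {σ : Equiv.Perm (Fin k)} (hs : Perm h s σ) {l : Fin k}
    (hc : ρ s * eps ρ h l = eps ρ h l * ρ s) : σ l = l := by
  by_contra hne
  have h2 : ρ s * ρ s⁻¹ = 1 := by rw [← map_mul, mul_inv_cancel, map_one]
  have h1 : eps ρ h (σ l) = eps ρ h l := by
    calc eps ρ h (σ l) = eps ρ h (σ l) * ρ s * ρ s⁻¹ := by rw [mul_assoc, h2, mul_one]
      _ = eps ρ h l * ρ s * ρ s⁻¹ := by rw [← conj_eps hs, hc]
      _ = eps ρ h l := by rw [mul_assoc, h2, mul_one]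
  obtain ⟨a, ha⟩ := d.eps_ne l
  apply ha
  have h3 := d.eps_orth hne
  rw [h1, d.eps_idem] at h3
  rw [h3]
  rfl

theorem S_le_normalizer (d : AbsD ρ S h Z p) : (S : Subgroup N) ≤ normalizer (stabC ρ h : Set N) := by
  have key : ∀ s ∈ (S : Subgroup N), ∀ n ∈ stabC ρ h, s * n * s⁻¹ ∈ stabC ρ h := by
    intro s hs n hn l
    obtain ⟨σ, hσ⟩ := d.perm s hs
    obtain ⟨τ, hτ⟩ := d.perm s⁻¹ (inv_mem hs)
    have h1 : σ (τ l) = l := by
      have := d.perm_eq (Perm.mul hσ hτ) (l := l) (by rw [mul_inv_cancel, map_one, one_mul, mul_one])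
      exact this
    have h2 : ρ s⁻¹ * eps ρ h l = eps ρ h (τ l) * ρ s⁻¹ := conj_eps hτ l
    have h3 : ρ s * eps ρ h (τ l) = eps ρ h l * ρ s := by rw [conj_eps hσ, h1]
    calc ρ (s * n * s⁻¹) * eps ρ h l = ρ s * ρ n * (ρ s⁻¹ * eps ρ h l) := by
          rw [map_mul, map_mul]; noncomm_ring
      _ = ρ s * (ρ n * eps ρ h (τ l)) * ρ s⁻¹ := by rw [h2]; noncomm_ring
      _ = (ρ s * eps ρ h (τ l)) * ρ n * ρ s⁻¹ := by rw [hn]; noncomm_ring
      _ = eps ρ h l * ρ (s * n * s⁻¹) := by rw [h3, map_mul, map_mul]; noncomm_ring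
  intro s hs
  rw [mem_normalizer_iff]
  intro n
  refine ⟨key s hs n, fun hn => ?_⟩
  have := key s⁻¹ (inv_mem hs) _ hn
  simpa [mul_assoc] using this

/-- (3)(a) -/
theorem mem_S (d : AbsD ρ S h Z p) {W : Subgroup N} (hW : IsPGroup 2 W)
    (hSW : ∀ s ∈ (S : Subgroup N), (∀ l, ∃ r : ℕ, s * h l * s⁻¹ = h l ^ r) → s ∈ normalizer (W : Set N))
    {w : N} (hw : w ∈ W) (hc : w ∈ stabC ρ h) : w ∈ (S : Subgroup N) := by
  set T : Subgroup N := (S : Subgroup N) ⊓ stabC ρ h with hT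
  have hTN : T ≤ normalizer ((W ⊓ stabC ρ h : Subgroup N) : Set N) := by
    rintro s ⟨hs, hs0⟩
    have h1 : s ∈ normalizer (W : Set N) := by
      refine hSW s hs fun l => ?_
      obtain ⟨σ, hσ⟩ := d.perm s hs
      obtain ⟨r, hr⟩ := hσ l
      exact ⟨r, by rw [hr, d.perm_eq hσ (hs0 l)]⟩
    have h2 := d.S_le_normalizer hs
    rw [mem_normalizer_iff] at h1 h2 ⊢
    intro n
    exact ⟨fun hn => ⟨(h1 n).1 hn.1, (h2 n).1 hn.2⟩, fun hn => ⟨(h1 n).2 hn.1, (h2 n).2 hn.2⟩⟩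
  have hT2 : IsPGroup 2 T := S.isPGroup'.to_le inf_le_left
  have hW2 : IsPGroup 2 (W ⊓ stabC ρ h : Subgroup N) := hW.to_le inf_le_left
  have hsup : IsPGroup 2 (T ⊔ (W ⊓ stabC ρ h) : Subgroup N) := hT2.to_sup_of_normal_right' hW2 hTN
  have hle : T ⊔ (W ⊓ stabC ρ h) ≤ stabC ρ h := sup_le inf_le_right inf_le_right
  obtain ⟨x, hx, hxS⟩ := exists_conj_le (S := S) (M := normalizer (stabC ρ h : Set N)) d.S_le_normalizer hsup
    (hle.trans le_normalizer)
  have h3 : (T ⊔ (W ⊓ stabC ρ h)).map (MulAut.conj x).toMonoidHom ≤ T := by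
    rintro _ ⟨t, ht, rfl⟩
    exact ⟨hxS t ht, (mem_normalizer_iff.1 hx t).1 (hle ht)⟩
  have h4 : Nat.card ↥(T ⊔ (W ⊓ stabC ρ h)) ≤ Nat.card T := by
    rw [← card_map_conj (T ⊔ (W ⊓ stabC ρ h)) x]
    exact Subgroup.card_le_of_le h3
  have h5 : T = T ⊔ (W ⊓ stabC ρ h) := eq_of_le_of_card_ge le_sup_left h4
  have h6 : w ∈ T := by
    rw [h5]
    exact mem_sup_right ⟨hw, hc⟩
  exact h6.1

/-- An element of `W` which commutes with all `eps l` is trivial. -/
theorem eq_one_of_eps (d : AbsD ρ S h Z p) {W : Subgroup N} (hW : IsPGroup 2 W)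
    (hh : ∀ l, h l ∈ normalizer (W : Set N))
    (hSW : ∀ s ∈ (S : Subgroup N), (∀ l, ∃ r : ℕ, s * h l * s⁻¹ = h l ^ r) → s ∈ normalizer (W : Set N))
    {w : N} (hw : w ∈ W) (hc : ∀ l, ρ w * eps ρ h l = eps ρ h l * ρ w) : w = 1 := by
  have hwS : w ∈ (S : Subgroup N) := d.mem_S hW hSW hw hc
  obtain ⟨σ, hσ⟩ := d.perm w hwS
  refine d.field w hwS fun l => ?_
  obtain ⟨r, hr⟩ := hσ l
  rw [d.perm_eq hσ (hc l)] at hr
  have h1 : w * (h l * w⁻¹ * (h l)⁻¹) ∈ W :=
    mul_mem hw ((mem_normalizer_iff.1 (hh l) w⁻¹).1 (inv_mem hw))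
  have h2 : w * (h l * w⁻¹ * (h l)⁻¹) = h l ^ r * (h l)⁻¹ := by rw [← hr]; group
  have h3 : (w * (h l * w⁻¹ * (h l)⁻¹)) ^ p = 1 := by
    rw [h2]
    exact d.DD_pow _ (mul_mem (pow_mem (h_mem_DD h l) r) (inv_mem (h_mem_DD h l)))
  have h4 : w * (h l * w⁻¹ * (h l)⁻¹) = 1 := by
    obtain ⟨n, hn⟩ := hW ⟨_, h1⟩
    have h5 : (w * (h l * w⁻¹ * (h l)⁻¹)) ^ 2 ^ n = 1 := congrArg Subtype.val hn
    have h6 : orderOf (w * (h l * w⁻¹ * (h l)⁻¹)) ∣ Nat.gcd p (2 ^ n) :=
      Nat.dvd_gcd (orderOf_dvd_of_pow_eq_one h3) (orderOf_dvd_of_pow_eq_one h5)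
    have h7 : Nat.Coprime p (2 ^ n) :=
      Nat.Coprime.pow_right n ((Nat.coprime_primes d.prime Nat.prime_two).2 d.odd)
    rw [h7.gcd_eq_one] at h6
    exact orderOf_eq_one_iff.1 (Nat.dvd_one.1 h6)
  calc w * h l = w * (h l * w⁻¹ * (h l)⁻¹) * h l * w := by group
    _ = h l * w := by rw [h4, one_mul]

/-! ### (3)(b) -/

theorem fix_rest (d : AbsD ρ S h Z p) {l a : Fin k} (hla : l ≠ a) {T : AddMonoid.End A}
    (hT0 : T * avg ρ (DD h) = avg ρ (DD h))
    (hT : ∀ m, m ≠ l → m ≠ a → T * eps ρ h m = eps ρ h m) :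
    T * (1 + (eps ρ h l + eps ρ h a)) = 1 + (eps ρ h l + eps ρ h a) := by
  classical
  have h1 : (1 : AddMonoid.End A) + (eps ρ h l + eps ρ h a) =
      avg ρ (DD h) + ∑ m ∈ (Finset.univ.erase l).erase a, eps ρ h m := by
    have h2 : (1 : AddMonoid.End A) = avg ρ (DD h) + (eps ρ h l + (eps ρ h a +
        ∑ m ∈ (Finset.univ.erase l).erase a, eps ρ h m)) := by
      rw [Finset.add_sum_erase _ _ (Finset.mem_erase.2 ⟨hla.symm, Finset.mem_univ a⟩),
        Finset.add_sum_erase _ _ (Finset.mem_univ l), d.sum_eps]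
    calc (1 : AddMonoid.End A) + (eps ρ h l + eps ρ h a)
        = (eps ρ h l + eps ρ h l) + (eps ρ h a + eps ρ h a) +
          (avg ρ (DD h) + ∑ m ∈ (Finset.univ.erase l).erase a, eps ρ h m) := by
          conv_lhs => rw [h2]
          abel
      _ = _ := by rw [d.add_self', d.add_self', zero_add, zero_add]
  rw [h1, mul_add, hT0, Finset.mul_sum]
  congr 1
  refine Finset.sum_congr rfl fun m hm => ?_
  rw [Finset.mem_erase, Finset.mem_erase] at hm
  exact hT m hm.2.1 hm.1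

theorem h_eps_apply (d : AbsD ρ S h Z p) {l m : Fin k} (hml : m ≠ l) {c : A} (hc : eps ρ h l c = c) :
    ρ (h m) c = c := by
  have := congrArg (fun T : AddMonoid.End A => T c) (d.h_mul_eps hml)
  change ρ (h m) (eps ρ h l c) = eps ρ h l c at this
  rwa [hc] at this

theorem mem_zpowers_pow (d : AbsD ρ S h Z p) {a : Fin k} {n : ℕ} (hn : ¬ p ∣ n) : h a ∈ zpowers (h a ^ n) := by
  have hcop : Nat.Coprime n p := ((Nat.Prime.coprime_iff_not_dvd d.prime).2 hn).symm
  obtain ⟨m, hm⟩ := exists_pow_eq_self_of_coprime (x := h a) (n := n) (by rw [d.orderOf_h]; exact hcop)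
  exact ⟨m, by change (h a ^ n) ^ (m : ℤ) = h a; rw [zpow_natCast, hm]⟩

theorem pow_eps_apply (d : AbsD ρ S h Z p) {l a : Fin k} (hla : a ≠ l) (n : ℕ) {c : A} (hc : eps ρ h l c = c) :
    ρ (h a ^ n) c = c :=
  pow_fix (d.h_eps_apply hla hc) ⟨n, zpow_natCast _ _⟩

/-- `h l (h a ^ n)⁻¹` is fixed-point-free on `C_l`. -/
theorem fpf_pair (d : AbsD ρ S h Z p) {l a : Fin k} (hla : l ≠ a) {n : ℕ} {c : A}
    (hc : eps ρ h l c = c) (hx : ρ (h l * (h a ^ n)⁻¹) c = c) : c = 0 := by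
  refine d.fpf' hc ?_
  rw [rho_mul, inv_apply (d.pow_eps_apply hla.symm n hc)] at hx
  exact hx

/-- `h l (h a ^ n)⁻¹` is fixed-point-free on `C_a`. -/
theorem fpf_pair' (d : AbsD ρ S h Z p) {l a : Fin k} (hla : l ≠ a) {n : ℕ} (hn : ¬ p ∣ n) {c : A}
    (hc : eps ρ h a c = c) (hx : ρ (h l * (h a ^ n)⁻¹) c = c) : c = 0 := by
  have h1 : h l * (h a ^ n)⁻¹ = (h a ^ n)⁻¹ * h l :=
    d.DD_comm _ (h_mem_DD h l) _ (inv_mem (pow_mem (h_mem_DD h a) n))
  rw [h1, rho_mul, d.h_eps_apply hla hc] at hx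
  exact d.fpf' hc (pow_fix (inv_apply' hx) (d.mem_zpowers_pow hn))

theorem eps_pair (d : AbsD ρ S h Z p) {l a : Fin k} (hla : l ≠ a) {n : ℕ} (hn : ¬ p ∣ n) :
    eps ρ h l + eps ρ h a = 1 + avg ρ (zpowers (h l * (h a ^ n)⁻¹)) := by
  set x := h l * (h a ^ n)⁻¹ with hx
  have hxD : x ∈ DD h := pair_mem_DD l a n
  have hXD : zpowers x ≤ DD h := zpowers_le.2 hxD
  have hcomm : ∀ m, avg ρ (zpowers x) * eps ρ h m = eps ρ h m * avg ρ (zpowers x) := fun m =>
    (commute_avg ρ fun y hy => (d.commute_DD (hXD hy) m).symm).symm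
  have hfix : ∀ c, ρ x (avg ρ (zpowers x) c) = avg ρ (zpowers x) c := fun c =>
    fix_avg_apply ρ (mem_zpowers x) c
  have z1 : avg ρ (zpowers x) * eps ρ h l = 0 := by
    ext c
    refine d.fpf_pair hla (n := n) ?_ (hfix _)
    rw [hcomm]
    exact d.idem_apply l _
  have z2 : avg ρ (zpowers x) * eps ρ h a = 0 := by
    ext c
    refine d.fpf_pair' hla hn ?_ (hfix _)
    rw [hcomm]
    exact d.idem_apply a _
  have z3 : avg ρ (zpowers x) * (1 + (eps ρ h l + eps ρ h a)) = 1 + (eps ρ h l + eps ρ h a) := by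
    refine d.fix_rest hla (d.mul_DD hXD) fun m hml hma => ?_
    refine avg_mul_of_fix ρ d.two (d.odd_card hXD) fun y hy => ?_
    ext c
    refine pow_fix (ρ := ρ) (x := x) ?_ hy
    change ρ x (eps ρ h m c) = eps ρ h m c
    rw [hx, rho_mul, inv_apply (d.pow_eps_apply hma.symm n (d.idem_apply m c)),
      d.h_eps_apply hml.symm (d.idem_apply m c)]
  rw [mul_add, mul_add, z1, z2, mul_one, add_zero, add_zero] at z3
  rw [z3, ← add_assoc, d.add_self', zero_add]

theorem real_case (d : AbsD ρ S h Z p) {W : Subgroup N} (hW : IsPGroup 2 W)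
    (hh : ∀ l, h l ∈ normalizer (W : Set N)) (hfix : ∀ w ∈ W, (∀ l, w * h l = h l * w) → w = 1)
    {a b : Fin k} {n : Fin k → ℕ} (hba : b ≠ a) (hpb : ¬ p ∣ n b) (hna : n a = 1) {w : N} (hw : w ∈ W)
    (hw1 : w ≠ 1) (hwc : ∀ l, w * (h l * (h a ^ n l)⁻¹) = (h l * (h a ^ n l)⁻¹) * w) : False := by
  classical
  -- the subgroup `U`
  set U : Subgroup N := W ⊓ centralizer (Set.range fun l => h l * (h a ^ n l)⁻¹) with hU
  have memU : ∀ {y}, y ∈ U ↔ y ∈ W ∧ ∀ l, y * (h l * (h a ^ n l)⁻¹) = (h l * (h a ^ n l)⁻¹) * y := by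
    intro y
    rw [hU, mem_inf, mem_centralizer_iff]
    refine and_congr_right fun _ => ⟨fun h1 l => (h1 _ ⟨l, rfl⟩).symm, ?_⟩
    rintro h1 _ ⟨l, rfl⟩
    exact (h1 l).symm
  have hwU : w ∈ U := memU.2 ⟨hw, hwc⟩
  -- an involution in the centre of `U`
  obtain ⟨u, huU, hu1, huu, hucen⟩ : ∃ u ∈ U, u ≠ 1 ∧ u * u = 1 ∧ ∀ y ∈ U, u * y = y * u := by
    have hU2 : IsPGroup 2 U := hW.to_le inf_le_left
    have : Nontrivial U := ⟨⟨w, hwU⟩, 1, fun h1 => hw1 (congrArg Subtype.val h1)⟩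
    have := hU2.center_nontrivial
    have hd : 2 ∣ Nat.card (center U) := by
      have hc2 : IsPGroup 2 (center U) := hU2.to_subgroup _
      obtain ⟨m, hm⟩ := IsPGroup.iff_card.1 hc2
      have h3 : 1 < Nat.card (center U) := Finite.one_lt_card
      rw [hm] at h3 ⊢
      exact dvd_pow_self 2 (by rintro rfl; simp at h3)
    obtain ⟨c, hc⟩ := exists_prime_orderOf_dvd_card' 2 hd
    refine ⟨((c : U) : N), (c : U).2, ?_, ?_, ?_⟩
    · intro h3
      have : c = 1 := Subtype.ext (Subtype.ext h3)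
      rw [this, orderOf_one] at hc
      omega
    · have h3 : c * c = 1 := by rw [← pow_two, ← hc]; exact pow_orderOf_eq_one c
      exact congrArg (fun z : center U => ((z : U) : N)) h3
    · intro y hy
      have h3 := mem_center_iff.1 c.2 ⟨y, hy⟩
      exact (congrArg (fun z : U => (z : N)) h3).symm
  -- `t`, `dd`
  set t : N := h a ^ n b with ht
  have htD : t ∈ DD h := pow_mem (h_mem_DD h a) _
  have htU : ∀ y ∈ U, t * y * t⁻¹ ∈ U := by
    intro y hy
    obtain ⟨hyW, hyc⟩ := memU.1 hy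
    refine memU.2 ⟨?_, fun l => ?_⟩
    · exact (mem_normalizer_iff.1 (pow_mem (hh a) (n b)) y).1 hyW
    · have h3 : t * (h l * (h a ^ n l)⁻¹) = (h l * (h a ^ n l)⁻¹) * t :=
        d.DD_comm _ htD _ (pair_mem_DD l a (n l))
      have h4 : t⁻¹ * (h l * (h a ^ n l)⁻¹) = (h l * (h a ^ n l)⁻¹) * t⁻¹ :=
        d.DD_comm _ (inv_mem htD) _ (pair_mem_DD l a (n l))
      calc t * y * t⁻¹ * (h l * (h a ^ n l)⁻¹) = t * y * (t⁻¹ * (h l * (h a ^ n l)⁻¹)) := by group
        _ = t * (y * (h l * (h a ^ n l)⁻¹)) * t⁻¹ := by rw [h4]; group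
        _ = (t * (h l * (h a ^ n l)⁻¹)) * y * t⁻¹ := by rw [hyc l]; group
        _ = (h l * (h a ^ n l)⁻¹) * (t * y * t⁻¹) := by rw [h3]; group
  have htU' : ∀ y ∈ U, t⁻¹ * y * t ∈ U := by
    intro y hy
    obtain ⟨hyW, hyc⟩ := memU.1 hy
    refine memU.2 ⟨?_, fun l => ?_⟩
    · have := (mem_normalizer_iff.1 (inv_mem (pow_mem (hh a) (n b))) y).1 hyW
      rwa [inv_inv] at this
    · have h3 : t * (h l * (h a ^ n l)⁻¹) = (h l * (h a ^ n l)⁻¹) * t :=
        d.DD_comm _ htD _ (pair_mem_DD l a (n l))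
      have h4 : t⁻¹ * (h l * (h a ^ n l)⁻¹) = (h l * (h a ^ n l)⁻¹) * t⁻¹ :=
        d.DD_comm _ (inv_mem htD) _ (pair_mem_DD l a (n l))
      calc t⁻¹ * y * t * (h l * (h a ^ n l)⁻¹) = t⁻¹ * y * (t * (h l * (h a ^ n l)⁻¹)) := by group
        _ = t⁻¹ * (y * (h l * (h a ^ n l)⁻¹)) * t := by rw [h3]; group
        _ = (t⁻¹ * (h l * (h a ^ n l)⁻¹)) * y * t := by rw [hyc l]; group
        _ = (h l * (h a ^ n l)⁻¹) * (t⁻¹ * y * t) := by rw [h4]; group
  -- `cen y` : `y ∈ Z(U)`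
  let cen : N → Prop := fun y => y ∈ U ∧ ∀ z ∈ U, y * z = z * y
  have cen_mul : ∀ {y z}, cen y → cen z → cen (y * z) := by
    rintro y z ⟨hy, hy'⟩ ⟨hz, hz'⟩
    refine ⟨mul_mem hy hz, fun x hx => ?_⟩
    rw [mul_assoc, hz' x hx, ← mul_assoc, hy' x hx, mul_assoc]
  have cen_conj : ∀ {y}, cen y → cen (t * y * t⁻¹) := by
    rintro y ⟨hy, hy'⟩
    refine ⟨htU y hy, fun x hx => ?_⟩
    have h3 := hy' _ (htU' x hx)
    calc t * y * t⁻¹ * x = t * (y * (t⁻¹ * x * t)) * t⁻¹ := by group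
      _ = x * (t * y * t⁻¹) := by rw [h3]; group
  have cu : cen u := ⟨huU, hucen⟩
  have cv : cen (t * u * t⁻¹) := cen_conj cu
  set v : N := t * u * t⁻¹ with hv
  set b₀ : N := u * v with hb₀
  have cb₀ : cen b₀ := cen_mul cu cv
  set b₁ : N := t * b₀ * t⁻¹ with hb₁
  have cb₁ : cen b₁ := cen_conj cb₀
  have hvv : v * v = 1 := by
    calc v * v = t * (u * u) * t⁻¹ := by rw [hv]; group
      _ = 1 := by rw [huu]; group
  have huv : u * v = v * u := cu.2 v cv.1
  have hb₀2 : b₀ * b₀ = 1 := by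
    calc b₀ * b₀ = u * (v * u) * v := by rw [hb₀]; group
      _ = (u * u) * (v * v) := by rw [← huv]; group
      _ = 1 := by rw [huu, hvv, one_mul]
  have hb₁2 : b₁ * b₁ = 1 := by
    calc b₁ * b₁ = t * (b₀ * b₀) * t⁻¹ := by rw [hb₁]; group
      _ = 1 := by rw [hb₀2]; group
  -- `b₀ ≠ 1`
  have hb₀1 : b₀ ≠ 1 := by
    intro h1
    have h2 : v = u := by
      calc v = (u * u) * v := by rw [huu, one_mul]
        _ = u * b₀ := by rw [hb₀, mul_assoc]
        _ = u := by rw [h1, mul_one]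
    have hut : u * t = t * u := by
      calc u * t = v * t := by rw [h2]
        _ = t * u := by rw [hv]; group
    have hua : u * h a = h a * u := by
      obtain ⟨m, hm⟩ := d.mem_zpowers_pow (a := a) hpb
      have h3 : (h a ^ n b) ^ m = h a := hm
      rw [← h3]
      exact ((show Commute u (h a ^ n b) from hut).zpow_right m)
    have hul : ∀ l, u * h l = h l * u := by
      intro l
      have h3 := (memU.1 huU).2 l
      have h4 : u * h a ^ n l = h a ^ n l * u := (show Commute u (h a) from hua).pow_right (n l)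
      calc u * h l = u * (h l * (h a ^ n l)⁻¹) * h a ^ n l := by group
        _ = (h l * (h a ^ n l)⁻¹) * (u * h a ^ n l) := by rw [h3]; group
        _ = h l * u := by rw [h4]; group
    exact hu1 (hfix u (memU.1 huU).1 hul)
  -- `dd = t (h b)⁻¹`
  set dd : N := t * (h b)⁻¹ with hdd
  have hddD : dd ∈ DD h := mul_mem htD (inv_mem (h_mem_DD h b))
  have hdd' : dd⁻¹ = h b * (h a ^ n b)⁻¹ := by rw [hdd, ht]; group
  have hddc : ∀ y ∈ U, dd * y = y * dd := by
    intro y hy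
    have h3 := (memU.1 hy).2 b
    rw [← hdd'] at h3
    calc dd * y = dd * (y * dd⁻¹) * dd := by group
      _ = y * dd := by rw [h3]; group
  have R1 : ∀ {x y : N}, x * y = y * x → ρ x * ρ y = ρ y * ρ x := by
    intro x y hxy
    rw [← map_mul, hxy, map_mul]
  -- fixed points
  have fe : ∀ c, eps ρ h a c = c → ρ dd c = c → c = 0 := by
    intro c hc hx
    refine d.fpf_pair' hba hpb hc ?_
    rw [← hdd']
    exact inv_apply hx
  have ff : ∀ c, eps ρ h b c = c → ρ dd c = c → c = 0 := by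
    intro c hc hx
    refine d.fpf_pair hba (n := n b) hc ?_
    rw [← hdd']
    exact inv_apply hx
  have sq : ∀ c, ρ dd (ρ dd c) = c → ρ dd c = c := by
    intro c hc
    have h1 : ρ (dd ^ 2) c = c := by rw [pow_two, rho_mul, hc]
    refine pow_fix h1 ?_
    obtain ⟨m, hm⟩ := d.prime.odd_of_ne_two d.odd
    refine ⟨(m + 1 : ℕ), ?_⟩
    change (dd ^ 2) ^ ((m + 1 : ℕ) : ℤ) = dd
    rw [zpow_natCast, ← pow_mul, show 2 * (m + 1) = p + 1 by omega, pow_succ, d.DD_pow dd hddD, one_mul]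
  have hab : a ≠ b := hba.symm
  obtain ⟨⟨o1, o2⟩, ⟨o3, o4⟩, ⟨o5, o6, o7⟩, -⟩ :=
    core (R := AddMonoid.End A) (End_two d.two) (e := eps ρ h a) (f := eps ρ h b) (u := ρ u) (D := ρ dd)
      (D' := ρ dd⁻¹) (H := ρ t) (H' := ρ t⁻¹) (b₀ := ρ b₀) (b₁ := ρ b₁)
      (d.eps_idem a) (d.eps_idem b) (d.eps_orth hab) (d.eps_orth hba)
      (by rw [← map_mul, huu, map_one])
      (by
        rw [add_comm (eps ρ h a), d.eps_pair hba hpb, mul_add, add_mul, mul_one, one_mul]
        congr 1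
        refine commute_avg ρ fun y hy => ?_
        refine R1 ?_
        obtain ⟨m, rfl⟩ := hy
        exact (show Commute u (h b * (h a ^ n b)⁻¹) from (memU.1 huU).2 b).zpow_right m)
      (by rw [← map_mul, mul_inv_cancel, map_one]) (by rw [← map_mul, inv_mul_cancel, map_one])
      (d.commute_DD hddD a) (d.commute_DD hddD b) (R1 (hddc u huU)) (R1 (d.DD_comm _ hddD _ htD))
      (R1 (d.DD_comm _ hddD _ (inv_mem htD)))
      (by rw [← map_mul, inv_mul_cancel, map_one])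
      (by
        ext c
        change ρ t (eps ρ h a c) = ρ dd (eps ρ h a c)
        rw [hdd, rho_mul, inv_apply (d.h_eps_apply hba (d.idem_apply a c))])
      (by
        ext c
        exact d.pow_eps_apply hab (n b) (d.idem_apply b c))
      (d.fix_rest hab (left_avg ρ htD) fun m hma hmb => by
        ext c
        exact d.pow_eps_apply hma.symm (n b) (d.idem_apply m c))
      (by
        rw [← map_mul, ← map_mul, ← map_mul, ← map_mul]
        exact congrArg ρ huv)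
      (fun T h1 h2 => by
        ext c
        exact fe _ (congrArg (fun T : AddMonoid.End A => T c) h1) (congrArg (fun T : AddMonoid.End A => T c) h2))
      (fun T h1 h2 => by
        ext c
        exact ff _ (congrArg (fun T : AddMonoid.End A => T c) h1) (congrArg (fun T : AddMonoid.End A => T c) h2))
      (fun T h1 h2 => by
        ext c
        exact fe _ (congrArg (fun T : AddMonoid.End A => T c) h1)
          (sq _ (congrArg (fun T : AddMonoid.End A => T c) h2)))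
      (fun T h1 h2 => by
        ext c
        exact ff _ (congrArg (fun T : AddMonoid.End A => T c) h1)
          (sq _ (congrArg (fun T : AddMonoid.End A => T c) h2)))
      (by rw [hb₀, hv, map_mul, map_mul, map_mul]) (by rw [hb₁, map_mul, map_mul])
  -- the images
  set e := eps ρ h a with he
  set f := eps ρ h b with hf
  set D := ρ dd with hD
  set D' := ρ dd⁻¹ with hD'
  have ee : e * e = e := d.eps_idem a
  have ff' : f * f = f := d.eps_idem b
  have ef : e * f = 0 := d.eps_orth hab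
  have fe' : f * e = 0 := d.eps_orth hba
  have DD1 : D * D' = 1 := by rw [hD, hD', ← map_mul, mul_inv_cancel, map_one]
  have DD2 : D' * D = 1 := by rw [hD, hD', ← map_mul, inv_mul_cancel, map_one]
  have De : D * e = e * D := d.commute_DD hddD a
  have Df : D * f = f * D := d.commute_DD hddD b
  have De' : D' * e = e * D' := d.commute_DD (inv_mem hddD) a
  have Df' : D' * f = f * D' := d.commute_DD (inv_mem hddD) b
  have hdi : ∀ y ∈ U, dd⁻¹ * y = y * dd⁻¹ := by
    intro y hy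
    have := hddc y hy
    calc dd⁻¹ * y = dd⁻¹ * (y * dd) * dd⁻¹ := by group
      _ = y * dd⁻¹ := by rw [← this]; group
  have Db : D * (1 + ρ b₀) = (1 + ρ b₀) * D := by
    rw [mul_add, add_mul, mul_one, one_mul, R1 (hddc b₀ cb₀.1)]
  have Db' : D' * (1 + ρ b₀) = (1 + ρ b₀) * D' := by
    rw [mul_add, add_mul, mul_one, one_mul, R1 (hdi b₀ cb₀.1)]
  have split : ∀ T : AddMonoid.End A, T * (1 + (e + f)) = 0 → T = T * e + T * f := by
    intro T hT
    calc T = T + (T * (e + f) + T * (e + f)) := by rw [d.add_self', add_zero]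
      _ = T * (1 + (e + f)) + (T * e + T * f) := by noncomm_ring
      _ = T * e + T * f := by rw [hT, zero_add]
  have surj : ∀ E F : AddMonoid.End A, e * E = E * e → f * F = F * f →
      (∀ c, e c = c → E c = 0 → c = 0) → (∀ c, f c = c → F c = 0 → c = 0) →
      Function.Surjective ⇑(E * e + F * f + (1 + (e + f)) : AddMonoid.End A) := by
    intro E F hE hF hE0 hF0
    refine Finite.surjective_of_injective ?_
    rw [injective_iff_map_eq_zero]
    intro x hx
    have ex : e * (E * e + F * f + (1 + (e + f))) = E * e := by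
      have k1 : e * (E * e) = E * e := by rw [← mul_assoc, hE, mul_assoc, ee]
      have k2 : e * (F * f) = 0 := by rw [← hF, ← mul_assoc, ef, zero_mul]
      have k3 : e * (1 + (e + f)) = 0 := by rw [mul_add, mul_add, ee, ef, mul_one, add_zero, d.add_self']
      rw [mul_add, mul_add, k1, k2, k3, add_zero, add_zero]
    have fx : f * (E * e + F * f + (1 + (e + f))) = F * f := by
      have k1 : f * (F * f) = F * f := by rw [← mul_assoc, hF, mul_assoc, ff']
      have k2 : f * (E * e) = 0 := by rw [← hE, ← mul_assoc, fe', zero_mul]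
      have k3 : f * (1 + (e + f)) = 0 := by rw [mul_add, mul_add, ff', fe', mul_one, zero_add, d.add_self']
      rw [mul_add, mul_add, k1, k2, k3, add_zero, zero_add]
    have h1 : E (e x) = 0 := by
      have := congrArg (fun T : AddMonoid.End A => T x) ex
      change e ((E * e + F * f + (1 + (e + f)) : AddMonoid.End A) x) = E (e x) at this
      rw [← this, hx, map_zero]
    have h2 : F (f x) = 0 := by
      have := congrArg (fun T : AddMonoid.End A => T x) fx
      change f ((E * e + F * f + (1 + (e + f)) : AddMonoid.End A) x) = F (f x) at this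
      rw [← this, hx, map_zero]
    have h3 : e x = 0 := hE0 _ (d.idem_apply a x) h1
    have h4 : f x = 0 := hF0 _ (d.idem_apply b x) h2
    have h5 : E (e x) + F (f x) + (x + (e x + f x)) = 0 := hx
    rw [h3, h4, map_zero, map_zero, zero_add, zero_add, add_zero] at h5
    exact h5
  have zero_of : ∀ (i : Fin k) (T T' : AddMonoid.End A), T' * T = 1 → ∀ c, T c = 0 → c = 0 := by
    intro i T T' hT c hc
    have := congrArg (fun T : AddMonoid.End A => T c) hT
    change T' (T c) = c at this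
    rw [← this, hc, map_zero]
  have him1 : im ρ b₁ = im ρ b₀ := by
    refine range_eq (T := 1 + ρ b₁) (U := 1 + ρ b₀) (V := D' * e + D * f + (1 + (e + f))) ?_
      (surj D' D De'.symm Df.symm (fun c _ => zero_of a D' D DD1 c) (fun c _ => zero_of a D D' DD2 c))
    calc 1 + ρ b₁ = (1 + ρ b₁) * e + (1 + ρ b₁) * f := split _ o6
      _ = D' * (1 + ρ b₀) * e + D * (1 + ρ b₀) * f := by rw [o1, o2]; noncomm_ring
      _ = (1 + ρ b₀) * (D' * e + D * f) + 0 := by rw [Db, Db']; noncomm_ring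
      _ = (1 + ρ b₀) * (D' * e + D * f + (1 + (e + f))) := by rw [← o5]; noncomm_ring
  have him2 : im ρ (b₀ * b₁) = im ρ b₀ := by
    refine range_eq (T := 1 + ρ (b₀ * b₁)) (U := 1 + ρ b₀)
      (V := (1 + D') * e + (1 + D) * f + (1 + (e + f))) ?_
      (surj (1 + D') (1 + D) (by rw [mul_add, add_mul, De', mul_one, one_mul])
        (by rw [mul_add, add_mul, Df, mul_one, one_mul]) ?_ ?_)
    · rw [map_mul]
      calc 1 + ρ b₀ * ρ b₁ = (1 + ρ b₀ * ρ b₁) * e + (1 + ρ b₀ * ρ b₁) * f := split _ o7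
        _ = (1 + D') * (1 + ρ b₀) * e + (1 + D) * (1 + ρ b₀) * f := by rw [o3, o4]; noncomm_ring
        _ = (1 + ρ b₀) * e + D' * (1 + ρ b₀) * e + ((1 + ρ b₀) * f + D * (1 + ρ b₀) * f) := by noncomm_ring
        _ = (1 + ρ b₀) * ((1 + D') * e + (1 + D) * f) + 0 := by rw [Db, Db']; noncomm_ring
        _ = (1 + ρ b₀) * ((1 + D') * e + (1 + D) * f + (1 + (e + f))) := by rw [← o5]; noncomm_ring
    · intro c hc h1
      have h2 : c + ρ dd⁻¹ c = 0 := h1
      refine fe c hc (inv_apply' ?_)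
      calc ρ dd⁻¹ c = (c + c) + ρ dd⁻¹ c := by rw [d.two, zero_add]
        _ = c := by rw [add_assoc, h2, add_zero]
    · intro c hc h1
      have h2 : c + ρ dd c = 0 := h1
      refine ff c hc ?_
      calc ρ dd c = (c + c) + ρ dd c := by rw [d.two, zero_add]
        _ = c := by rw [add_assoc, h2, add_zero]
  exact d.no_four hW (f := b₀) (g := b₁) (memU.1 cb₀.1).1 (memU.1 cb₁.1).1 hb₀2 hb₁2 (cb₀.2 b₁ cb₁.1) hb₀1
    him1.symm (by rw [← cb₀.2 b₁ cb₁.1, him2])

/-- If `W ≠ 1`, then some `w ≠ 1` in `W` commutes with all `h l`, `l ≠ a`. -/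
theorem exists_single (d : AbsD ρ S h Z p) {W : Subgroup N} (hW : IsPGroup 2 W) (hne : W ≠ ⊥)
    (hh : ∀ l, h l ∈ normalizer (W : Set N)) (hfix : ∀ w ∈ W, (∀ l, w * h l = h l * w) → w = 1) :
    ∃ a, ∃ w ∈ W, w ≠ 1 ∧ ∀ l, l ≠ a → w * h l = h l * w := by
  obtain ⟨a, n, hna, w, hw, hw1, hwc⟩ := exists_hyperplane d.prime d.odd d.hcomm d.hp hW hne hh hfix
  by_cases hb : ∃ b, b ≠ a ∧ ¬ p ∣ n b
  · obtain ⟨b, hba, hpb⟩ := hb
    exact (d.real_case hW hh hfix hba hpb hna hw hw1 hwc).elim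
  · push Not at hb
    refine ⟨a, w, hw, hw1, fun l hl => ?_⟩
    obtain ⟨m, hm⟩ := hb l hl
    have h1 := hwc l
    have h2 : h a ^ n l = 1 := by rw [hm, pow_mul, d.hp, one_pow]
    rw [h2, inv_one, mul_one] at h1
    exact h1

end AbsD

end Cfsg.Agent.Omega.IId.ThmCQ

end

end
end

-- part: Mrg/Omega/ThmC/FourOf
section
section


/-!
# THEOREM C, `q ≥ 4`: the data from a minimal parabolic (helper334)

`M : NatK F S P (zl S P) ⊥ k`, `LS M` = the elements of `S` which act as elements of `SL₂(F)^k`.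
-/

set_option autoImplicit false
set_option linter.unusedSectionVars false

namespace Cfsg.Agent.Omega.ThmC.FourOf

open Subgroup Cfsg Cfsg.Agent.ZN Cfsg.Agent.Omega.IId Cfsg.Agent.Omega.ThmC.Four
open Cfsg.Agent.ZN.ChoiceBase hiding mem_zc
open Cfsg.Agent.Omega.MinPar Cfsg.Agent.Omega.FFThm
open Cfsg.Agent.MinSimple.VModule (le_normalizer_zl mem_zc zc_le zc_le_zl)
open Cfsg.Agent.Lib.SL2Mat
open Cfsg.Agent.Omega.NatPair (ap ap_mul ap_one ap_inv_ap ap_ap_inv exists_ap ap_add ap_inj ap_smul)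

universe u

section gen

variable {G : Type u} [Group G]

/-- conjugacy of maximal 2-subgroups of `U` -/
theorem conj_sylow [Finite G] {U L L' : Subgroup G} (hLU : L ≤ U) (hL'U : L' ≤ U) (hL : IsPGroup 2 L)
    (hL' : IsPGroup 2 L') (hmax : ∀ R : Subgroup G, IsPGroup 2 R → L ≤ R → R ≤ U → R = L)
    (hcard : Nat.card L' = Nat.card L) : ∃ c ∈ U, cj c L' = L := by
  have : Fact (Nat.Prime 2) := ⟨Nat.prime_two⟩
  have h1 : IsPGroup 2 (L.subgroupOf U) := hL.comap_of_injective U.subtype U.subtype_injective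
  have h2 : IsPGroup 2 (L'.subgroupOf U) := hL'.comap_of_injective U.subtype U.subtype_injective
  obtain ⟨T, hT⟩ := h1.exists_le_sylow
  obtain ⟨T', hT'⟩ := h2.exists_le_sylow
  have hTL : (T : Subgroup U).map U.subtype = L := by
    refine hmax _ (T.isPGroup'.map _) ?_ (Subgroup.map_subtype_le _)
    intro x hx
    exact ⟨⟨x, hLU hx⟩, hT (by rw [mem_subgroupOf]; exact hx), rfl⟩
  obtain ⟨g, hg⟩ := MulAction.exists_smul_eq U T' T
  refine ⟨g, g.2, ?_⟩
  refine eq_of_le_of_card_ge ?_ ?_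
  · intro x hx
    rw [mem_cj] at hx
    have h3 : (⟨(g : G)⁻¹ * x * g, hL'U hx⟩ : U) ∈ T' := hT' (by rw [mem_subgroupOf]; exact hx)
    have h4 : g * ⟨(g : G)⁻¹ * x * g, hL'U hx⟩ * g⁻¹ ∈ ((g • T' : Sylow 2 U) : Subgroup U) := by
      rw [Sylow.coe_subgroup_smul, Subgroup.mem_pointwise_smul_iff_inv_smul_mem]
      have h5 : ∀ y : U, (MulAut.conj g)⁻¹ • (g * y * g⁻¹) = y := fun y => by
        rw [MulAut.smul_def, MulAut.conj_inv_apply]
        group
      rw [h5]
      exact h3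
    rw [hg] at h4
    rw [← hTL]
    refine ⟨_, h4, ?_⟩
    simp only [Subgroup.coe_subtype, Subgroup.coe_mul, Subgroup.coe_inv]
    group
  · rw [card_cj, hcard]

theorem eq_one_of_pow {F : Type*} [Field F] [CharP F 2] {a : F} {n : ℕ} (h : a ^ 2 ^ n = 1) : a = 1 := by
  induction n with
  | zero => simpa using h
  | succ n ih =>
    apply ih
    apply eq_one_of_sq
    rw [← pow_two, ← pow_mul, ← pow_succ]
    exact h

end gen

section basic

variable {G : Type u} [Group G] {F : Type} [Field F] {S P : Subgroup G} {k : ℕ} {M : NatK F S P (zl S P) ⊥ k}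

/-- the action determines the matrices -/
theorem acts_unique {g : G} {A B : Fin k → Matrix.SpecialLinearGroup (Fin 2) F}
    (hA : ActsSL M.e (zl S P) ⊥ g A) (hB : ActsSL M.e (zl S P) ⊥ g B) : A = B := by
  funext i
  refine ap_inj fun x => ?_
  obtain ⟨v, hv, hx⟩ := exists_fac M i x
  rw [← hx, ← hA.1 v hv.1 i, hB.1 v hv.1 i]

/-- the matrices determine the action -/
theorem acts_eq {g h : G} (hg : g ∈ P) (hh : h ∈ P) {A : Fin k → Matrix.SpecialLinearGroup (Fin 2) F}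
    (hA : ActsSL M.e (zl S P) ⊥ g A) (hB : ActsSL M.e (zl S P) ⊥ h A) {v : G} (hv : v ∈ zl S P) :
    g * v * g⁻¹ = h * v * h⁻¹ :=
  e_inj M (IId.cj_mem hg hv) (IId.cj_mem hh hv) (funext fun i => by rw [hA.1 v hv i, hB.1 v hv i])

theorem acts_pow {g : G} (hg : g ∈ P) {A : Fin k → Matrix.SpecialLinearGroup (Fin 2) F}
    (hA : ActsSL M.e (zl S P) ⊥ g A) (n : ℕ) : ActsSL M.e (zl S P) ⊥ (g ^ n) (A ^ n) := by
  induction n with
  | zero => rw [pow_zero, pow_zero]; exact acts_one M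
  | succ n ih => rw [pow_succ, pow_succ]; exact acts_mul hg ih hA

theorem acts_of_cent {g : G} (hg : g ∈ centralizer (zl S P : Set G)) : ActsSL M.e (zl S P) ⊥ g 1 := by
  refine ⟨fun v hv i => ?_, fun d hd => ?_⟩
  · have h1 := mem_centralizer_iff.1 hg v hv
    have h2 : g * v * g⁻¹ = v := by rw [← h1]; group
    rw [h2, Pi.one_apply, ap_one]
  · rw [mem_bot] at hd
    rw [hd]
    group

theorem cent_of_acts {g : G} (hg : g ∈ P) (hA : ActsSL M.e (zl S P) ⊥ g 1) :
    g ∈ centralizer (zl S P : Set G) := by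
  rw [mem_centralizer_iff]
  intro v hv
  have h1 := acts_eq hg (one_mem P) hA (acts_one M) hv
  have h2 : g * v * g⁻¹ = v := by rw [h1]; group
  calc v * g = (g * v * g⁻¹) * g := by rw [h2]
    _ = g * v := by group

/-- an element of 2-power order of `S` acting as an element of `SL₂(F)^k` is unipotent -/
theorem exists_up [CharP F 2] (hSP : S ≤ P) (hS : IsPGroup 2 S) {s : G} (hs : s ∈ S)
    {A : Fin k → Matrix.SpecialLinearGroup (Fin 2) F} (hA : ActsSL M.e (zl S P) ⊥ s A) :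
    ∀ i, A i = up (ent (A i) 0 1) := by
  intro i
  have hsg : sg M (hSP hs) i = i := by
    rw [← mem_normalizer_fac_iff]
    exact grp_normalizes M Set.univ {i} ⟨hSP hs, A, hA, fun j hj => absurd (Set.mem_univ j) hj⟩
  obtain ⟨v, hv, hve⟩ := exists_fac M i ![1, 0]
  have h10 : ent (A i) 1 0 = 0 := by
    have h1 := (e_conj_line M hSP hs hv.1 i).2 (by rw [hve]; rfl)
    rw [hsg, hA.1 v hv.1 i, hve, NatPair.ap_one'] at h1
    simpa using h1
  have hap : ∀ j : ℕ, ap ((A i) ^ j) ![1, 0] = ![(ent (A i) 0 0) ^ j, 0] := by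
    intro j
    induction j with
    | zero => rw [pow_zero, pow_zero, ap_one]
    | succ j ih =>
      have h2 : ap (A i) ![1, 0] = ent (A i) 0 0 • ![1, 0] := by
        apply NatPair.ext2
        · rw [NatPair.ap_zero']; simp
        · rw [NatPair.ap_one', h10]; simp
      rw [pow_succ, ap_mul, h2, ap_smul, ih]
      apply NatPair.ext2
      · simp [pow_succ, mul_comm]
      · simp
  obtain ⟨n, hn⟩ := hS ⟨s, hs⟩
  have hn' : s ^ 2 ^ n = 1 := congrArg Subtype.val hn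
  have h3 := acts_pow (hSP hs) hA (2 ^ n)
  rw [hn'] at h3
  have h4 := acts_unique h3 (acts_one M)
  have h5 := congrFun h4 i
  have h6 := hap (2 ^ n)
  rw [Pi.pow_apply, Pi.one_apply] at h5
  rw [h5, ap_one] at h6
  have h7 : (ent (A i) 0 0) ^ 2 ^ n = 1 := (congrFun h6 0).symm
  have h00 := eq_one_of_pow h7
  have h11 : ent (A i) 1 1 = 1 := by
    have h8 := det_eq (A i)
    rw [h00, h10] at h8
    simpa using h8
  apply ext_ent
  · rw [h00, up_00]
  · rw [up_01]
  · rw [h10, up_10]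
  · rw [h11, up_11]

/-- elements acting as `up b` centralise the lines -/
theorem comm_lines {g : G} (hg : g ∈ P) {b : Fin k → F} (hA : ActsSL M.e (zl S P) ⊥ g fun i => up (b i)) {v : G}
    (hv : v ∈ lines M Set.univ) : g * v * g⁻¹ = v := by
  refine e_inj M (IId.cj_mem hg hv.1.1) hv.1.1 (funext fun i => ?_)
  rw [hA.1 v hv.1.1 i]
  apply NatPair.ext2
  · rw [NatPair.ap_zero', up_00, up_01, hv.2 i]; ring
  · rw [NatPair.ap_one', up_10, up_11, hv.2 i]; ring

end basic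

section main

variable {G : Type u} [Group G] [Finite G] {F : Type} [Field F] [Finite F] [CharP F 2] {S : Sylow 2 G}
  {P : Subgroup G} {k : ℕ} (M : NatK F (S : Subgroup G) P (zl (S : Subgroup G) P) ⊥ k)

/-- `S^L`: the elements of `S` acting as elements of `SL₂(F)^k` -/
def LS : Subgroup G := (S : Subgroup G) ⊓ grp M Set.univ

variable {M}

theorem LS_le : LS M ≤ S := inf_le_left

theorem grp_univ_normal (hP : P ≤ normalizer (zl (S : Subgroup G) P : Set G)) :
    P ≤ normalizer (grp M Set.univ : Set G) := by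
  intro g hg
  apply normalizer_grp M hg
  rw [part_univ]
  exact hP hg

theorem S_le_normalizer_LS (hSP : (S : Subgroup G) ≤ P) : (S : Subgroup G) ≤ normalizer (LS M : Set G) := by
  have h1 : (S : Subgroup G) ≤ normalizer ((S : Subgroup G) : Set G) := le_normalizer
  have h2 : (S : Subgroup G) ≤ normalizer (grp M Set.univ : Set G) :=
    hSP.trans (grp_univ_normal (le_normalizer_zl _ _))
  intro s hs
  rw [mem_normalizer_iff_cj]
  rw [LS, cj_inf, cj_eq_of_mem_normalizer (h1 hs), cj_eq_of_mem_normalizer (h2 hs)]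

theorem exists_b (hSP : (S : Subgroup G) ≤ P) {s : G} (hs : s ∈ LS M) :
    ∃ b : Fin k → F, ActsSL M.e (zl (S : Subgroup G) P) ⊥ s fun i => up (b i) := by
  obtain ⟨hsS, hsP, A, hA, -⟩ := hs
  refine ⟨fun i => ent (A i) 0 1, ?_⟩
  have h1 : A = fun i => up (ent (A i) 0 1) := funext fun i => exists_up hSP S.isPGroup' hsS hA i
  rwa [← h1]

theorem mem_LS {s : G} (hSP : (S : Subgroup G) ≤ P) (hs : s ∈ (S : Subgroup G))
    {A : Fin k → Matrix.SpecialLinearGroup (Fin 2) F}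
    (hA : ActsSL M.e (zl (S : Subgroup G) P) ⊥ s A) : s ∈ LS M :=
  ⟨hs, hSP hs, A, hA, fun i hi => absurd (Set.mem_univ i) hi⟩

theorem mem_LS_of_cent {s : G} (hSP : (S : Subgroup G) ≤ P) (hs : s ∈ (S : Subgroup G))
    (hc : s ∈ centralizer (zl (S : Subgroup G) P : Set G)) : s ∈ LS M :=
  mem_LS hSP hs (acts_of_cent hc)

/-- `LS` is a maximal 2-subgroup of `grp M univ` -/
theorem LS_max (hSP : (S : Subgroup G) ≤ P) {R : Subgroup G} (hR : IsPGroup 2 R) (h1 : LS M ≤ R)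
    (h2 : R ≤ grp M Set.univ) : R = LS M := by
  obtain ⟨g, hg, hgS⟩ := Half.SymA.exists_conj_le S hSP hR (h2.trans (grp_le M _))
  have h3 : cj g R ≤ LS M := by
    intro x hx
    have hx' := mem_cj.1 hx
    have h4 : x = g * (g⁻¹ * x * g) * g⁻¹ := by group
    refine ⟨?_, ?_⟩
    · rw [h4]
      exact hgS _ hx'
    · rw [h4]
      exact (mem_normalizer_iff.1 (grp_univ_normal (le_normalizer_zl _ _) hg) _).1 (h2 hx')
  symm
  refine eq_of_le_of_card_ge h1 ?_
  calc Nat.card R = Nat.card (cj g R) := (card_cj g R).symm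
    _ ≤ Nat.card (LS M) := Nat.card_le_card_of_injective _ (inclusion_injective h3)

theorem LS_isPGroup : IsPGroup 2 (LS M) := S.isPGroup'.to_le LS_le

/-! ### The ambient facts -/

variable (hc : IsCharacteristicTwoType G) (hP : IsParS (S : Subgroup G) P)

include hc hP

theorem zl_comm' : ∀ x ∈ zl (S : Subgroup G) P, ∀ y ∈ zl (S : Subgroup G) P, x * y = y * x :=
  (Half.amb_of_loc hc S hP.isLoc).comm

theorem V_le_LS : zl (S : Subgroup G) P ≤ LS M := by
  intro v hv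
  refine mem_LS_of_cent hP.le ((Half.amb_of_loc hc S hP.isLoc).VT hv) ?_
  rw [mem_centralizer_iff]
  intro w hw
  exact zl_comm' hc hP w hw v hv

theorem o2_le_LS : o2 P ≤ LS M := by
  have h1 := hP.inf_centralizer S hc
  intro x hx
  rw [← h1] at hx
  exact mem_LS_of_cent hP.le hx.1 hx.2

/-- `C_G(O₂(P)) ≤ O₂(P)` -/
theorem cent_o2 : centralizer (o2 P : Set G) ≤ o2 P := by
  have h0 : P ≤ normalizer (o2 P : Set G) := MinSimple.VModule.le_normalizer_o2 P
  have h1 : o2 (normalizer (o2 P : Set G)) ≤ o2 P := o2_le_o2 S hP.le h0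
  have h2 : o2 P ≤ o2 (normalizer (o2 P : Set G)) :=
    MinSimple.VModule.le_o2 le_normalizer (MinSimple.VModule.o2_isPGroup _) le_rfl
  have h3 := MinSimple.Basic.char2_normalizer hc (MinSimple.VModule.o2_isPGroup P) hP.o2_ne
  refine le_trans (le_inf (centralizer_le_normalizer _) ?_) (h3.trans h1)
  exact centralizer_le h1

theorem cent_LS : centralizer (LS M : Set G) ≤ LS M :=
  (centralizer_le (o2_le_LS hc hP)).trans ((cent_o2 hc hP).trans (o2_le_LS hc hP))

theorem lines_le_zc : lines M Set.univ ≤ zc (LS M) := by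
  intro v hv
  rw [mem_zc]
  refine ⟨V_le_LS hc hP hv.1.1, fun s hs => ?_, ?_⟩
  · obtain ⟨b, hb⟩ := exists_b hP.le hs
    have := comm_lines (hP.le hs.1) hb hv
    calc s * v = (s * v * s⁻¹) * s := by group
      _ = v * s := by rw [this]
  · exact (Half.amb_of_loc hc S hP.isLoc).sq v hv.1.1

theorem zc_S_le : zc (S : Subgroup G) ≤ lines M Set.univ := by
  intro v hv
  have hvV := zc_le_zl _ P hv
  refine ⟨⟨hvV, fun i hi => absurd (Set.mem_univ i) hi⟩, fun i => ?_⟩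
  classical
  obtain ⟨t, ht, hact⟩ := M.unip (Function.update 0 i 1)
  have h1 := (mem_zc.1 hv).2.1 t ht
  have h2 : t * v * t⁻¹ = v := by rw [h1]; group
  have h3 := congrFun (hact.1 v hvV i) 0
  rw [h2, NatPair.ap_zero'] at h3
  simp only [Function.update_self, up_00, up_01, one_mul] at h3
  exact left_eq_add.1 h3

/-- `C_P(V) ∩ N(S^L)` centralises `E = Ω₁ Z(S^L)` -/
theorem cent_E : P ⊓ centralizer (zl (S : Subgroup G) P : Set G) ⊓ normalizer (LS M : Set G) ≤
    centralizer (zc (LS M) : Set G) := by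
  have hnor : normalizer (LS M : Set G) ≤ normalizer (zc (LS M) : Set G) :=
    MinSimple.VModule.normalizer_le_normalizer_zc _
  refine le_centralizer_of_fixed (S := (S : Subgroup G)) (MinSimple.VModule.zc_comm _) (MinSimple.VModule.zc_sq _)
    (inf_le_right.trans hnor) ?_ S.isPGroup' ((S_le_normalizer_LS hP.le).trans hnor) ?_ ?_
  · -- 2-elements
    rintro x ⟨⟨hxP, hxV⟩, hxN⟩ n hn a ha
    have hx2 : IsPGroup 2 (zpowers x) := by
      rintro ⟨y, j, rfl⟩
      refine ⟨n, Subtype.ext ?_⟩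
      change (x ^ j) ^ 2 ^ n = 1
      rw [← zpow_natCast, ← zpow_mul, mul_comm j, zpow_mul, zpow_natCast, hn, one_zpow]
    have hR : IsPGroup 2 (LS M ⊔ zpowers x : Subgroup G) :=
      IsPGroup.to_sup_of_normal_left' LS_isPGroup hx2 (zpowers_le.2 hxN)
    have h1 := LS_max hP.le hR le_sup_left (sup_le inf_le_right (zpowers_le.2
      ⟨hxP, 1, acts_of_cent hxV, fun _ _ => rfl⟩))
    have h2 : x ∈ LS M := by
      rw [← h1]
      exact (le_sup_right : zpowers x ≤ _) (mem_zpowers x)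
    exact (mem_zc.1 ha).2.1 x h2
  · -- `S` normalises the group
    have h1 : (S : Subgroup G) ≤ normalizer (P : Set G) := hP.le.trans le_normalizer
    have h2 : (S : Subgroup G) ≤ normalizer (centralizer (zl (S : Subgroup G) P : Set G) : Set G) := by
      have h3 : (S : Subgroup G) ≤ normalizer (zl (S : Subgroup G) P : Set G) := hP.le.trans (le_normalizer_zl _ _)
      intro s hs
      rw [mem_normalizer_iff_cj, cj_centralizer, cj_eq_of_mem_normalizer (h3 hs)]
    have h3 : (S : Subgroup G) ≤ normalizer (normalizer (LS M : Set G) : Set G) := by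
      intro s hs
      rw [mem_normalizer_iff_cj, cj_normalizer, cj_eq_of_mem_normalizer (S_le_normalizer_LS hP.le hs)]
    intro s hs
    rw [mem_normalizer_iff_cj, cj_inf, cj_inf, cj_eq_of_mem_normalizer (h1 hs), cj_eq_of_mem_normalizer (h2 hs),
      cj_eq_of_mem_normalizer (h3 hs)]
  · -- fixed points
    rintro a ha hfix x ⟨⟨-, hxV⟩, -⟩
    have h1 : a ∈ zc (S : Subgroup G) := by
      rw [mem_zc]
      exact ⟨LS_le (zc_le _ ha), hfix, (mem_zc.1 ha).2.2⟩
    exact (mem_centralizer_iff.1 hxV a (zc_le_zl _ P h1)).symm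

/-- elements of `P ∩ N(S^L)` with the same action on `V` have the same action on `E` -/
theorem act_of_eq {x y : G} (hx : x ∈ P) (hxN : x ∈ normalizer (LS M : Set G)) (hy : y ∈ P)
    (hyN : y ∈ normalizer (LS M : Set G)) {A : Fin k → Matrix.SpecialLinearGroup (Fin 2) F}
    (hA : ActsSL M.e (zl (S : Subgroup G) P) ⊥ x A) (hB : ActsSL M.e (zl (S : Subgroup G) P) ⊥ y A) :
    Act (zc (LS M)) x y := by
  have h1 : y⁻¹ * x ∈ centralizer (zc (LS M) : Set G) := by
    have h0 : y⁻¹ * x ∈ P := mul_mem (inv_mem hy) hx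
    have h0' : y⁻¹ * x ∈ normalizer (LS M : Set G) := mul_mem (inv_mem hyN) hxN
    refine cent_E (M := M) hc hP ⟨⟨h0, cent_of_acts (M := M) h0 ?_⟩, h0'⟩
    have := acts_mul hx (acts_inv hy hB) hA
    rwa [inv_mul_cancel] at this
  intro e he
  have h2 := mem_centralizer_iff.1 h1 e he
  calc x * e * x⁻¹ = y * ((y⁻¹ * x) * e) * x⁻¹ := by group
    _ = y * (e * (y⁻¹ * x)) * x⁻¹ := by rw [h2]
    _ = y * e * y⁻¹ := by group

omit [Finite G] [Finite F] [CharP F 2] hc hP in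
/-- an upper triangular matrix normalises the unitriangular group -/
theorem tri_up {A : Matrix.SpecialLinearGroup (Fin 2) F} (hA : ent A 1 0 = 0) (b : F) :
    A * up b * A⁻¹ = up (ent A 0 0 ^ 2 * b) := by
  have hd := det_eq A
  rw [hA, mul_zero, sub_zero] at hd
  apply mul_right_cancel (b := A)
  rw [inv_mul_cancel_right]
  apply ext_ent
  · rw [ent_mul, ent_mul, up_00, up_10, up_00, up_01, hA]; ring
  · rw [ent_mul, ent_mul, up_01, up_11, up_00, up_01]
    linear_combination (-(ent A 0 0 * b)) * hd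
  · rw [ent_mul, ent_mul, up_00, up_10, up_10, up_11, hA]; ring
  · rw [ent_mul, ent_mul, up_01, up_11, up_10, up_11, hA]; ring

/-- the elements of `P` acting as unitriangular elements -/
def uni (M : NatK F (S : Subgroup G) P (zl (S : Subgroup G) P) ⊥ k) : Subgroup G where
  carrier := {g | g ∈ P ∧ ∃ b : Fin k → F, ActsSL M.e (zl (S : Subgroup G) P) ⊥ g fun i => up (b i)}
  one_mem' := ⟨one_mem P, 0, by
    have : (fun i => up ((0 : Fin k → F) i)) = (1 : Fin k → Matrix.SpecialLinearGroup (Fin 2) F) :=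
      funext fun i => up_zero
    rw [this]
    exact acts_one M⟩
  mul_mem' := by
    rintro g h ⟨hg, b, hb⟩ ⟨hh, c, hc⟩
    refine ⟨mul_mem hg hh, b + c, ?_⟩
    have h1 := acts_mul hh hb hc
    have : ((fun i => up (b i)) * fun i => up (c i)) = fun i => up ((b + c) i) :=
      funext fun i => up_mul _ _
    rwa [this] at h1
  inv_mem' := by
    rintro g ⟨hg, b, hb⟩
    refine ⟨inv_mem hg, -b, ?_⟩
    have h1 := acts_inv hg hb
    have : (fun i => up (b i))⁻¹ = fun i => up ((-b) i) := funext fun i => up_inv _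
    rwa [this] at h1

/-- every upper triangular element of `SL₂(F)^k` is induced by an element of `P ∩ N(S^L)` -/
theorem exists_norm (A : Fin k → Matrix.SpecialLinearGroup (Fin 2) F) (hA : ∀ i, ent (A i) 1 0 = 0) :
    ∃ h ∈ P, h ∈ normalizer (LS M : Set G) ∧ ActsSL M.e (zl (S : Subgroup G) P) ⊥ h A := by
  obtain ⟨g, hg, hgA⟩ := M.lift A
  have hLU : LS M ≤ uni M := fun s hs => ⟨hP.le hs.1, exists_b hP.le hs⟩
  have hL'U : cj g (LS M) ≤ uni M := by
    intro x hx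
    rw [mem_cj] at hx
    obtain ⟨b, hb⟩ := exists_b hP.le hx
    have h1 := acts_mul (inv_mem hg) (acts_mul (hP.le hx.1) hgA hb) (acts_inv hg hgA)
    have h2 : g * (g⁻¹ * x * g) * g⁻¹ = x := by group
    rw [h2] at h1
    refine ⟨?_, fun i => ent (A i) 0 0 ^ 2 * b i, ?_⟩
    · rw [← h2]
      exact mul_mem (mul_mem hg (hP.le hx.1)) (inv_mem hg)
    · have h3 : A * (fun i => up (b i)) * A⁻¹ = fun i => up (ent (A i) 0 0 ^ 2 * b i) :=
        funext fun i => tri_up (hA i) (b i)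
      rwa [h3] at h1
  have hmax : ∀ R : Subgroup G, IsPGroup 2 R → LS M ≤ R → R ≤ uni M → R = LS M := by
    intro R hR h1 h2
    refine LS_max hP.le hR h1 fun x hx => ?_
    obtain ⟨h3, b, hb⟩ := h2 hx
    exact ⟨h3, _, hb, fun i hi => absurd (Set.mem_univ i) hi⟩
  obtain ⟨c, ⟨hcP, b, hcb⟩, hcc⟩ := conj_sylow hLU hL'U LS_isPGroup (isPGroup_cj g LS_isPGroup) hmax (card_cj g _)
  obtain ⟨t, ht, htb⟩ := M.unip b
  have htP := hP.le ht
  have htL : t ∈ LS M := mem_LS hP.le ht htb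
  refine ⟨t⁻¹ * c * g, mul_mem (mul_mem (inv_mem htP) hcP) hg, ?_, ?_⟩
  · rw [mem_normalizer_iff_cj, ← cj_cj, ← cj_cj, hcc]
    exact cj_eq_of_mem_normalizer (inv_mem (le_normalizer htL))
  · have h1 := acts_mul hg (acts_mul hcP (acts_inv htP htb) hcb) hgA
    rwa [inv_mul_cancel, one_mul] at h1

/-! ### The torus -/

omit [Finite G] [Finite F] [CharP F 2] hc hP in
theorem dg_pow (t : F) (ht : t ≠ 0) (n : ℕ) : (dg t ht) ^ n = dg (t ^ n) (pow_ne_zero n ht) := by
  induction n with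
  | zero =>
    apply ext_ent <;> simp
  | succ n ih =>
    rw [pow_succ, ih]
    apply ext_ent
    · rw [ent_mul, dg_00, dg_00, dg_01, dg_10, dg_00]; ring
    · rw [ent_mul, dg_00, dg_01, dg_01, dg_01]; ring
    · rw [ent_mul, dg_10, dg_00, dg_11, dg_10, dg_10]; ring
    · rw [ent_mul, dg_10, dg_01, dg_11, dg_11, dg_11]
      rw [pow_succ, mul_inv]; ring

omit [Finite G] [Finite F] [CharP F 2] hc hP in
theorem ap_pow_tri {A : Matrix.SpecialLinearGroup (Fin 2) F} (hA : ent A 1 0 = 0) (j : ℕ) :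
    ap (A ^ j) ![1, 0] = ![(ent A 0 0) ^ j, 0] := by
  induction j with
  | zero => rw [pow_zero, pow_zero, ap_one]
  | succ j ih =>
    have h2 : ap A ![1, 0] = ent A 0 0 • ![1, 0] := by
      apply NatPair.ext2
      · rw [NatPair.ap_zero']; simp
      · rw [NatPair.ap_one', hA]; simp
    rw [pow_succ, ap_mul, h2, ap_smul, ih]
    apply NatPair.ext2
    · simp [pow_succ, mul_comm]
    · simp

/-- `C_V(S^L)` is the sum of the lines -/
theorem mem_lines_of_cent {v : G} (hv : v ∈ zl (S : Subgroup G) P) (h : ∀ s ∈ LS M, s * v = v * s) :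
    v ∈ lines M Set.univ := by
  classical
  refine ⟨⟨hv, fun i hi => absurd (Set.mem_univ i) hi⟩, fun i => ?_⟩
  obtain ⟨t, ht, hact⟩ := M.unip (Function.update 0 i 1)
  have h1 := h t (mem_LS hP.le ht hact)
  have h2 : t * v * t⁻¹ = v := by rw [h1]; group
  have h3 := congrFun (hact.1 v hv i) 0
  rw [h2, NatPair.ap_zero'] at h3
  simp only [Function.update_self, up_00, up_01, one_mul] at h3
  exact left_eq_add.1 h3

/-- elements of `P ∩ N(S^L)` normalise the sum of the lines -/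
theorem norm_lines {x : G} (hx : x ∈ P) (hxN : x ∈ normalizer (LS M : Set G)) {v : G}
    (hv : v ∈ lines M Set.univ) : x * v * x⁻¹ ∈ lines M Set.univ := by
  refine mem_lines_of_cent hc hP (IId.cj_mem hx hv.1.1) fun s hs => ?_
  have h1 : x⁻¹ * s * x ∈ LS M := by
    have := (mem_normalizer_iff.1 (inv_mem hxN) s).1 hs
    rwa [inv_inv] at this
  have h2 := (mem_zc.1 (lines_le_zc hc hP hv)).2.1 _ h1
  calc s * (x * v * x⁻¹) = x * ((x⁻¹ * s * x) * v) * x⁻¹ := by group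
    _ = x * (v * (x⁻¹ * s * x)) * x⁻¹ := by rw [h2]
    _ = x * v * x⁻¹ * s := by group

/-- an element of `P ∩ N(S^L)` acting as `B` is upper triangular -/
theorem tri_of_norm {x : G} (hx : x ∈ P) (hxN : x ∈ normalizer (LS M : Set G))
    {B : Fin k → Matrix.SpecialLinearGroup (Fin 2) F} (hB : ActsSL M.e (zl (S : Subgroup G) P) ⊥ x B) (i : Fin k) :
    ent (B i) 1 0 = 0 := by
  obtain ⟨v, hv, hve⟩ := exists_fac M i ![1, 0]
  have h1 : v ∈ lines M Set.univ := by
    refine ⟨⟨hv.1, fun j hj => absurd (Set.mem_univ j) hj⟩, fun j => ?_⟩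
    by_cases hj : j = i
    · rw [hj, hve]; rfl
    · rw [hv.2 j hj]; rfl
  have h2 := (norm_lines hc hP hx hxN h1).2 i
  rw [hB.1 v hv.1 i, hve, NatPair.ap_one'] at h2
  simpa using h2

end main

end Cfsg.Agent.Omega.ThmC.FourOf

end

section


/-!
# THEOREM C, `q ≥ 4`: elements of `S` which commute with the torus elements of order `p` (helper334)

`t ∈ F` is not fixed by a nontrivial automorphism of 2-power order. An element `s ∈ S` which normalises the factor `l`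
and commutes on `line M l` with the multiplication by `t` acts as `up b` on the factor `l` (`act_up`).
-/

set_option autoImplicit false
set_option linter.unusedSectionVars false

namespace Cfsg.Agent.Omega.ThmC.FourOf

open Subgroup Cfsg Cfsg.Agent.ZN Cfsg.Agent.Omega.IId Cfsg.Agent.Omega.ThmC.Four
open Cfsg.Agent.ZN.ChoiceBase hiding mem_zc
open Cfsg.Agent.Omega.MinPar Cfsg.Agent.Omega.FFThm
open Cfsg.Agent.MinSimple.VModule (le_normalizer_zl mem_zc zc_le zc_le_zl)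
open Cfsg.Agent.Lib.SL2Mat
open Cfsg.Agent.Omega.NatPair (ap ap_mul ap_one ap_inv_ap ap_ap_inv exists_ap ap_add ap_inj ap_smul)

universe u

variable {G : Type u} [Group G] [Finite G] {F : Type} [Field F] [Finite F] [CharP F 2] {S : Sylow 2 G}
  {P : Subgroup G} {k : ℕ} {M : NatK F (S : Subgroup G) P (zl (S : Subgroup G) P) ⊥ k}

/-- semilinearity -/
theorem exists_tau {s : G} (hs : s ∈ P) {l : Fin k} (hsl : s ∈ normalizer (fac M l : Set G)) :
    ∃ τ : F ≃+* F, ∀ v ∈ fac M l, ∀ w ∈ fac M l, ∀ c : F, M.e w l = c • M.e v l →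
      M.e (s * w * s⁻¹) l = τ c • M.e (s * v * s⁻¹) l := by
  classical
  have hfac : ∀ {g : G}, g ∈ normalizer (fac M l : Set G) → ∀ v ∈ fac M l, g * v * g⁻¹ ∈ fac M l :=
    fun hg v hv => (mem_normalizer_iff.1 hg v).1 hv
  choose u hu hue using fun x => exists_fac M l x
  have hu' : ∀ v ∈ fac M l, u (M.e v l) = v := fun v hv => ext_fac M (hu _) hv (hue _)
  let T : (Fin 2 → F) → (Fin 2 → F) := fun x => M.e (s * u x * s⁻¹) l
  let T' : (Fin 2 → F) → (Fin 2 → F) := fun x => M.e (s⁻¹ * u x * s⁻¹⁻¹) l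
  have hT : ∀ v ∈ fac M l, T (M.e v l) = M.e (s * v * s⁻¹) l := fun v hv => by
    change M.e (s * u (M.e v l) * s⁻¹) l = _
    rw [hu' v hv]
  have hT' : ∀ v ∈ fac M l, T' (M.e v l) = M.e (s⁻¹ * v * s⁻¹⁻¹) l := fun v hv => by
    change M.e (s⁻¹ * u (M.e v l) * s⁻¹⁻¹) l = _
    rw [hu' v hv]
  have hsl' : s⁻¹ ∈ normalizer (fac M l : Set G) := inv_mem hsl
  have hadd : ∀ x y, T (x + y) = T x + T y := by
    intro x y
    have h1 : u x * u y = u (x + y) := by
      refine ext_fac M (mul_mem (hu x) (hu y)) (hu _) ?_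
      rw [M.mul _ (hu x).1 _ (hu y).1, Pi.add_apply, hue, hue, hue]
    change M.e (s * u (x + y) * s⁻¹) l = M.e (s * u x * s⁻¹) l + M.e (s * u y * s⁻¹) l
    have h2 : s * u (x + y) * s⁻¹ = (s * u x * s⁻¹) * (s * u y * s⁻¹) := by rw [← h1]; group
    rw [h2, M.mul _ (hfac hsl _ (hu x)).1 _ (hfac hsl _ (hu y)).1, Pi.add_apply]
  have h1 : ∀ x, T' (T x) = x := by
    intro x
    have h2 := hT' _ (hfac hsl _ (hu x))
    change T' (T x) = _ at h2
    rw [h2]
    have h3 : s⁻¹ * (s * u x * s⁻¹) * s⁻¹⁻¹ = u x := by group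
    rw [h3, hue]
  have h2 : ∀ x, T (T' x) = x := by
    intro x
    have h2 := hT _ (hfac hsl' _ (hu x))
    change T (T' x) = _ at h2
    rw [h2]
    have h3 : s * (s⁻¹ * u x * s⁻¹⁻¹) * s⁻¹ = u x := by group
    rw [h3, hue]
  have hn : ∀ A : Matrix.SpecialLinearGroup (Fin 2) F, ∃ B : Matrix.SpecialLinearGroup (Fin 2) F,
      ∀ x, T' (ap A (T x)) = ap B x := by
    intro A
    obtain ⟨h, hh, hA, -⟩ := M.lift (Function.update 1 l A)
    obtain ⟨B, hB⟩ := M.norm s⁻¹ (inv_mem hs) h hh _ hA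
    have hhl : h ∈ normalizer (fac M l : Set G) := by
      refine grp_normalizes M {l} {l} ⟨hh, Function.update 1 l A, ⟨hA, fun d hd => ?_⟩, fun i hi => ?_⟩
      · rw [mem_bot] at hd
        rw [hd]
        group
      · exact Function.update_of_ne hi _ _
    refine ⟨B l, fun x => ?_⟩
    have h3 := hB (u x) (hu x).1 l
    rw [hue] at h3
    rw [← h3]
    have h4 : ap A (T x) = M.e (h * (s * u x * s⁻¹) * h⁻¹) l := by
      rw [hA _ (hfac hsl _ (hu x)).1 l, Function.update_self]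
    rw [h4, hT' _ (hfac hhl _ (hfac hsl _ (hu x)))]
    have e : s⁻¹ * (h * (s * u x * s⁻¹) * h⁻¹) * s⁻¹⁻¹ = s⁻¹ * h * s⁻¹⁻¹ * u x * (s⁻¹ * h * s⁻¹⁻¹)⁻¹ := by group
    rw [e]
  obtain ⟨σ, hσ⟩ := NatPair.exists_semi T T' hadd h1 h2 hn
  obtain ⟨τ, hτ⟩ := NatPair.exists_ringEquiv T T' hadd h1 σ hσ
  refine ⟨τ, fun v hv w hw c hc => ?_⟩
  rw [← hT v hv, ← hT w hw, hc, hτ]

/-- powers -/
theorem tau_pow {s : G} {l : Fin k} (hsl : s ∈ normalizer (fac M l : Set G)) {τ : F ≃+* F}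
    (hτ : ∀ v ∈ fac M l, ∀ w ∈ fac M l, ∀ c : F, M.e w l = c • M.e v l →
      M.e (s * w * s⁻¹) l = τ c • M.e (s * v * s⁻¹) l) (j : ℕ) :
    ∀ v ∈ fac M l, ∀ w ∈ fac M l, ∀ c : F, M.e w l = c • M.e v l →
      M.e (s ^ j * w * (s ^ j)⁻¹) l = (τ ^ j) c • M.e (s ^ j * v * (s ^ j)⁻¹) l := by
  induction j with
  | zero =>
    intro v _ w _ c hc
    simp only [pow_zero, one_mul, inv_one, mul_one]
    exact hc
  | succ j ih =>
    intro v hv w hw c hc
    have hj : s ^ j ∈ normalizer (fac M l : Set G) := pow_mem hsl j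
    have h1 := hτ _ ((mem_normalizer_iff.1 hj v).1 hv) _ ((mem_normalizer_iff.1 hj w).1 hw) _ (ih v hv w hw c hc)
    have e1 : ∀ x : G, s ^ (j + 1) * x * (s ^ (j + 1))⁻¹ = s * (s ^ j * x * (s ^ j)⁻¹) * s⁻¹ := fun x => by
      rw [pow_succ']
      group
    rw [e1, e1, h1, pow_succ']
    rfl

/-- **The field automorphism.** `t ∈ F` is not fixed by a nontrivial automorphism of 2-power order, `s ∈ S` normalises the
factor `l` and commutes on the line with the multiplication by `t`: `s` acts as a root element on the factor `l`. -/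
theorem act_up (hSP : (S : Subgroup G) ≤ P) {t : F}
    (ht : ∀ (τ : F ≃+* F) (n : ℕ), τ ^ 2 ^ n = 1 → τ t = t → τ = 1) {s : G} (hs : s ∈ (S : Subgroup G)) {l : Fin k}
    (hsl : s ∈ normalizer (fac M l : Set G))
    (hst : ∀ v ∈ line M l, ∀ w ∈ line M l, M.e w l = t • M.e v l →
      M.e (s * w * s⁻¹) l = t • M.e (s * v * s⁻¹) l) :
    ∃ b : F, ∀ v ∈ zl (S : Subgroup G) P, M.e (s * v * s⁻¹) l = ap (up b) (M.e v l) := by
  classical
  obtain ⟨τ, hτ⟩ := exists_tau (M := M) (hSP hs) hsl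
  have hfac : ∀ j : ℕ, ∀ v ∈ fac M l, s ^ j * v * (s ^ j)⁻¹ ∈ fac M l := fun j v hv =>
    (mem_normalizer_iff.1 (pow_mem hsl j : s ^ j ∈ normalizer (fac M l : Set G)) v).1 hv
  have hfac1 : ∀ v ∈ fac M l, s * v * s⁻¹ ∈ fac M l := fun v hv => (mem_normalizer_iff.1 hsl v).1 hv
  -- the order of `τ`
  obtain ⟨n, hn⟩ := S.isPGroup' ⟨s, hs⟩
  have hn' : s ^ 2 ^ n = 1 := congrArg Subtype.val hn
  have hτn : τ ^ 2 ^ n = 1 := by
    ext c
    obtain ⟨v, hv, hve⟩ := exists_fac M l ![1, 0]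
    obtain ⟨w, hw, hwe⟩ := exists_fac M l (c • ![1, 0])
    have h1 := tau_pow hsl hτ (2 ^ n) v hv w hw c (by rw [hve, hwe])
    rw [hn', one_mul, one_mul, inv_one, mul_one, mul_one, hve, hwe] at h1
    have h2 := congrFun h1 0
    simpa using h2.symm
  -- `τ t = t`
  have hsg : sg M (hSP hs) l = l := (mem_normalizer_fac_iff M (hSP hs)).1 hsl
  have hline : ∀ v ∈ line M l, s * v * s⁻¹ ∈ line M l := by
    intro v hv
    have h1 := stab_normalizes_line M hSP l ⟨hs, hsl⟩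
    exact (mem_normalizer_iff.1 h1 v).1 hv
  obtain ⟨v, hv, hve⟩ := exists_fac M l ![1, 0]
  have hvl : v ∈ line M l := (mem_line M).2 ⟨hv, by rw [hve]; rfl⟩
  have hv1 : v ≠ 1 := by
    intro h
    rw [h, e_one] at hve
    exact zero_ne_one (congrFun hve 0)
  have hsv0 : M.e (s * v * s⁻¹) l 0 ≠ 0 := by
    intro h0
    have h1 := hline v hvl
    have h2 : s * v * s⁻¹ = 1 := by
      rw [← fac_eq_one M h1.1]
      exact NatPair.ext2 h0 (((mem_line M).1 h1).2)
    apply hv1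
    have h3 : v = s⁻¹ * (s * v * s⁻¹) * s := by group
    rw [h3, h2]
    group
  have hτt : τ t = t := by
    obtain ⟨w, hw, hwe⟩ := exists_fac M l (t • ![1, 0])
    have hwl : w ∈ line M l := (mem_line M).2 ⟨hw, by rw [hwe]; simp⟩
    have h1 := hτ v hv w hw t (by rw [hve, hwe])
    have h2 := hst v hvl w hwl (by rw [hve, hwe])
    rw [h2] at h1
    have h3 := congrFun h1 0
    exact (mul_right_cancel₀ hsv0 h3).symm
  have hτ1 := ht τ n hτn hτt
  subst hτ1
  have hlin : ∀ v ∈ fac M l, ∀ w ∈ fac M l, ∀ c : F, M.e w l = c • M.e v l →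
      M.e (s * w * s⁻¹) l = c • M.e (s * v * s⁻¹) l := hτ
  -- the image of `(1, 0)`
  obtain ⟨c, hce⟩ : ∃ c, M.e (s * v * s⁻¹) l = ![c, 0] := by
    refine ⟨M.e (s * v * s⁻¹) l 0, ?_⟩
    apply NatPair.ext2
    · rfl
    · exact ((mem_line M).1 (hline v hvl)).2
  have hcpow : ∀ j : ℕ, M.e (s ^ j * v * (s ^ j)⁻¹) l = ![c ^ j, 0] := by
    intro j
    induction j with
    | zero => simpa using hve
    | succ j ih =>
      have e1 : s ^ (j + 1) * v * (s ^ (j + 1))⁻¹ = s * (s ^ j * v * (s ^ j)⁻¹) * s⁻¹ := by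
        rw [pow_succ']
        group
      rw [e1, hlin v hv _ (hfac j v hv) (c ^ j) (by
        rw [ih, hve]
        apply NatPair.ext2 <;> simp), hce]
      apply NatPair.ext2
      · simp [pow_succ]
      · simp
  have hc1 : c = 1 := by
    have h1 := congrFun (hcpow (2 ^ n)) 0
    rw [hn', one_mul, inv_one, mul_one, hve] at h1
    exact eq_one_of_pow h1.symm
  rw [hc1] at hce
  -- the image of `(0, 1)`
  obtain ⟨w, hw, hwe⟩ := exists_fac M l ![0, 1]
  obtain ⟨b, d, hbd⟩ : ∃ b d, M.e (s * w * s⁻¹) l = ![b, d] :=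
    ⟨_, _, NatPair.ext2 (x := M.e (s * w * s⁻¹) l) (y := ![M.e (s * w * s⁻¹) l 0, M.e (s * w * s⁻¹) l 1]) rfl rfl⟩
  -- the general formula
  have hgen : ∀ x ∈ fac M l, M.e (s * x * s⁻¹) l = ![M.e x l 0 + b * M.e x l 1, d * M.e x l 1] := by
    intro x hx
    obtain ⟨x0, hx0, hx0e⟩ := exists_fac M l (M.e x l 0 • ![1, 0])
    obtain ⟨x1, hx1, hx1e⟩ := exists_fac M l (M.e x l 1 • ![0, 1])
    have h1 : x = x0 * x1 := by
      refine ext_fac M hx (mul_mem hx0 hx1) ?_
      rw [M.mul _ hx0.1 _ hx1.1, Pi.add_apply, hx0e, hx1e]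
      apply NatPair.ext2 <;> simp
    have h2 : s * x * s⁻¹ = (s * x0 * s⁻¹) * (s * x1 * s⁻¹) := by
      conv_lhs => rw [h1]
      group
    rw [h2, M.mul _ (hfac1 _ hx0).1 _ (hfac1 _ hx1).1, Pi.add_apply,
      hlin v hv x0 hx0 (M.e x l 0) (by rw [hx0e, hve]), hlin w hw x1 hx1 (M.e x l 1) (by rw [hx1e, hwe]), hce, hbd]
    apply NatPair.ext2
    · simp; ring
    · simp; ring
  have hdpow : ∀ j : ℕ, M.e (s ^ j * w * (s ^ j)⁻¹) l 1 = d ^ j := by
    intro j
    induction j with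
    | zero => simp [hwe]
    | succ j ih =>
      have e1 : s ^ (j + 1) * w * (s ^ (j + 1))⁻¹ = s * (s ^ j * w * (s ^ j)⁻¹) * s⁻¹ := by
        rw [pow_succ']
        group
      rw [e1, hgen _ (hfac j w hw)]
      change d * M.e (s ^ j * w * (s ^ j)⁻¹) l 1 = _
      rw [ih, pow_succ']
  have hd1 : d = 1 := by
    have h1 := hdpow (2 ^ n)
    rw [hn', one_mul, inv_one, mul_one, hwe] at h1
    exact eq_one_of_pow h1.symm
  refine ⟨b, fun x hx => ?_⟩
  obtain ⟨y, hy, z, hz, rfl⟩ := exists_comp M hx {l}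
  have hz' : z ∈ zl (S : Subgroup G) P := hz.1
  have hzl : M.e z l = 0 := hz.2 l fun h => h rfl
  have h2 : M.e (s * z * s⁻¹) l = 0 := by
    have h3 := (sg_spec M (hSP hs) hz' l).2 hzl
    rwa [hsg] at h3
  have h3 : s * (y * z) * s⁻¹ = (s * y * s⁻¹) * (s * z * s⁻¹) := by group
  have hy' : y ∈ fac M l := hy
  rw [h3, M.mul _ (hfac1 y hy').1 _ (IId.cj_mem (hSP hs) hz'), M.mul _ hy.1 _ hz', Pi.add_apply, Pi.add_apply, h2, hzl,
    add_zero, add_zero, hgen y hy', hd1]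
  apply NatPair.ext2
  · rw [NatPair.ap_zero', up_00, up_01]; simp
  · rw [NatPair.ap_one', up_10, up_11]; simp

end Cfsg.Agent.Omega.ThmC.FourOf

end

section


/-!
# THEOREM C, `q ≥ 4`: the data `Four.Dat` from a minimal parabolic (helper334)

`exists_dat`: for `M : NatK F S P (zl S P) ⊥ k` with `4 ≤ |F|` there are `h : Fin k → G` and a prime `p` with
`Four.Dat S (LS M) (line M) h p`; moreover the `h l` normalise `S^L` and all lines.
-/

set_option autoImplicit false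
set_option linter.unusedSectionVars false

namespace Cfsg.Agent.Omega.ThmC.FourOf

open Subgroup Cfsg Cfsg.Agent.ZN Cfsg.Agent.Omega.IId Cfsg.Agent.Omega.ThmC.Four
open Cfsg.Agent.ZN.ChoiceBase hiding mem_zc
open Cfsg.Agent.Omega.MinPar Cfsg.Agent.Omega.FFThm
open Cfsg.Agent.MinSimple.VModule (le_normalizer_zl mem_zc zc_le zc_le_zl)
open Cfsg.Agent.Lib.SL2Mat
open Cfsg.Agent.Omega.NatPair (ap ap_mul ap_one ap_inv_ap ap_ap_inv exists_ap ap_add ap_inj ap_smul)

universe u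

variable {G : Type u} [Group G] [Finite G] {F : Type} [Field F] [Finite F] [CharP F 2] {S : Sylow 2 G}
  {P : Subgroup G} {k : ℕ}

/-- The torus elements. -/
structure Tor (M : NatK F (S : Subgroup G) P (zl (S : Subgroup G) P) ⊥ k) (t : F) (p : ℕ) (h : Fin k → G) : Prop where
  prime : p.Prime
  odd : p ≠ 2
  ne_one : t ≠ 1
  pow : t ^ p = 1
  ne_zero : t ≠ 0
  field : ∀ (τ : F ≃+* F) (n : ℕ), τ ^ 2 ^ n = 1 → τ t = t → τ = 1
  mem : ∀ l, h l ∈ P
  nor : ∀ l, h l ∈ normalizer (LS M : Set G)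
  act : ∀ l, ActsSL M.e (zl (S : Subgroup G) P) ⊥ (h l) (Function.update 1 l (dg t ne_zero))

variable {M : NatK F (S : Subgroup G) P (zl (S : Subgroup G) P) ⊥ k} {t : F} {p : ℕ} {h : Fin k → G}

theorem exists_tor (hc : IsCharacteristicTwoType G) (hP : IsParS (S : Subgroup G) P) (hF : 4 ≤ Nat.card F) :
    ∃ (t : F) (p : ℕ) (h : Fin k → G), Tor M t p h := by
  classical
  obtain ⟨p, t, hp, hp2, ht1, htp, hf⟩ := exists_t hF
  have ht0 : t ≠ 0 := by
    rintro rfl
    rw [zero_pow hp.ne_zero] at htp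
    exact zero_ne_one htp
  have key : ∀ l : Fin k, ∃ g : G, g ∈ P ∧ g ∈ normalizer (LS M : Set G) ∧
      ActsSL M.e (zl (S : Subgroup G) P) ⊥ g (Function.update 1 l (dg t ht0)) := by
    intro l
    obtain ⟨g, hg, hgn, hga⟩ := exists_norm hc hP (M := M) (Function.update 1 l (dg t ht0)) fun i => by
      by_cases hi : i = l
      · rw [hi, Function.update_self, dg_10]
      · rw [Function.update_of_ne hi, Pi.one_apply]
        simp
    exact ⟨g, hg, hgn, hga⟩
  choose h h1 h2 h3 using key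
  exact ⟨t, p, h, ⟨hp, hp2, ht1, htp, ht0, hf, h1, h2, h3⟩⟩

omit [Finite G] in
theorem conj_mem_cj' {g x : G} {X : Subgroup G} (hx : x ∈ X) : g * x * g⁻¹ ∈ cj g X := by
  rw [mem_cj]
  have e : g⁻¹ * (g * x * g⁻¹) * g = x := by group
  rwa [e]

/-- membership in the normaliser, finite case -/
theorem mem_norm_of_le {X : Subgroup G} {g : G} (hg : ∀ x ∈ X, g * x * g⁻¹ ∈ X) : g ∈ normalizer (X : Set G) := by
  rw [mem_normalizer_iff_cj]
  refine eq_of_le_of_card_ge ?_ (card_cj g X).ge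
  intro x hx
  rw [mem_cj] at hx
  have := hg _ hx
  have e : g * (g⁻¹ * x * g) * g⁻¹ = x := by group
  rwa [e] at this

namespace Tor

variable (T : Tor M t p h)

include T

theorem mem_grp (l : Fin k) : h l ∈ grp M {l} :=
  ⟨T.mem l, _, T.act l, fun _ hi => Function.update_of_ne hi _ _⟩

theorem e_line {l : Fin k} {v : G} (hv : v ∈ line M l) : M.e (h l * v * (h l)⁻¹) l = t • M.e v l := by
  rw [(T.act l).1 v hv.1.1 l, Function.update_self]
  have h1 := ((mem_line M).1 hv).2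
  apply NatPair.ext2
  · rw [NatPair.ap_zero', dg_00, dg_01, h1]; simp
  · rw [NatPair.ap_one', dg_10, dg_11, h1]; simp [h1]

theorem mem_nor (l m : Fin k) : h l ∈ normalizer (line M m : Set G) := by
  refine mem_norm_of_le fun v hv => ?_
  have h1 : h l * v * (h l)⁻¹ ∈ fac M m :=
    (mem_normalizer_iff.1 (grp_normalizes M {l} {m} (T.mem_grp l)) v).1 hv.1
  refine (mem_line M).2 ⟨h1, ?_⟩
  rw [(T.act l).1 v hv.1.1 m]
  by_cases hm : m = l
  · subst hm
    rw [Function.update_self, NatPair.ap_one', dg_10, dg_11, ((mem_line M).1 hv).2]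
    ring
  · rw [Function.update_of_ne hm, Pi.one_apply, ap_one]
    exact ((mem_line M).1 hv).2

theorem comm_fac {l m : Fin k} (hlm : l ≠ m) {v : G} (hv : v ∈ fac M l) : h m * v = v * h m :=
  grp_comm M (Set.disjoint_singleton.2 hlm.symm) (T.mem_grp m) hv

theorem fpf {l : Fin k} {v : G} (hv : v ∈ line M l) (hc : h l * v = v * h l) : v = 1 := by
  have h1 := T.e_line hv
  have h2 : h l * v * (h l)⁻¹ = v := by rw [hc]; group
  rw [h2] at h1
  rw [← fac_eq_one M hv.1]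
  apply NatPair.ext2
  · have h3 := congrFun h1 0
    simp only [Pi.smul_apply, smul_eq_mul] at h3
    have h4 : (t - 1) * M.e v l 0 = 0 := by linear_combination -h3
    rcases mul_eq_zero.1 h4 with h5 | h5
    · exact absurd (sub_eq_zero.1 h5) T.ne_one
    · exact h5
  · exact ((mem_line M).1 hv).2

end Tor

/-- upper triangular matrices of determinant one -/
theorem tri_eq {A : Matrix.SpecialLinearGroup (Fin 2) F} (hA : ent A 1 0 = 0) (ha : ent A 0 0 ≠ 0) :
    A = up (ent A 0 1 * ent A 0 0) * dg (ent A 0 0) ha := by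
  have hd := det_eq A
  rw [hA, mul_zero, sub_zero] at hd
  apply ext_ent
  · rw [ent_mul, up_00, up_01, dg_00, dg_10]; ring
  · rw [ent_mul, up_00, up_01, dg_01, dg_11]
    field_simp
    ring
  · rw [ent_mul, up_10, up_11, dg_00, dg_10, hA]; ring
  · rw [ent_mul, up_10, up_11, dg_01, dg_11]
    field_simp
    linear_combination hd

theorem lines_le_iSup (M : NatK F (S : Subgroup G) P (zl (S : Subgroup G) P) ⊥ k) :
    lines M Set.univ ≤ ⨆ l, line M l := by
  classical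
  have key : ∀ I : Finset (Fin k), lines M (I : Set (Fin k)) ≤ ⨆ l, line M l := by
    intro I
    induction I using Finset.induction_on with
    | empty =>
      intro v hv
      have h1 : v = 1 := by
        rw [← e_eq_zero M hv.1.1]
        funext i
        exact hv.1.2 i (by simp)
      rw [h1]
      exact one_mem _
    | insert i I hi ih =>
      intro v hv
      obtain ⟨a, ha, hae, hav⟩ := exists_component M hv.1.1 i
      have h1 : a ∈ line M i := (mem_line M).2 ⟨ha, by rw [hae]; exact hv.2 i⟩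
      have h2 : a⁻¹ * v ∈ lines M (I : Set (Fin k)) := by
        have e1 : ∀ j, M.e (a⁻¹ * v) j = - M.e a j + M.e v j := fun j => by
          rw [M.mul _ (inv_mem ha.1) _ hv.1.1, e_inv M ha.1]
          rfl
        refine ⟨⟨mul_mem (inv_mem ha.1) hv.1.1, fun j hj => ?_⟩, fun j => ?_⟩
        · by_cases hji : j = i
          · rw [e1, hji, hae]; simp
          · rw [e1, ha.2 j hji, hv.1.2 j (by
              rw [Finset.coe_insert, Set.mem_insert_iff, not_or]
              exact ⟨hji, hj⟩)]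
            simp
        · rw [e1, Pi.add_apply, Pi.neg_apply, h1.2 j, hv.2 j]
          simp
      have h3 : v = a * (a⁻¹ * v) := by group
      rw [h3]
      exact mul_mem ((le_iSup (fun l => line M l) i) h1) (ih h2)
  have := key Finset.univ
  rwa [Finset.coe_univ] at this

/-- the data -/
theorem Tor.dat (hc : IsCharacteristicTwoType G) (hP : IsParS (S : Subgroup G) P) (T : Tor M t p h) :
    Dat S (LS M) (line M) h p where
  prime := T.prime
  odd := T.odd
  LS := LS_le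
  nor := S_le_normalizer_LS hP.le
  cL := cent_LS hc hP
  hL := T.nor
  hcomm l m := by
    classical
    refine act_of_eq (M := M) hc hP (mul_mem (T.mem l) (T.mem m)) (mul_mem (T.nor l) (T.nor m))
      (mul_mem (T.mem m) (T.mem l)) (mul_mem (T.nor m) (T.nor l)) (acts_mul (T.mem m) (T.act l) (T.act m)) ?_
    have h1 := acts_mul (T.mem l) (T.act m) (T.act l)
    have e : (Function.update (1 : Fin k → Matrix.SpecialLinearGroup (Fin 2) F) m (dg t T.ne_zero)) *
        (Function.update (1 : Fin k → Matrix.SpecialLinearGroup (Fin 2) F) l (dg t T.ne_zero)) =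
        (Function.update (1 : Fin k → Matrix.SpecialLinearGroup (Fin 2) F) l (dg t T.ne_zero)) *
        (Function.update (1 : Fin k → Matrix.SpecialLinearGroup (Fin 2) F) m (dg t T.ne_zero)) := by
      by_cases hlm : l = m
      · rw [hlm]
      funext i
      rw [Pi.mul_apply, Pi.mul_apply]
      by_cases hi : i = l
      · have him : i ≠ m := fun h => hlm (hi.symm.trans h)
        rw [Function.update_of_ne him, Pi.one_apply, one_mul, mul_one]
      · rw [Function.update_of_ne hi, Pi.one_apply, one_mul, mul_one]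
    rwa [e] at h1
  hp l := by
    classical
    refine act_of_eq (M := M) hc hP (pow_mem (T.mem l) p) (pow_mem (T.nor l) p) (one_mem _) (one_mem _)
      (acts_pow (T.mem l) (T.act l) p) ?_
    have e : (Function.update 1 l (dg t T.ne_zero) : Fin k → Matrix.SpecialLinearGroup (Fin 2) F) ^ p = 1 := by
      funext i
      rw [Pi.pow_apply, Pi.one_apply]
      by_cases hi : i = l
      · rw [hi, Function.update_self, dg_pow]
        apply ext_ent <;> simp [T.pow]
      · rw [Function.update_of_ne hi, Pi.one_apply, one_pow]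
    rw [e]
    exact acts_one M
  perm s hs := by
    classical
    refine ⟨sg M (hP.le hs), fun l => ?_⟩
    have hx : s * h l * s⁻¹ ∈ grp M {sg M (hP.le hs) l} := by
      have h1 := conj_grp M (hP.le hs) {l}
      rw [Set.image_singleton] at h1
      rw [← h1]
      exact conj_mem_cj' (T.mem_grp l)
    have hxN : s * h l * s⁻¹ ∈ normalizer (LS M : Set G) :=
      mul_mem (mul_mem (S_le_normalizer_LS hP.le hs) (T.nor l)) (inv_mem (S_le_normalizer_LS hP.le hs))
    set m := sg M (hP.le hs) l with hm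
    set x := s * h l * s⁻¹ with hxdef
    obtain ⟨hxP, A, hA, hA1⟩ := hx
    have htri := tri_of_norm hc hP hxP hxN hA m
    have hAp : A ^ p = 1 := by
      have h1 := acts_pow hxP hA p
      have h2 : h l ^ p ∈ centralizer (zl (S : Subgroup G) P : Set G) := by
        refine cent_of_acts (M := M) (pow_mem (T.mem l) p) ?_
        have h3 := acts_pow (T.mem l) (T.act l) p
        have e : (Function.update 1 l (dg t T.ne_zero) : Fin k → Matrix.SpecialLinearGroup (Fin 2) F) ^ p = 1 := by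
          funext i
          rw [Pi.pow_apply, Pi.one_apply]
          by_cases hi : i = l
          · rw [hi, Function.update_self, dg_pow]
            apply ext_ent <;> simp [T.pow]
          · rw [Function.update_of_ne hi, Pi.one_apply, one_pow]
        rwa [e] at h3
      have h3 : x ^ p ∈ centralizer (zl (S : Subgroup G) P : Set G) := by
        have e : x ^ p = s * h l ^ p * s⁻¹ := by
          rw [hxdef, conj_pow]
        rw [e, mem_centralizer_iff]
        intro v hv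
        have h4 := mem_centralizer_iff.1 h2 _ (IId.cj_mem' (hP.le hs) hv)
        calc v * (s * h l ^ p * s⁻¹) = s * ((s⁻¹ * v * s) * h l ^ p) * s⁻¹ := by group
          _ = s * (h l ^ p * (s⁻¹ * v * s)) * s⁻¹ := by rw [h4]
          _ = s * h l ^ p * s⁻¹ * v := by group
      exact acts_unique h1 (acts_of_cent h3)
    have hap : (ent (A m) 0 0) ^ p = 1 := by
      have h1 := ap_pow_tri htri p
      have h2 : A m ^ p = 1 := by
        have := congrFun hAp m
        rwa [Pi.pow_apply, Pi.one_apply] at this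
      rw [h2, ap_one] at h1
      exact (congrFun h1 0).symm
    have ha0 : ent (A m) 0 0 ≠ 0 := by
      intro h0
      rw [h0, zero_pow T.prime.ne_zero] at hap
      exact zero_ne_one hap
    -- `a` is a power of `t`
    have : Fact p.Prime := ⟨T.prime⟩
    have : NeZero p := ⟨T.prime.ne_zero⟩
    have hprim : IsPrimitiveRoot t p := by
      rw [IsPrimitiveRoot.iff_orderOf]
      exact orderOf_eq_prime T.pow T.ne_one
    obtain ⟨r, -, hr⟩ := hprim.eq_pow_of_pow_eq_one hap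
    refine ⟨r, ?_⟩
    set b := ent (A m) 0 1 * ent (A m) 0 0 with hb
    obtain ⟨u, hu, hub⟩ := M.unip (Function.update 0 m b)
    have huL : u ∈ LS M := mem_LS hP.le hu hub
    have huN : u ∈ normalizer (LS M : Set G) := le_normalizer huL
    have h1 : Act (zc (LS M)) x (u * h m ^ r) := by
      refine act_of_eq (M := M) hc hP hxP hxN (mul_mem (hP.le hu) (pow_mem (T.mem m) r))
        (mul_mem huN (pow_mem (T.nor m) r)) hA ?_
      have h2 := acts_mul (pow_mem (T.mem m) r) hub (acts_pow (T.mem m) (T.act m) r)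
      have e : (fun i => up ((Function.update 0 m b : Fin k → F) i)) *
          (Function.update 1 m (dg t T.ne_zero) : Fin k → Matrix.SpecialLinearGroup (Fin 2) F) ^ r = A := by
        funext i
        rw [Pi.mul_apply, Pi.pow_apply]
        by_cases hi : i = m
        · rw [hi, Function.update_self, Function.update_self, dg_pow]
          have h3 := tri_eq htri ha0
          conv_rhs => rw [h3]
          congr 1
          apply ext_ent <;> simp [hr]
        · rw [Function.update_of_ne hi, Function.update_of_ne hi, Pi.one_apply, one_pow, Pi.zero_apply, up_zero,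
            mul_one, hA1 i hi]
      rwa [e] at h2
    intro e he
    rw [h1 e he]
    have h3 : h m ^ r * e * (h m ^ r)⁻¹ ∈ zc (LS M) :=
      (mem_normalizer_iff.1 (MinSimple.VModule.normalizer_le_normalizer_zc _ (pow_mem (T.nor m) r)) e).1 he
    have h4 := (mem_zc.1 h3).2.1 u huL
    calc u * h m ^ r * e * (u * h m ^ r)⁻¹ = (u * (h m ^ r * e * (h m ^ r)⁻¹)) * u⁻¹ := by group
      _ = ((h m ^ r * e * (h m ^ r)⁻¹) * u) * u⁻¹ := by rw [h4]
      _ = h m ^ r * e * (h m ^ r)⁻¹ := by group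
  field s hs hcomm := by
    classical
    have hLE : ∀ l, line M l ≤ zc (LS M) := fun l => (lines_mono M (Set.subset_univ _)).trans (lines_le_zc hc hP)
    have hconj : ∀ l, ∀ v ∈ line M l, s * (h l * v * (h l)⁻¹) * s⁻¹ = h l * (s * v * s⁻¹) * (h l)⁻¹ := by
      intro l v hv
      have h1 := hcomm l v (hLE l hv)
      calc s * (h l * v * (h l)⁻¹) * s⁻¹ = (s * h l) * v * (s * h l)⁻¹ := by group
        _ = (h l * s) * v * (h l * s)⁻¹ := h1
        _ = h l * (s * v * s⁻¹) * (h l)⁻¹ := by group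
    have hsg : ∀ l, sg M (hP.le hs) l = l := by
      intro l
      by_contra hne
      obtain ⟨v, hv, hv1⟩ := exists_line M l
      have h1 : s * v * s⁻¹ ∈ line M (sg M (hP.le hs) l) := by
        rw [← conj_line M hP.le hs]
        exact conj_mem_cj' hv
      have h2 := T.comm_fac (l := sg M (hP.le hs) l) (m := l) hne h1.1
      have h3 := hconj l v hv
      have h4 : h l * (s * v * s⁻¹) * (h l)⁻¹ = s * v * s⁻¹ := by rw [h2]; group
      rw [h4] at h3
      have h5 : h l * v * (h l)⁻¹ = v := by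
        have h6 : s * (h l * v * (h l)⁻¹) = s * v := mul_right_cancel h3
        exact mul_left_cancel h6
      apply hv1
      refine T.fpf hv ?_
      calc h l * v = (h l * v * (h l)⁻¹) * h l := by group
        _ = v * h l := by rw [h5]
    have hsl : ∀ l, s ∈ normalizer (fac M l : Set G) := fun l => (mem_normalizer_fac_iff M (hP.le hs)).2 (hsg l)
    have key : ∀ l, ∃ b : F, ∀ v ∈ zl (S : Subgroup G) P, M.e (s * v * s⁻¹) l = ap (up b) (M.e v l) := by
      intro l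
      refine act_up hP.le T.field hs (hsl l) fun v hv w hw hvw => ?_
      have h1 : w = h l * v * (h l)⁻¹ := by
        refine ext_fac M hw.1 ?_ ?_
        · exact ((mem_normalizer_iff.1 (T.mem_nor l l) v).1 hv).1
        · rw [T.e_line hv, hvw]
      have h2 : s * v * s⁻¹ ∈ line M l := by
        have h3 : s * v * s⁻¹ ∈ line M (sg M (hP.le hs) l) := by
          rw [← conj_line M hP.le hs]
          exact conj_mem_cj' hv
        rwa [hsg] at h3
      rw [h1, hconj l v hv, T.e_line h2]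
    choose b hb using key
    refine mem_LS (M := M) hP.le hs (A := fun l => up (b l)) ⟨fun v hv i => hb i v hv, fun d hd => ?_⟩
    rw [mem_bot] at hd
    rw [hd]
    group
  ZE l := (lines_mono M (Set.subset_univ _)).trans (lines_le_zc hc hP)
  Zne l := line_ne_bot (M := M) l
  Znor l := T.mem_nor l l
  Zfpf l z hz hc := T.fpf hz hc
  Zcent l m hlm z hz := T.comm_fac hlm hz.1
  fix := (zc_S_le hc hP).trans (lines_le_iSup M)

/-- **THEOREM C, `q ≥ 4`, from the statement on the data**: if `W` centralises `Ω₁ Z(S^L)` for every 2-group `W` which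
is normalised by `S^L`, the `h l` and the stabiliser of the lines in `S`, then `CC M`. -/
theorem cc_of (hc : IsCharacteristicTwoType G) (hP : IsParS (S : Subgroup G) P) (T : Tor M t p h)
    (hmain : ∀ W : Subgroup G, IsPGroup 2 W → LS M ≤ normalizer (W : Set G) → (∀ l, h l ∈ normalizer (W : Set G)) →
      (∀ s ∈ (S : Subgroup G), (∀ l, s ∈ normalizer (line M l : Set G)) → s ∈ normalizer (W : Set G)) →
      W ≤ centralizer (zc (LS M) : Set G)) : CC M := by
  intro i l hli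
  set W := o2 (normalizer (line M i : Set G)) with hW
  have hNW : normalizer (line M i : Set G) ≤ normalizer (W : Set G) := MinSimple.VModule.le_normalizer_o2 _
  have hCW : centralizer (line M i : Set G) ≤ normalizer (W : Set G) := (centralizer_le_normalizer _).trans hNW
  have hLE : ∀ l, line M l ≤ zc (LS M) := fun l => (lines_mono M (Set.subset_univ _)).trans (lines_le_zc hc hP)
  have h1 : W ≤ centralizer (zc (LS M) : Set G) := by
    refine hmain W (MinSimple.VModule.o2_isPGroup _) (fun x hx => hCW ?_) (fun m => hNW (T.mem_nor m i))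
      fun s hs hst => hNW (hst i)
    rw [mem_centralizer_iff]
    intro v hv
    exact ((mem_zc.1 (hLE i hv)).2.1 x hx).symm
  intro v hv
  rw [mem_centralizer_iff]
  intro w hw
  by_cases hv1 : v = 1
  · rw [hv1, mul_one, one_mul]
  obtain ⟨z, hz, hz1⟩ := exists_line M l
  obtain ⟨g, hg, hgz⟩ := exists_grp M (line_le M l hz) hv hz1 hv1
  have hgW : g ∈ normalizer (W : Set G) := by
    refine hCW (mem_centralizer_iff.2 fun x hx => ?_)
    exact (grp_comm M (Set.disjoint_singleton.2 hli) hg (line_le M i hx)).symm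
  have hw' : g⁻¹ * w * g ∈ W := by
    have := (mem_normalizer_iff.1 (inv_mem hgW) w).1 hw
    rwa [inv_inv] at this
  have h2 := mem_centralizer_iff.1 (h1 hw') z (hLE l hz)
  rw [← hgz]
  calc w * (g * z * g⁻¹) = g * ((g⁻¹ * w * g) * z) * g⁻¹ := by group
    _ = g * (z * (g⁻¹ * w * g)) * g⁻¹ := by rw [h2]
    _ = g * z * g⁻¹ * w := by group

end Cfsg.Agent.Omega.ThmC.FourOf

end

section


/-!
# THEOREM C, case `q ≥ 4` (bb OMEGA 15545, helper610): from the data in `G` to the data in `N_G(E) / C_G(E)`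

* `Dat.abs` : the data `Abs` for the image of `N_G(E)` in `MulAut E`, `E = Ω₁ Z(L)`;
* `Dat.main` : a 2-subgroup `W` normalised by `L`, the `h l` and the elements of `S` which normalise every `⟨h l⟩`
  modulo `C(E)` centralises `E`;
* `Dat.main'` : the same with the stabiliser of all `Z l` in `S`;
* `cc` : `CC M` for `M : NatK F S P (zl S P) ⊥ k`, `4 ≤ |F|`.
-/

set_option autoImplicit false
set_option linter.unusedSectionVars false

namespace Cfsg.Agent.Omega.ThmC.Four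

open Subgroup Cfsg Cfsg.Agent.ZN
open Cfsg.Agent.MinSimple.VModule (mem_zc zc_le zc_comm zc_sq normalizer_le_normalizer_zc le_centralizer_zc
  zc_le_centralizer)

universe u

variable {G : Type u} [Group G] [Finite G]

/-- a proper subgroup of a 2-group is properly contained in its normaliser. -/
theorem exists_grow {T R : Subgroup G} (hT : IsPGroup 2 T) (hRT : R < T) :
    ∃ x ∈ T, x ∉ R ∧ x ∈ normalizer (R : Set G) := by
  have : Fact (Nat.Prime 2) := ⟨Nat.prime_two⟩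
  have : Group.IsNilpotent T := hT.isNilpotent
  have hne : R.subgroupOf T ≠ ⊤ := by
    intro h
    exact hRT.not_ge (subgroupOf_eq_top.1 h)
  have h1 := Group.normalizerCondition_of_isNilpotent (G := T) (R.subgroupOf T) (lt_top_iff_ne_top.2 hne)
  obtain ⟨x, hx1, hx2⟩ := SetLike.exists_of_lt h1
  refine ⟨x, x.2, fun h => hx2 (mem_subgroupOf.2 h), ?_⟩
  rw [mem_normalizer_iff] at hx1 ⊢
  intro y
  constructor
  · intro hy
    have := (hx1 ⟨y, hRT.le hy⟩).1 (mem_subgroupOf.2 hy)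
    simpa only [mem_subgroupOf, _root_.Subgroup.coe_mul, _root_.InvMemClass.coe_inv] using this
  · intro hy
    have hyT : y ∈ T := by
      have h3 : (x : G)⁻¹ * ((x : G) * y * (x : G)⁻¹) * x ∈ T :=
        mul_mem (mul_mem (inv_mem x.2) (hRT.le hy)) x.2
      have e : (x : G)⁻¹ * ((x : G) * y * (x : G)⁻¹) * x = y := by group
      rwa [e] at h3
    have := (hx1 ⟨y, hyT⟩).2 (by simpa only [mem_subgroupOf, _root_.Subgroup.coe_mul, _root_.InvMemClass.coe_inv] using hy)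
    exact mem_subgroupOf.1 this

theorem Act.symm {E : Subgroup G} {x y : G} (h : Act E x y) : Act E y x := fun e he => (h e he).symm

theorem Act.trans {E : Subgroup G} {x y z : G} (h : Act E x y) (h' : Act E y z) : Act E x z :=
  fun e he => (h e he).trans (h' e he)

namespace Dat

variable {S : Sylow 2 G} {L : Subgroup G} {k : ℕ} {Z : Fin k → Subgroup G} {h : Fin k → G} {p : ℕ}

/-- `N_G(E) → Aut(E)`. -/
noncomputable def phi (E : Subgroup G) : (normalizer (E : Set G) : Subgroup G) →* MulAut E := E.normalizerMonoidHom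

/-- The image of `N_G(E)` in `Aut(E)`. -/
noncomputable abbrev NN (E : Subgroup G) : Subgroup (MulAut E) := (phi E).range

theorem phi_apply {E : Subgroup G} (g : (normalizer (E : Set G) : Subgroup G)) (e : E) :
    ((phi E g e : E) : G) = g * e * (g : G)⁻¹ := rfl

theorem cl_surj (E : Subgroup G) : Function.Surjective (phi E).rangeRestrict := (phi E).rangeRestrict_surjective

theorem cl_eq {E : Subgroup G} {g g' : (normalizer (E : Set G) : Subgroup G)} :
    (phi E).rangeRestrict g = (phi E).rangeRestrict g' ↔ Act E (g : G) g' := by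
  constructor
  · intro hh e he
    have h1 : phi E g = phi E g' := congrArg Subtype.val hh
    have h2 := congrArg (fun f : MulAut E => ((f ⟨e, he⟩ : E) : G)) h1
    exact h2
  · intro hh
    apply Subtype.ext
    apply MulEquiv.ext
    intro e
    apply Subtype.ext
    exact hh e e.2

/-- `E = Ω₁ Z(L)` is commutative. -/
@[reducible] def commE (L : Subgroup G) : CommGroup (zc L) :=
  { (inferInstance : Group (zc L)) with mul_comm := fun a b => Subtype.ext (zc_comm L a a.2 b b.2) }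

attribute [local instance] commE

/-- The action of `NN E` on `E`, written additively. -/
def rho (L : Subgroup G) : NN (zc L) →* AddMonoid.End (Additive (zc L)) where
  toFun n := MonoidHom.toAdditive (n : MulAut (zc L)).toMonoidHom
  map_one' := rfl
  map_mul' _ _ := rfl

theorem rho_apply (L : Subgroup G) (g : (normalizer (zc L : Set G) : Subgroup G)) (e : zc L) :
    ((Additive.toMul (rho L ((phi (zc L)).rangeRestrict g) (Additive.ofMul e)) : zc L) : G) = g * e * (g : G)⁻¹ := rfl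

/-- subgroups of `E`, written additively. -/
def ad (L : Subgroup G) (X : Subgroup G) : AddSubgroup (Additive (zc L)) := Subgroup.toAddSubgroup (X.subgroupOf (zc L))

theorem mem_ad {L X : Subgroup G} {a : Additive (zc L)} : a ∈ ad L X ↔ ((Additive.toMul a : zc L) : G) ∈ X := Iff.rfl

variable (D : Dat S L Z h p)

include D

theorem S_le : (S : Subgroup G) ≤ normalizer (zc L : Set G) := D.nor.trans (normalizer_le_normalizer_zc L)

theorem h_mem (l : Fin k) : h l ∈ normalizer (zc L : Set G) := normalizer_le_normalizer_zc L (D.hL l)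

/-- the image of `h l`. -/
noncomputable abbrev hh (D : Dat S L Z h p) (l : Fin k) : NN (zc L) := (phi (zc L)).rangeRestrict ⟨h l, D.h_mem l⟩

/-- the image of `S`. -/
noncomputable abbrev SS (D : Dat S L Z h p) : Sylow 2 (NN (zc L)) :=
  haveI : Fact (Nat.Prime 2) := ⟨Nat.prime_two⟩
  (S.subtype D.S_le).mapSurjective (cl_surj (zc L))

theorem mem_SS {n : NN (zc L)} : n ∈ (D.SS : Subgroup (NN (zc L))) ↔
    ∃ s, ∃ hs : s ∈ (S : Subgroup G), (phi (zc L)).rangeRestrict ⟨s, D.S_le hs⟩ = n := by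
  constructor
  · rintro ⟨s, hs, rfl⟩
    exact ⟨s, hs, rfl⟩
  · rintro ⟨s, hs, rfl⟩
    exact ⟨⟨s, D.S_le hs⟩, hs, rfl⟩

/-- **the data in `N_G(E) / C_G(E)`** -/
theorem abs : Abs (rho L) D.SS D.hh (fun l => ad L (Z l)) p where
  two a := by
    apply Additive.toMul.injective
    apply Subtype.ext
    have h1 := zc_sq L _ (Additive.toMul a).2
    rw [pow_two] at h1
    exact h1
  inj := by
    intro a b hab
    apply Subtype.ext
    apply MulEquiv.ext
    intro e
    exact congrArg (fun f : AddMonoid.End (Additive (zc L)) => Additive.toMul (f (Additive.ofMul e))) hab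
  prime := D.prime
  odd := D.odd
  hcomm l m := by
    rw [← map_mul, ← map_mul, cl_eq]
    exact D.hcomm l m
  hp l := by
    rw [← map_pow, ← map_one (phi (zc L)).rangeRestrict, cl_eq]
    exact D.hp l
  perm := by
    intro s hs'
    obtain ⟨s, hs, rfl⟩ := D.mem_SS.1 hs'
    obtain ⟨σ, hσ⟩ := D.perm s hs
    refine ⟨σ, fun l => ?_⟩
    obtain ⟨r, hr⟩ := hσ l
    refine ⟨r, ?_⟩
    rw [← map_mul, ← map_inv, ← map_mul, ← map_pow, cl_eq]
    exact hr
  field := by
    intro s hs' hc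
    obtain ⟨s, hs, rfl⟩ := D.mem_SS.1 hs'
    have h1 : s ∈ L := D.field s hs fun l => by
      have := hc l
      rw [← map_mul, ← map_mul, cl_eq] at this
      exact this
    rw [← map_one (phi (zc L)).rangeRestrict, cl_eq]
    intro e he
    have h2 := (mem_zc.1 he).2.1 s h1
    simp [h2]
  Zne l hl := by
    apply D.Zne l
    rw [eq_bot_iff]
    intro z hz
    have h1 : Additive.ofMul (⟨z, D.ZE l hz⟩ : zc L) ∈ ad L (Z l) := hz
    rw [hl, AddSubgroup.mem_bot] at h1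
    have h2 := congrArg (fun a : Additive (zc L) => ((Additive.toMul a : zc L) : G)) h1
    exact h2
  Znor l z hz := by
    rw [mem_ad] at hz ⊢
    exact ((mem_normalizer_iff.1 (D.Znor l)) _).1 hz
  Zfpf l z hz hfix := by
    apply Additive.toMul.injective
    apply Subtype.ext
    refine D.Zfpf l _ hz ?_
    have h1 := congrArg (fun a : Additive (zc L) => ((Additive.toMul a : zc L) : G)) hfix
    have h2 : h l * ((Additive.toMul z : zc L) : G) * (h l)⁻¹ = ((Additive.toMul z : zc L) : G) := h1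
    rw [← h2]
    simp only [h2]
    rw [mul_inv_eq_iff_eq_mul] at h2
    exact h2
  Zcent l m hlm z hz := by
    apply Additive.toMul.injective
    apply Subtype.ext
    have h1 : h m * ((Additive.toMul z : zc L) : G) = ((Additive.toMul z : zc L) : G) * h m := D.Zcent l m hlm _ hz
    change h m * ((Additive.toMul z : zc L) : G) * (h m)⁻¹ = ((Additive.toMul z : zc L) : G)
    rw [h1, mul_inv_cancel_right]
  fix a ha := by
    have h1 : ((Additive.toMul a : zc L) : G) ∈ zc (S : Subgroup G) := by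
      refine mem_zc.2 ⟨D.LS (zc_le L (Additive.toMul a).2), fun s hs => ?_, zc_sq L _ (Additive.toMul a).2⟩
      have h2 := ha _ (D.mem_SS.2 ⟨s, hs, rfl⟩)
      have h3 := congrArg (fun a : Additive (zc L) => ((Additive.toMul a : zc L) : G)) h2
      have h4 : s * ((Additive.toMul a : zc L) : G) * s⁻¹ = ((Additive.toMul a : zc L) : G) := h3
      rw [mul_inv_eq_iff_eq_mul] at h4
      exact h4
    have h2 := D.fix h1
    have h3 : (⨆ l, Z l) ≤ (AddSubgroup.toSubgroup' (⨆ l, ad L (Z l))).map (zc L).subtype := by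
      refine iSup_le fun l z hz => ?_
      exact ⟨⟨z, D.ZE l hz⟩, (le_iSup (fun l => ad L (Z l)) l) (show Additive.ofMul (⟨z, D.ZE l hz⟩ : zc L) ∈ _ from hz),
        rfl⟩
    obtain ⟨b, hb, hb'⟩ := h3 h2
    have h4 : b = Additive.toMul a := Subtype.ext hb'
    rw [h4] at hb
    exact hb

/-- **THEOREM C, case `q ≥ 4`, on the data**: a 2-subgroup `W` normalised by `L`, the `h l` and the elements of `S`
which normalise all `⟨h l⟩` modulo `C(E)` centralises `E = Ω₁ Z(L)`. -/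
theorem main {W : Subgroup G} (hW : IsPGroup 2 W) (hLW : L ≤ normalizer (W : Set G))
    (hhW : ∀ l, h l ∈ normalizer (W : Set G))
    (hSW : ∀ s ∈ (S : Subgroup G), (∀ l, ∃ r : ℕ, Act (zc L) (s * h l * s⁻¹) (h l ^ r)) →
      s ∈ normalizer (W : Set G)) : W ≤ centralizer (zc L : Set G) := by
  by_contra hcon
  -- `L` is a 2-group
  have hL2 : IsPGroup 2 L := S.isPGroup'.to_le D.LS
  have hWL : IsPGroup 2 (W ⊔ L : Subgroup G) := by
    have := IsPGroup.to_sup_of_normal_left' hW hL2 hLW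
    exact this
  have hLC : L ≤ centralizer (zc L : Set G) := le_centralizer_zc L
  -- `K = C_W(E)`
  set K : Subgroup G := W ⊓ centralizer (zc L : Set G) with hK
  have hKL : K ⊔ L < W ⊔ L := by
    refine lt_of_le_of_ne (sup_le_sup_right inf_le_left L) fun he => hcon ?_
    have h1 : K ⊔ L ≤ centralizer (zc L : Set G) := sup_le inf_le_right hLC
    exact (le_sup_left.trans he.ge).trans h1
  obtain ⟨x, hx, hxK, hxn⟩ := exists_grow hWL hKL
  obtain ⟨w, hw, l, hl, rfl⟩ : ∃ w ∈ W, ∃ l ∈ L, w * l = x := by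
    have h1 : x ∈ ((W ⊔ L : Subgroup G) : Set G) := hx
    rw [coe_mul_of_right_le_normalizer_left W L hLW] at h1
    obtain ⟨a, ha, b, hb, hab⟩ := h1
    exact ⟨a, ha, b, hb, hab⟩
  have hln : l ∈ normalizer ((K ⊔ L : Subgroup G) : Set G) := le_normalizer (mem_sup_right hl)
  have hwn : w ∈ normalizer ((K ⊔ L : Subgroup G) : Set G) := by
    have := mul_mem hxn (inv_mem hln)
    rwa [mul_inv_cancel_right] at this
  have hwK : w ∉ centralizer (zc L : Set G) := by
    intro hwc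
    exact hxK (mul_mem (mem_sup_left ⟨hw, hwc⟩) (mem_sup_right hl))
  have hzc : zc (K ⊔ L) = zc L := by
    apply le_antisymm
    · intro e he
      have h1 := mem_zc.1 he
      have h2 : e ∈ L := D.cL (mem_centralizer_iff.2 fun y hy => h1.2.1 y (mem_sup_right hy))
      exact mem_zc.2 ⟨h2, fun b hb => h1.2.1 b (mem_sup_right hb), h1.2.2⟩
    · intro e he
      have h1 := mem_zc.1 he
      refine mem_zc.2 ⟨mem_sup_right h1.1, fun b hb => ?_, h1.2.2⟩
      have h2 : b ∈ centralizer (zc L : Set G) := (sup_le inf_le_right hLC : K ⊔ L ≤ _) hb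
      exact (mem_centralizer_iff.1 h2 e he).symm
  have hwE : w ∈ normalizer (zc L : Set G) := by
    have := normalizer_le_normalizer_zc _ hwn
    rwa [hzc] at this
  -- the image of `N_W(E)`
  set WW : Subgroup (NN (zc L)) := (W.subgroupOf (normalizer (zc L : Set G))).map (phi (zc L)).rangeRestrict with hWW
  have hmem : ∀ {y : G} (hy : y ∈ normalizer (zc L : Set G)), y ∈ normalizer (W : Set G) →
      (phi (zc L)).rangeRestrict ⟨y, hy⟩ ∈ normalizer (WW : Set (NN (zc L))) := by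
    intro y hy hyW
    have key : ∀ {y : G} (hy : y ∈ normalizer (zc L : Set G)), y ∈ normalizer (W : Set G) → ∀ n ∈ WW,
        (phi (zc L)).rangeRestrict ⟨y, hy⟩ * n * ((phi (zc L)).rangeRestrict ⟨y, hy⟩)⁻¹ ∈ WW := by
      rintro y hy hyW _ ⟨v, hv, rfl⟩
      rw [← map_inv, ← map_mul, ← map_mul]
      exact mem_map_of_mem _ ((mem_normalizer_iff.1 hyW v).1 hv)
    rw [mem_normalizer_iff]
    intro n
    refine ⟨key hy hyW n, fun hn => ?_⟩
    have h1 := key (inv_mem hy) (inv_mem hyW) _ hn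
    have h2 : (phi (zc L)).rangeRestrict ⟨y⁻¹, inv_mem hy⟩ = ((phi (zc L)).rangeRestrict ⟨y, hy⟩)⁻¹ := by
      rw [← map_inv]; rfl
    rw [h2] at h1
    have e : ((phi (zc L)).rangeRestrict ⟨y, hy⟩)⁻¹ * ((phi (zc L)).rangeRestrict ⟨y, hy⟩ * n *
      ((phi (zc L)).rangeRestrict ⟨y, hy⟩)⁻¹) * ((phi (zc L)).rangeRestrict ⟨y, hy⟩)⁻¹⁻¹ = n := by group
    rwa [e] at h1
  have hWW2 : IsPGroup 2 WW := (hW.comap_of_injective _ (subtype_injective _)).map _
  have hbot := D.abs.main (W := WW) hWW2 (fun l => hmem (D.h_mem l) (hhW l)) (by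
    intro s hs' hc
    obtain ⟨s, hs, rfl⟩ := D.mem_SS.1 hs'
    refine hmem (D.S_le hs) (hSW s hs fun l => ?_)
    obtain ⟨r, hr⟩ := hc l
    refine ⟨r, ?_⟩
    rw [← map_mul, ← map_inv, ← map_mul, ← map_pow, cl_eq] at hr
    exact hr)
  apply hwK
  have h1 : (phi (zc L)).rangeRestrict ⟨w, hwE⟩ ∈ WW := mem_map_of_mem _ (show w ∈ W from hw)
  rw [hbot, mem_bot, ← map_one (phi (zc L)).rangeRestrict, cl_eq] at h1
  rw [mem_centralizer_iff]
  intro e he
  have h2 := h1 e he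
  simp only [OneMemClass.coe_one, one_mul, inv_one, mul_one] at h2
  rw [mul_inv_eq_iff_eq_mul] at h2
  exact h2.symm

/-- the same with the stabiliser of all `Z l`. -/
theorem main' (hZ : ∀ s ∈ (S : Subgroup G), ∀ l, ∃ m, ∀ v, v ∈ Z l ↔ s * v * s⁻¹ ∈ Z m) {W : Subgroup G}
    (hW : IsPGroup 2 W) (hLW : L ≤ normalizer (W : Set G)) (hhW : ∀ l, h l ∈ normalizer (W : Set G))
    (hSW : ∀ s ∈ (S : Subgroup G), (∀ l, s ∈ normalizer (Z l : Set G)) → s ∈ normalizer (W : Set G)) :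
    W ≤ centralizer (zc L : Set G) := by
  refine D.main hW hLW hhW fun s hs hc => hSW s hs fun l => ?_
  obtain ⟨m, hm⟩ := hZ s hs l
  have hml : m = l := by
    by_contra hne
    obtain ⟨r, hr⟩ := hc l
    apply D.Zne l
    rw [eq_bot_iff]
    intro v hv
    rw [mem_bot]
    refine D.Zfpf l v hv ?_
    have h1 := hr _ (D.ZE m ((hm v).1 hv))
    have h2 : ∀ n : ℕ, h l ^ n * (s * v * s⁻¹) * (h l ^ n)⁻¹ = s * v * s⁻¹ := by
      intro n
      induction n with
      | zero => group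
      | succ n ih =>
        have h3 := D.Zcent m l hne _ ((hm v).1 hv)
        calc h l ^ (n + 1) * (s * v * s⁻¹) * (h l ^ (n + 1))⁻¹
            = h l ^ n * (h l * (s * v * s⁻¹) * (h l)⁻¹) * (h l ^ n)⁻¹ := by rw [pow_succ]; group
          _ = s * v * s⁻¹ := by rw [h3, mul_inv_cancel_right, ih]
    rw [h2 r] at h1
    have h4 : s * (h l * v * (h l)⁻¹) * s⁻¹ = s * v * s⁻¹ := by
      calc s * (h l * v * (h l)⁻¹) * s⁻¹ = s * h l * s⁻¹ * (s * v * s⁻¹) * (s * h l * s⁻¹)⁻¹ := by group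
        _ = s * v * s⁻¹ := h1
    have h5 : h l * v * (h l)⁻¹ = v := by
      have := mul_right_cancel (mul_left_cancel (a := s) (b := h l * v * (h l)⁻¹ * s⁻¹) (c := v * s⁻¹) (by
        rw [← mul_assoc, h4, mul_assoc]))
      exact this
    rw [mul_inv_eq_iff_eq_mul] at h5
    exact h5
  rw [hml] at hm
  rw [mem_normalizer_iff]
  exact hm

end Dat

end Cfsg.Agent.Omega.ThmC.Four

namespace Cfsg.Agent.Omega.ThmC.FourOf

open Subgroup Cfsg Cfsg.Agent.ZN Cfsg.Agent.Omega.IId Cfsg.Agent.Omega.ThmC.Four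
open Cfsg.Agent.ZN.ChoiceBase hiding mem_zc
open Cfsg.Agent.Omega.MinPar Cfsg.Agent.Omega.FFThm

universe u

variable {G : Type u} [Group G] [Finite G] {F : Type} [Field F] [Finite F] [CharP F 2] {S : Sylow 2 G}
  {P : Subgroup G} {k : ℕ}

/-- **THEOREM C, case `q ≥ 4`.** -/
theorem cc (hc : IsCharacteristicTwoType G) (hP : IsParS (S : Subgroup G) P)
    (M : NatK F (S : Subgroup G) P (zl (S : Subgroup G) P) ⊥ k) (hF : 4 ≤ Nat.card F) : CC M := by
  obtain ⟨t, p, h, T⟩ := exists_tor (M := M) hc hP hF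
  refine cc_of hc hP T fun W h1 h2 h3 h4 => (T.dat hc hP).main' (fun s hs l => ⟨sg M (hP.le hs) l, fun v => ?_⟩)
    h1 h2 h3 h4
  have h5 := conj_line M hP.le hs l
  have h6 : s * v * s⁻¹ ∈ cj s (line M l) ↔ v ∈ line M l := by
    rw [mem_cj_iff]
    have e : s⁻¹ * (s * v * s⁻¹) * s = v := by group
    rw [e]
  rw [← h5]
  exact h6.symm

end Cfsg.Agent.Omega.ThmC.FourOf

end

section


/-!
# A 2-group `X ≤ N_S(V_i)` which is not trivial on some line `R_l`, `l ≠ i` (helper156; text #19381 (i), (ii))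

There are `n`, `b ≠ 1` in `V^i = ∏_{l ≠ i} V_l` with `[n, X] = {1, b}`.  If `X` normalises `V_l`, then `X` acts on `R_l`
semilinearly, and `|C_{R_l}(N)| = |C_{R_l}(X)|²` for a subgroup `N ≥ C_X(R_l)` of index two (`SemiLine.card_eq`); otherwise
`N ≥ N_X(V_l)` of index two, and `n` is a fixed point of `N` on the sum of the `V_j`, `j ∈ l^N`.
-/

set_option autoImplicit false
set_option linter.unusedSectionVars false

namespace Cfsg.Agent.Omega.IId.BigFour.Orbit2

open Subgroup Cfsg Cfsg.Agent.ZN Cfsg.Agent.Omega.IId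
open Cfsg.Agent.ZN.ChoiceBase hiding mem_zc
open Cfsg.Agent.Omega.MinPar Cfsg.Agent.Omega.FFThm
open Cfsg.Agent.MinSimple.VModule (le_normalizer_zl mem_zc zc_le zc_le_zl)
open Cfsg.Agent.Omega.IId.SemiLine

universe u

/-! ### 2-groups -/

/-- A proper subgroup of a 2-group lies in a subgroup of index 2. -/
theorem exists_index_two {G : Type*} [Group G] [Finite G] {X Y : Subgroup G} (hX : IsPGroup 2 X) (hY : Y ≤ X)
    (hne : Y ≠ X) : ∃ N : Subgroup G, Y ≤ N ∧ N ≤ X ∧ N.relIndex X = 2 := by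
  have := Fact.mk Nat.prime_two
  obtain ⟨n, hn⟩ := IsPGroup.iff_card.1 hX
  have hY2 : IsPGroup 2 (Y.subgroupOf X) := hX.to_subgroup _
  obtain ⟨m, hm⟩ := IsPGroup.iff_card.1 hY2
  have hidx1 : Y.relIndex X ≠ 1 := by
    intro h
    exact hne (le_antisymm hY (relIndex_eq_one.1 h))
  have hcard : Nat.card (Y.subgroupOf X) * Y.relIndex X = Nat.card X := card_mul_index _
  have hmn : m < n := by
    have hpos : 0 < Y.relIndex X := Nat.pos_of_ne_zero (index_ne_zero_of_finite)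
    rw [hm, hn] at hcard
    have h1 : 2 ^ m < 2 ^ n := by
      rw [← hcard]
      have : 2 ≤ Y.relIndex X := by omega
      calc 2 ^ m < 2 ^ m * 2 := by
            have : 0 < 2 ^ m := by positivity
            omega
        _ ≤ 2 ^ m * Y.relIndex X := Nat.mul_le_mul_left _ this
    exact (Nat.pow_lt_pow_iff_right (by norm_num)).1 h1
  obtain ⟨K, hK, hHK⟩ := Sylow.exists_subgroup_card_pow_prime_le (G := X) 2 (n := m) (m := n - 1)
    (by rw [hn]; exact pow_dvd_pow 2 (by omega)) (Y.subgroupOf X) hm (by omega)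
  have hidx : K.index = 2 := by
    have h1 := K.card_mul_index
    rw [hK, hn] at h1
    have h2 : 2 ^ n = 2 ^ (n - 1) * 2 := by
      rw [← pow_succ]
      congr 1
      omega
    rw [h2] at h1
    exact Nat.eq_of_mul_eq_mul_left (by positivity) h1
  refine ⟨K.map X.subtype, ?_, ?_, ?_⟩
  · intro h hh
    exact ⟨⟨h, hY hh⟩, hHK (by rw [mem_subgroupOf]; exact hh), rfl⟩
  · rintro _ ⟨k, _, rfl⟩
    exact k.2
  · have h3 : (K.map X.subtype).subgroupOf X = K := by
      ext x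
      rw [mem_subgroupOf, mem_map]
      constructor
      · rintro ⟨y, hy, he⟩
        have : y = x := Subtype.ext he
        rwa [← this]
      · intro hx
        exact ⟨x, hx, rfl⟩
    rw [relIndex, h3, hidx]

/-- If `N` has index 2 in `X` and centralises `n`, then `[n, X] ⊆ {1, [n, x₀]}`. -/
theorem two_values {G : Type*} [Group G] {X N : Subgroup G} (h2 : N.relIndex X = 2) {n x₀ : G}
    (hN : ∀ y ∈ N, y * n * y⁻¹ = n) (hx₀ : x₀ ∈ X) (hne : x₀ * n * x₀⁻¹ ≠ n) :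
    ∀ x ∈ X, n * x * n⁻¹ * x⁻¹ = 1 ∨ n * x * n⁻¹ * x⁻¹ = n * x₀ * n⁻¹ * x₀⁻¹ := by
  intro x hx
  have hx₀N : x₀ ∉ N := fun h => hne (hN _ h)
  have hc : ∀ y ∈ N, y * n⁻¹ * y⁻¹ = n⁻¹ := by
    intro y hy
    have := hN y hy
    calc y * n⁻¹ * y⁻¹ = (y * n * y⁻¹)⁻¹ := by group
      _ = n⁻¹ := by rw [this]
  by_cases hxN : x ∈ N
  · left
    have h3 := hc x hxN
    calc n * x * n⁻¹ * x⁻¹ = n * (x * n⁻¹ * x⁻¹) := by group
      _ = 1 := by rw [h3, mul_inv_cancel]
  · right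
    have h3 : x₀⁻¹ * x ∈ N := by
      have h4 := (mul_mem_iff_of_index_two (H := N.subgroupOf X) h2 (a := ⟨x₀⁻¹, inv_mem hx₀⟩) (b := ⟨x, hx⟩))
      rw [mem_subgroupOf, mem_subgroupOf, mem_subgroupOf] at h4
      refine h4.2 ⟨fun h => absurd (by simpa using h) hx₀N, fun h => absurd h hxN⟩
    have h5 := hc _ h3
    have e : x = x₀ * (x₀⁻¹ * x) := by group
    calc n * x * n⁻¹ * x⁻¹ = n * x₀ * ((x₀⁻¹ * x) * n⁻¹ * (x₀⁻¹ * x)⁻¹) * x₀⁻¹ := by group
      _ = n * x₀ * n⁻¹ * x₀⁻¹ := by rw [h5]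

variable {G : Type u} [Group G] [Finite G] {F : Type} [Field F] [Finite F] [CharP F 2] {S : Sylow 2 G}
  {P : Subgroup G} {k : ℕ} (M : NatK F (S : Subgroup G) P (zl (S : Subgroup G) P) ⊥ k)

/-! ### The coordinates of a line -/

/-- coordinates on `line M l` -/
noncomputable def lineF (l : Fin k) : LineF F (line M l) where
  e x := (exists_fac M l ![x, 0]).choose
  add x y := by
    have hx := (exists_fac M l ![x, 0]).choose_spec
    have hy := (exists_fac M l ![y, 0]).choose_spec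
    have hxy := (exists_fac M l ![x + y, 0]).choose_spec
    refine ext_fac M hxy.1 (mul_mem hx.1 hy.1) ?_
    rw [hxy.2, M.mul _ hx.1.1 _ hy.1.1, Pi.add_apply, hx.2, hy.2]
    ext j
    fin_cases j <;> simp
  inj x y h := by
    have hx := (exists_fac M l ![x, 0]).choose_spec
    have hy := (exists_fac M l ![y, 0]).choose_spec
    have h1 := hx.2.symm.trans ((congrArg (fun g => M.e g l) h).trans hy.2)
    exact congrFun h1 0
  mem g := by
    constructor
    · intro hg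
      rw [mem_line] at hg
      refine ⟨M.e g l 0, ?_⟩
      have hx := (exists_fac M l ![M.e g l 0, 0]).choose_spec
      refine ext_fac M hx.1 hg.1 ?_
      rw [hx.2]
      ext j
      fin_cases j
      · rfl
      · simpa using hg.2.symm
    · rintro ⟨x, rfl⟩
      have hx := (exists_fac M l ![x, 0]).choose_spec
      rw [mem_line]
      refine ⟨hx.1, ?_⟩
      rw [hx.2]
      rfl

theorem lineF_spec (l : Fin k) (x : F) : (lineF M l).e x ∈ fac M l ∧ M.e ((lineF M l).e x) l = ![x, 0] :=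
  (exists_fac M l ![x, 0]).choose_spec

/-- The elements of `stab M l` act semilinearly on the line. -/
theorem semi (hSP : (S : Subgroup G) ≤ P) {l : Fin k} {s : G} (hs : s ∈ stab M l) : (lineF M l).Semi s := by
  obtain ⟨τ, hτ⟩ := ThmC.FourOf.exists_tau (M := M) (hSP hs.1) hs.2
  have hline : ∀ v ∈ line M l, s * v * s⁻¹ ∈ line M l := fun v hv =>
    (mem_normalizer_iff.1 (stab_normalizes_line M hSP l hs) v).1 hv
  have h1 := lineF_spec M l 1
  have h1l : (lineF M l).e 1 ∈ line M l := (lineF M l).e_mem 1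
  have h2 := hline _ h1l
  rw [mem_line] at h2
  refine ⟨M.e (s * (lineF M l).e 1 * s⁻¹) l 0, τ, fun x => ?_⟩
  have hx := lineF_spec M l x
  have hxl : (lineF M l).e x ∈ line M l := (lineF M l).e_mem x
  have h3 := hline _ hxl
  rw [mem_line] at h3
  have h4 := lineF_spec M l (M.e (s * (lineF M l).e 1 * s⁻¹) l 0 * τ x)
  refine ext_fac M h3.1 h4.1 ?_
  have h5 := hτ _ h1.1 _ hx.1 x (by
    rw [hx.2, h1.2]
    ext j
    fin_cases j <;> simp)
  rw [h4.2, h5]
  ext j
  fin_cases j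
  · simp only [mul_comm, _root_.Fin.zero_eta, _root_.Fin.isValue, _root_.Pi.smul_apply, _root_.smul_eq_mul, _root_.Nat.succ_eq_add_one, _root_.Nat.reduceAdd, _root_.Matrix.cons_val_zero]
  · simp [h2.2]

/-- **Case 1**: `X` normalises `V_l`. -/
theorem exists_one (hSP : (S : Subgroup G) ≤ P) {l : Fin k} {X : Subgroup G} (hX : X ≤ stab M l)
    (hne : ∃ r ∈ line M l, ∃ x ∈ X, x * r * x⁻¹ ≠ r) :
    ∃ N : Subgroup G, N ≤ X ∧ N.relIndex X = 2 ∧ ∃ n ∈ line M l, (∀ y ∈ N, y * n * y⁻¹ = n) ∧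
      ∃ x₀ ∈ X, x₀ * n * x₀⁻¹ ≠ n := by
  have hX2 : IsPGroup 2 X := S.isPGroup'.to_le (hX.trans (stab_le M l))
  obtain ⟨r, hr, x, hx, hxr⟩ := hne
  set R := line M l with hR
  set C := X ⊓ centralizer (R : Set G) with hC
  have hCX : C ≠ X := by
    intro h
    have h1 : x ∈ C := by rw [h]; exact hx
    have h2 := mem_centralizer_iff.1 h1.2 r hr
    apply hxr
    rw [← h2, mul_inv_cancel_right]
  obtain ⟨N, hCN, hNX, hN2⟩ := exists_index_two hX2 inf_le_left hCX
  refine ⟨N, hNX, hN2, ?_⟩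
  have hsX : ∀ a ∈ X, (lineF M l).Semi a := fun a ha => semi M hSP (hX ha)
  have e1 := (lineF M l).card_eq X hsX hX2
  have e2 := (lineF M l).card_eq N (fun a ha => hsX a (hNX ha)) (hX2.to_le hNX)
  have hCC : N ⊓ centralizer (R : Set G) = C := by
    apply le_antisymm
    · exact inf_le_inf_right _ hNX
    · exact le_inf hCN inf_le_right
  rw [← hR] at e1 e2
  rw [hCC] at e2
  rw [← hC] at e1
  have h3 : C.relIndex N * N.relIndex X = C.relIndex X := relIndex_mul_relIndex C N X hCN hNX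
  rw [hN2] at h3
  have hpos : 0 < C.relIndex N := Nat.pos_of_ne_zero index_ne_zero_of_finite
  set a := Nat.card ↥(R ⊓ centralizer (X : Set G)) with ha
  set b := Nat.card ↥(R ⊓ centralizer (N : Set G)) with hb
  have h4 : b ^ C.relIndex N = (a * a) ^ C.relIndex N := by
    rw [← e2, e1, ← h3, mul_comm (C.relIndex N) 2, pow_mul, pow_two]
  have h5 : b = a * a := Nat.pow_left_injective hpos.ne' h4
  have ha1 : a ≠ 1 := by
    intro h
    rw [h, one_pow] at e1
    have h6 : R = ⊥ := Subgroup.card_eq_one.1 e1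
    rw [h6, mem_bot] at hr
    apply hxr
    rw [hr]; group
  have hapos : 0 < a := Nat.card_pos
  have hab : a < b := by
    rw [h5]
    have : 2 ≤ a := by omega
    nlinarith only [this]
  obtain ⟨n, hn, hn'⟩ : ∃ n ∈ R ⊓ centralizer (N : Set G), n ∉ R ⊓ centralizer (X : Set G) := by
    by_contra hcon
    push Not at hcon
    have : b ≤ a := Nat.card_le_card_of_injective (inclusion hcon) (inclusion_injective hcon)
    omega
  refine ⟨n, hn.1, fun y hy => ?_, ?_⟩
  · have := mem_centralizer_iff.1 hn.2 y hy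
    rw [this, mul_inv_cancel_right]
  · by_contra hcon
    push Not at hcon
    apply hn'
    refine ⟨hn.1, mem_centralizer_iff.2 fun y hy => ?_⟩
    have := hcon y hy
    calc y * n = y * n * y⁻¹ * y := by group
      _ = n * y := by rw [this]

/-- A 2-group which normalises a nontrivial 2-group has a nontrivial fixed point. -/
theorem exists_fix {N W : Subgroup G} (hN : IsPGroup 2 N) (hW : IsPGroup 2 W) (hne : W ≠ ⊥)
    (hn : N ≤ normalizer (W : Set G)) : ∃ n ∈ W, n ≠ 1 ∧ ∀ y ∈ N, y * n * y⁻¹ = n := by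
  have := Fact.mk Nat.prime_two
  let act : MulAction N W :=
    { smul := fun y w => ⟨(y : G) * w * (y : G)⁻¹, (mem_normalizer_iff.1 (hn y.2) _).1 w.2⟩
      one_smul := fun w => Subtype.ext (by change (1 : G) * w * (1 : G)⁻¹ = w; group)
      mul_smul := fun a b w => Subtype.ext (by
        change ((a * b : N) : G) * w * ((a * b : N) : G)⁻¹ = a * (b * w * (b : G)⁻¹) * (a : G)⁻¹
        rw [Subgroup.coe_mul]; group) }
  have hdvd : 2 ∣ Nat.card W := by
    obtain ⟨m, hm⟩ := IsPGroup.iff_card.1 hW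
    rcases Nat.eq_zero_or_pos m with h0 | h0
    · rw [h0, pow_zero] at hm
      exact absurd (Subgroup.card_eq_one.1 hm) hne
    · rw [hm]; exact dvd_pow_self 2 h0.ne'
  have h0 : (1 : W) ∈ MulAction.fixedPoints N W := by
    intro a
    apply Subtype.ext
    change (a : G) * 1 * (a : G)⁻¹ = 1
    group
  obtain ⟨b, hb, hb0⟩ := hN.exists_fixed_point_of_prime_dvd_card_of_fixed_point W hdvd h0
  refine ⟨b, b.2, fun h => hb0.symm (Subtype.ext h), fun y hy => ?_⟩
  exact congrArg Subtype.val (hb ⟨y, hy⟩)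

/-- **Case 2**: `X` does not normalise `V_l`. -/
theorem exists_two (hSP : (S : Subgroup G) ≤ P) {i l : Fin k} (hl : l ≠ i) {X : Subgroup G} (hX : X ≤ stab M i)
    (hne : ¬ X ≤ normalizer (fac M l : Set G)) :
    ∃ N : Subgroup G, N ≤ X ∧ N.relIndex X = 2 ∧ ∃ n ∈ part M {i}ᶜ, (∀ y ∈ N, y * n * y⁻¹ = n) ∧
      ∃ x₀ ∈ X, x₀ * n * x₀⁻¹ ≠ n := by
  have hXS : X ≤ S := hX.trans (stab_le M i)
  have hX2 : IsPGroup 2 X := S.isPGroup'.to_le hXS
  obtain ⟨N, hYN, hNX, hN2⟩ := exists_index_two (Y := X ⊓ normalizer (fac M l : Set G)) hX2 inf_le_left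
    (fun h => hne (inf_eq_left.1 h))
  refine ⟨N, hNX, hN2, ?_⟩
  have hXP : X ≤ P := hXS.trans hSP
  have hNP : N ≤ P := hNX.trans hXP
  -- the orbit
  set O : Set (Fin k) := {j | ∃ (y : G) (hy : y ∈ N), sg M (hNP hy) l = j} with hO
  have hlO : l ∈ O := ⟨1, one_mem _, by rw [sg_eq_iff]; exact cj_one _⟩
  have hsgmul : ∀ {a b : G} (ha : a ∈ P) (hb : b ∈ P) (j : Fin k), sg M (mul_mem ha hb) j = sg M ha (sg M hb j) := by
    intro a b ha hb j
    rw [sg_eq_iff, ← cj_cj, conj_fac M hb, conj_fac M ha]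
  have hmove : ∀ {y : G} (hy : y ∈ N) {j : Fin k}, j ∈ O → sg M (hNP hy) j ∈ O := by
    rintro y hy j ⟨x, hx, rfl⟩
    exact ⟨y * x, mul_mem hy hx, hsgmul _ _ _⟩
  have hiO : O ⊆ {i}ᶜ := by
    rintro j ⟨y, hy, rfl⟩ hj
    have hyi : sg M (hNP hy) i = i := (mem_normalizer_fac_iff M (hNP hy)).1 (hX (hNX hy)).2
    rw [Set.mem_singleton_iff] at hj
    exact hl ((sg M (hNP hy)).injective (hj.trans hyi.symm))
  have hnorm : N ≤ normalizer (part M O : Set G) := by
    intro y hy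
    rw [mem_normalizer_iff_cj, conj_part M (hNP hy)]
    congr 1
    apply Set.eq_of_subset_of_ncard_le
    · rintro _ ⟨j, hj, rfl⟩
      exact hmove hy hj
    · rw [Set.ncard_image_of_injective _ (sg M (hNP hy)).injective]
    · exact Set.toFinite _
  have hW : IsPGroup 2 (part M O) := by
    have h1 : IsPGroup 2 (zl (S : Subgroup G) P) := by
      intro v
      refine ⟨1, Subtype.ext ?_⟩
      have := sq M v.2
      change (v : G) ^ 2 ^ 1 = 1
      rw [pow_one, pow_two]; exact this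
    exact h1.to_le (part_le M O)
  have hWne : part M O ≠ ⊥ := by
    intro h
    have h1 : fac M l ≤ ⊥ := h ▸ part_mono M (Set.singleton_subset_iff.2 hlO)
    exact fac_ne_bot M l (le_bot_iff.1 h1)
  obtain ⟨n, hn, hn1, hfix⟩ := exists_fix (hX2.to_le hNX) hW hWne hnorm
  have hnV : n ∈ zl (S : Subgroup G) P := hn.1
  -- all the components in the orbit are nontrivial
  have hcomp : M.e n l ≠ 0 := by
    intro h
    apply hn1
    rw [← e_eq_zero M hnV]
    funext j
    by_cases hj : j ∈ O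
    · obtain ⟨y, hy, rfl⟩ := hj
      have h1 := (sg_spec M (hNP hy) hnV l).2 h
      rwa [hfix y hy] at h1
    · exact hn.2 j hj
  refine ⟨n, part_mono M hiO hn, hfix, ?_⟩
  -- an element outside `N`
  obtain ⟨x, hx, hxN⟩ : ∃ x ∈ X, x ∉ N := by
    by_contra hcon
    push Not at hcon
    have h1 : N.relIndex X = 1 := relIndex_eq_one.2 hcon
    omega
  refine ⟨x, hx, fun h => hxN ?_⟩
  have h1 : sg M (hXP hx) l ∈ O := by
    by_contra hj
    have h2 := hn.2 _ hj
    rw [← h] at h2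
    exact hcomp ((sg_spec M (hXP hx) hnV l).1 h2)
  obtain ⟨y, hy, hyl⟩ := h1
  have h3 : y⁻¹ * x ∈ X ⊓ normalizer (fac M l : Set G) := by
    refine mem_inf.2 ⟨mul_mem (inv_mem (hNX hy)) hx, ?_⟩
    rw [mem_normalizer_iff_cj, ← cj_cj, conj_fac M (hXP hx), ← hyl, ← conj_fac M (hNP hy),
      cj_cj, inv_mul_cancel, cj_one]
  have h4 := mul_mem hy (hYN h3)
  rwa [mul_inv_cancel_left] at h4

/-- **(i), (ii) of #19381.** -/
theorem exists_orbit_two (hSP : (S : Subgroup G) ≤ P) {i : Fin k} {X : Subgroup G} (hX : X ≤ stab M i)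
    (hne : ∃ l, l ≠ i ∧ ∃ r ∈ line M l, ∃ x ∈ X, x * r * x⁻¹ ≠ r) :
    ∃ n b, n ∈ part M {i}ᶜ ∧ b ∈ part M {i}ᶜ ∧ b ≠ 1 ∧ (∃ x ∈ X, n * x * n⁻¹ * x⁻¹ = b) ∧
      ∀ x ∈ X, n * x * n⁻¹ * x⁻¹ = 1 ∨ n * x * n⁻¹ * x⁻¹ = b := by
  obtain ⟨l, hl, hr⟩ := hne
  obtain ⟨N, hNX, hN2, n, hn, hfix, x₀, hx₀, hx₀n⟩ : ∃ N : Subgroup G, N ≤ X ∧ N.relIndex X = 2 ∧
      ∃ n ∈ part M {i}ᶜ, (∀ y ∈ N, y * n * y⁻¹ = n) ∧ ∃ x₀ ∈ X, x₀ * n * x₀⁻¹ ≠ n := by
    by_cases hn : X ≤ normalizer (fac M l : Set G)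
    · obtain ⟨N, hNX, hN2, n, hn, h⟩ := exists_one M hSP (le_inf (hX.trans (stab_le M i)) hn) hr
      refine ⟨N, hNX, hN2, n, ?_, h⟩
      exact part_mono M (Set.singleton_subset_iff.2 (by simpa using hl)) (line_le M l hn)
    · exact exists_two M hSP hl hX hn
  refine ⟨n, n * x₀ * n⁻¹ * x₀⁻¹, hn, ?_, ?_, ⟨x₀, hx₀, rfl⟩, two_values hN2 hfix hx₀ hx₀n⟩
  · have h1 : x₀ * n⁻¹ * x₀⁻¹ ∈ part M {i}ᶜ :=
      (mem_normalizer_iff.1 (stab_normalizes_compl M hSP i (hX hx₀)) _).1 (inv_mem hn)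
    have h2 := mul_mem hn h1
    have e : n * (x₀ * n⁻¹ * x₀⁻¹) = n * x₀ * n⁻¹ * x₀⁻¹ := by group
    rwa [e] at h2
  · intro h
    apply hx₀n
    have e : n * x₀ * n⁻¹ * x₀⁻¹ = n * (x₀ * n * x₀⁻¹)⁻¹ := by group
    rw [e, mul_inv_eq_one] at h
    exact h.symm

end Cfsg.Agent.Omega.IId.BigFour.Orbit2

end
end

private theorem dce_d60df93abb0b : _root_.True := by
  try have : _root_.True := by simp only [_root_.Cfsg.Agent.Omega.ThmC.Four.Abs.stabC.congr_simp]
  try have : _root_.True := by simp only [_root_.Cfsg.Agent.Omega.ThmC.Four.DD.eq_1]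
  try have : _root_.True := by simp only [_root_.Cfsg.Agent.Omega.ThmC.Four.eps.congr_simp]
  try have : _root_.True := by simp only [_root_.Cfsg.Agent.Omega.ThmC.FourOf.LS.eq_1]
  try have : _root_.True := by simp only [_root_.Cfsg.Agent.Omega.ThmC.Four.eps.eq_1]
  try have : _root_.True := by simp only [_root_.Cfsg.Agent.Omega.ThmC.Four.DL.eq_1]
  exact _root_.True.intro
end

-- part: Mrg/Omega/NOThreeL/RBig/AxRInst
section
prune_inst 0x1008001122000000180500a0001c0282000002002b0000c040030206c0cd40a0018721b82011101010ae4400300060121800100000000000000000011d048110081602b048a008a00010800004000000000000000000000000000000000000200000000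
set_option linter.all false
open scoped Cfsg.Agent.FastGrp

-- merged: Cfsg.Agent.Omega.NOThreeL.RBig.AxR
section

/-!
# NO-3L, box R, (A), `q > 2`: THEOREM EXACT with radical, abstract form (#19602 (4), helper797)

As `AFour.Ax` (helper884), without the point group `Z`, without `o2`, with the property `fix` for all of `im L`
(`= R = ∏ R i`): an element of `M` fixing a full vector `L x` maps `R` into all `K j`.

`M` normalises the elementary abelian group `U`; `L : (ι → F) → G` is an injective homomorphism with values in all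
`K i ≤ U`; `R i = {L (single i c)}`; `N i ≤ M` centralises `K i` and `{[u, t] | t ∈ N i} = R i` for all
`u ∈ U - K i`; `|U : K i| ≤ |F|`, `|F| > 2`. Axes are the `M`-conjugates of the `K i`; some axis does not contain `R`.

* `AxR.six` : an axis which does not contain `R` contains no full vector `L x`, `x i ≠ 0` for all `i`;
* `AxR.seven` : it contains all `R l` but one, `R i`, and `U = R i × g` (`NN i g`);
* `AxR.noedge`, `AxR.claim`;
* `AxR.exact` : for all `i`, `U = (⋂_{l ≠ i} K l) (K i)` and `|U| = |F| |K i|`.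
-/

set_option autoImplicit false
set_option Elab.async false

namespace Cfsg.Agent.Omega.NOThreeL.RBig.AxR

open Subgroup Cfsg.Agent.ZN Cfsg.Agent.ZN.ChoiceBase
open Cfsg.Agent.Omega.NOThreeL.ATwo (YY le_YY YY_le cj_YY_le card_YY_le)

universe u

variable {G : Type u} [Group G] {F : Type*} [Field F] {ι : Type*} [DecidableEq ι]

/-- The family of axes, centres and root groups. -/
structure AxR (M U : Subgroup G) (K R N : ι → Subgroup G) (L : (ι → F) → G) : Prop where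
  MU : ∀ m ∈ M, ∀ u ∈ U, m * u * m⁻¹ ∈ U
  ab : ∀ u ∈ U, ∀ v ∈ U, u * v = v * u
  sq : ∀ u ∈ U, u * u = 1
  KU : ∀ i, K i ≤ U
  add : ∀ x y, L (x + y) = L x * L y
  inj : Function.Injective L
  LK : ∀ x i, L x ∈ K i
  memR : ∀ i g, g ∈ R i ↔ ∃ c : F, L (Pi.single i c) = g
  NM : ∀ i, N i ≤ M
  cent : ∀ i, ∀ a ∈ K i, ∀ t ∈ N i, a * t = t * a
  comm : ∀ i, ∀ u ∈ U, ∀ t ∈ N i, u * t * u⁻¹ * t⁻¹ ∈ R i
  full : ∀ i, ∀ u ∈ U, u ∉ K i → ∀ y ∈ R i, ∃ t ∈ N i, u * t * u⁻¹ * t⁻¹ = y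
  idx : ∀ i, Nat.card U ≤ Nat.card F * Nat.card (K i)
  trans : ∀ i j, ∃ s ∈ M, cj s (K i) = K j ∧ (∀ w, ∃ w', s * L w * s⁻¹ = L w') ∧
    ∃ d : F, s * L (Pi.single i 1) * s⁻¹ = L (Pi.single j d)
  ex : ∃ x ∈ M, ∃ j w, L w ∉ cj x (K j)
  fix : ∀ x : ι → F, (∀ i, x i ≠ 0) → ∀ t ∈ M, t * L x = L x * t → ∀ w j, t * L w * t⁻¹ ∈ K j

namespace AxR

variable {M U : Subgroup G} {K R N : ι → Subgroup G} {L : (ι → F) → G} (h : AxR M U K R N L)
include h

theorem L_zero : L 0 = 1 := by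
  have h1 := h.add 0 0
  rw [add_zero] at h1
  exact (mul_eq_left.1 h1.symm)

theorem RK (i j : ι) : R i ≤ K j := by
  intro g hg
  obtain ⟨c, rfl⟩ := (h.memR i g).1 hg
  exact h.LK _ j

theorem L_mem_R (i : ι) (c : F) : L (Pi.single i c) ∈ R i := (h.memR i _).2 ⟨c, rfl⟩

theorem sq' {u : G} (hu : u ∈ U) : u⁻¹ = u := inv_eq_of_mul_eq_one_left (h.sq u hu)

theorem cjU {x : G} (hx : x ∈ M) {u : G} (hu : u ∈ U) : x⁻¹ * u * x ∈ U := by
  have := h.MU x⁻¹ (inv_mem hx) u hu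
  rwa [inv_inv] at this

theorem cjKU {x : G} (hx : x ∈ M) (i : ι) : cj x (K i) ≤ U := by
  intro u hu
  rw [mem_cj] at hu
  have h1 := h.MU x hx _ (h.KU i hu)
  have e : x * (x⁻¹ * u * x) * x⁻¹ = u := by group
  rwa [e] at h1

theorem YY_le_self (B : Subgroup G) : YY M K R B ≤ B := by
  refine YY_le fun i x _ he => ?_
  rw [← he]
  exact cj_mono x (h.RK i i)

/-- Elements of conjugate root groups. -/
theorem comm' {x : G} (hx : x ∈ M) {i : ι} {u t : G} (hu : u ∈ U) (ht : t ∈ cj x (N i)) :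
    u * t * u⁻¹ * t⁻¹ ∈ cj x (R i) := by
  rw [mem_cj] at ht ⊢
  have h1 := h.comm i _ (h.cjU hx hu) _ ht
  have e : x⁻¹ * (u * t * u⁻¹ * t⁻¹) * x =
    x⁻¹ * u * x * (x⁻¹ * t * x) * (x⁻¹ * u * x)⁻¹ * (x⁻¹ * t * x)⁻¹ := by group
  rwa [e]

theorem full' {x : G} (hx : x ∈ M) {i : ι} {u y : G} (hu : u ∈ U) (huA : u ∉ cj x (K i)) (hy : y ∈ cj x (R i)) :
    ∃ t ∈ cj x (N i), u * t * u⁻¹ * t⁻¹ = y := by
  rw [mem_cj] at huA hy
  obtain ⟨t, ht, he⟩ := h.full i _ (h.cjU hx hu) huA _ hy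
  refine ⟨x * t * x⁻¹, ?_, ?_⟩
  · rw [mem_cj]
    have e : x⁻¹ * (x * t * x⁻¹) * x = t := by group
    rwa [e]
  · calc u * (x * t * x⁻¹) * u⁻¹ * (x * t * x⁻¹)⁻¹ =
        x * (x⁻¹ * u * x * t * (x⁻¹ * u * x)⁻¹ * t⁻¹) * x⁻¹ := by group
      _ = y := by rw [he]; group

theorem cent' {x : G} {i : ι} {a t : G} (ha : a ∈ cj x (K i)) (ht : t ∈ cj x (N i)) : a * t = t * a := by
  rw [mem_cj] at ha ht
  have h1 := h.cent i _ ha _ ht
  calc a * t = x * ((x⁻¹ * a * x) * (x⁻¹ * t * x)) * x⁻¹ := by group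
    _ = x * ((x⁻¹ * t * x) * (x⁻¹ * a * x)) * x⁻¹ := by rw [h1]
    _ = t * a := by group

theorem NM' {x : G} (hx : x ∈ M) {i : ι} {t : G} (ht : t ∈ cj x (N i)) : t ∈ M := by
  rw [mem_cj] at ht
  have e : t = x * (x⁻¹ * t * x) * x⁻¹ := by group
  rw [e]
  exact mul_mem (mul_mem hx (h.NM i ht)) (inv_mem hx)

omit h in
/-- A root element whose centre is in `B` normalises `B`. -/
theorem cj_le {t : G} {B : Subgroup G} (hB : B ≤ U) (hc : ∀ u ∈ U, u * t * u⁻¹ * t⁻¹ ∈ B) : cj t B ≤ B := by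
  intro b hb
  rw [mem_cj] at hb
  have h1 := hc _ (hB hb)
  have e : t⁻¹ * b * t * t * (t⁻¹ * b * t)⁻¹ * t⁻¹ = t⁻¹ * b * t * b⁻¹ := by group
  rw [e] at h1
  have h2 := mul_mem (inv_mem h1) hb
  have e2 : (t⁻¹ * b * t * b⁻¹)⁻¹ * (t⁻¹ * b * t) = b := by group
  rwa [e2] at h2

variable [Finite G]

omit h in
theorem cj_eq {t : G} {B : Subgroup G} (hB : B ≤ U) (hc : ∀ u ∈ U, u * t * u⁻¹ * t⁻¹ ∈ B) : cj t B = B :=
  Subgroup.eq_of_le_of_card_ge (cj_le hB hc) (card_cj t B).ge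

/-- **Symmetry.** -/
theorem symm {g g' : G} (hg : g ∈ M) (hg' : g' ∈ M) {i j : ι}
    (hle : YY M K R (cj g (K i)) ≤ cj g' (K j)) : YY M K R (cj g' (K j)) ≤ cj g (K i) := by
  set a := cj g (K i) with ha
  set b := cj g' (K j) with hb
  have hbU : b ≤ U := h.cjKU hg' j
  by_contra hcon
  obtain ⟨f, hf, hfa⟩ := SetLike.not_le_iff_exists.mp hcon
  have hfU : f ∈ U := hbU (h.YY_le_self b hf)
  have key : YY M K R a ≤ YY M K R b := by
    refine YY_le fun l x hx he => ?_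
    intro y hy
    obtain ⟨t, ht, hty⟩ := h.full' hx hfU (by rw [he]; exact hfa) hy
    have htM := h.NM' hx ht
    have hcen : cj x (R l) ≤ b := (le_YY hx he).trans hle
    have h2 : cj t b = b := cj_eq hbU fun u hu => hcen (h.comm' hx hu ht)
    have h3 : cj t (YY M K R b) ≤ YY M K R b := by
      have := cj_YY_le (A := K) (Yc := R) htM b
      rwa [h2] at this
    have h4 : t * f⁻¹ * t⁻¹ ∈ YY M K R b := h3 (by
      rw [mem_cj]
      have e : t⁻¹ * (t * f⁻¹ * t⁻¹) * t = f⁻¹ := by group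
      rw [e]
      exact inv_mem hf)
    rw [← hty]
    have e : f * t * f⁻¹ * t⁻¹ = f * (t * f⁻¹ * t⁻¹) := by group
    rw [e]
    exact mul_mem hf h4
  obtain ⟨s, hs, hse, -⟩ := h.trans i j
  have hab : cj (g' * s * g⁻¹) a = b := by
    rw [ha, hb, cj_cj, ← hse, cj_cj]
    congr 1
    group
  have h5 : Nat.card (YY M K R b) ≤ Nat.card (YY M K R a) := by
    have hba : cj (g' * s * g⁻¹)⁻¹ b = a := by rw [← hab, cj_inv_cj]
    have := card_YY_le (A := K) (Yc := R) (inv_mem (mul_mem (mul_mem hg' hs) (inv_mem hg))) b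
    rwa [hba] at this
  have h6 := Subgroup.eq_of_le_of_card_ge key h5
  rw [← h6] at hf
  exact hfa (h.YY_le_self a hf)

omit [Finite G] [DecidableEq ι] h in
/-- If `YY B` is not contained in `A`, some conjugate of an `R j` is not. -/
theorem exists_not_le {A B : Subgroup G} (hn : ¬ YY M K R B ≤ A) :
    ∃ j, ∃ x ∈ M, cj x (K j) = B ∧ ∃ y ∈ cj x (R j), y ∉ A := by
  by_contra hcon
  push Not at hcon
  exact hn (YY_le fun j x hx he y hy => hcon j x hx he y hy)

omit [Finite G] in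
/-- A subgroup containing all components contains `L x`. -/
theorem L_mem [Fintype ι] {A : Subgroup G} {x : ι → F} (hA : ∀ i, L (Pi.single i (x i)) ∈ A) : L x ∈ A := by
  have key : ∀ s : Finset ι, L (∑ i ∈ s, Pi.single i (x i)) ∈ A := by
    intro s
    induction s using Finset.induction_on with
    | empty => rw [Finset.sum_empty, h.L_zero]; exact one_mem _
    | insert a s ha ih => rw [Finset.sum_insert ha, h.add]; exact mul_mem (hA a) ih
  have h1 := key Finset.univ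
  rwa [Finset.univ_sum_single] at h1

/-- **(6)** an axis which does not contain `im L` contains no full vector. -/
theorem six {x : G} (hx : x ∈ M) {j : ι} {w : ι → F} (hZ : L w ∉ cj x (K j)) {v : ι → F}
    (hv : ∀ i, v i ≠ 0) [Fintype ι] : L v ∉ cj x (K j) := by
  intro hmem
  have hzU : L w ∈ U := h.KU j (h.LK w j)
  apply hZ
  have key : ∀ i, YY M K R (cj x (K j)) ≤ K i := by
    intro i
    refine YY_le fun l x' hx' he y hy => ?_
    obtain ⟨t, ht, hty⟩ := h.full' hx' hzU (by rw [he]; exact hZ) hy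
    have h1 : t * L v = L v * t := (h.cent' (by rw [he]; exact hmem) ht).symm
    have h2 := h.fix v hv t (h.NM' hx' ht) h1 w i
    have h3 : L w ∈ K i := h.LK w i
    have h4 := mul_mem h3 (inv_mem h2)
    have e : L w * (t * L w * t⁻¹)⁻¹ = L w * t * (L w)⁻¹ * t⁻¹ := by group
    rw [e, hty] at h4
    exact h4
  have h5 : ∀ i, R i ≤ cj x (K j) := by
    intro i
    have h2 : YY M K R (cj 1 (K i)) ≤ cj x (K j) := h.symm hx (one_mem M) (by rw [cj_one]; exact key i)
    rw [cj_one] at h2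
    have h3 : cj 1 (R i) ≤ YY M K R (K i) := le_YY (one_mem M) (cj_one _)
    rw [cj_one] at h3
    exact h3.trans h2
  exact h.L_mem fun i => h5 i (h.L_mem_R i _)

omit [Finite G] in
theorem L_neg (x : ι → F) : L (-x) = (L x)⁻¹ := by
  have h1 := h.add x (-x)
  rw [add_neg_cancel, h.L_zero] at h1
  exact (inv_eq_of_mul_eq_one_right h1.symm).symm

omit [Finite G] [DecidableEq ι] h in
theorem exists_ne [Finite F] (hF : 2 < Nat.card F) (y : F) : ∃ w : F, w ≠ 0 ∧ w + y ≠ 0 := by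
  classical
  by_contra hcon
  push Not at hcon
  have : Fintype F := Fintype.ofFinite F
  have h1 : (Finset.univ : Finset F) ⊆ {0, -y} := by
    intro w _
    rw [Finset.mem_insert, Finset.mem_singleton]
    by_cases h0 : w = 0
    · exact Or.inl h0
    · exact Or.inr (eq_neg_of_add_eq_zero_left (hcon w h0))
  have h2 := Finset.card_le_card h1
  have h3 : ({0, -y} : Finset F).card ≤ 2 := Finset.card_le_two
  rw [Finset.card_univ, ← Nat.card_eq_fintype_card] at h2
  omega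

/-- The axes which contain all `R l`, `l ≠ i`, and are complements of `R i`. -/
def NN (U : Subgroup G) (L : (ι → F) → G) (i : ι) (g : Subgroup G) : Prop :=
  (∀ x : ι → F, x i = 0 → L x ∈ g) ∧ (∀ c : F, c ≠ 0 → L (Pi.single i c) ∉ g) ∧
    ∀ u ∈ U, ∃ c : F, ∃ a ∈ g, u = L (Pi.single i c) * a

/-- **(7)** -/
theorem seven [Fintype ι] [Finite F] (hF : 2 < Nat.card F) {x : G} (hx : x ∈ M) {j : ι}
    {w₀ : ι → F} (hZ : L w₀ ∉ cj x (K j)) :
    (∃ i, NN U L i (cj x (K j))) ∧ Nat.card U = Nat.card F * Nat.card (K j) := by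
  set g := cj x (K j) with hg
  have hgU : g ≤ U := h.cjKU hx j
  have six := fun (v : ι → F) (hv : ∀ i, v i ≠ 0) => h.six hx hZ hv
  rw [← hg] at six
  obtain ⟨i, hi⟩ : ∃ i, ∀ c : F, c ≠ 0 → L (Pi.single i c) ∉ g := by
    by_contra hcon
    push Not at hcon
    choose v hv hvg using hcon
    exact six v hv (h.L_mem hvg)
  -- `U = R i × g`
  have hLU : ∀ v, L v ∈ U := fun v => h.KU i (h.LK v i)
  let f : F → U ⧸ g.subgroupOf U := fun c => QuotientGroup.mk ⟨L (Pi.single i c), hLU _⟩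
  have hinj : Function.Injective f := by
    intro c d hcd
    have h1 := QuotientGroup.eq.1 hcd
    rw [mem_subgroupOf] at h1
    change (L (Pi.single i c))⁻¹ * L (Pi.single i d) ∈ g at h1
    rw [← h.L_neg, ← h.add, ← Pi.single_neg, ← Pi.single_add] at h1
    by_contra hne
    exact hi _ (fun h0 => hne (by rw [neg_add_eq_zero] at h0; exact h0)) h1
  have hcg : Nat.card (g.subgroupOf U) = Nat.card (K j) := by
    rw [Nat.card_congr (subgroupOfEquivOfLe hgU).toEquiv, hg, card_cj]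
  have hcU : Nat.card U = Nat.card (U ⧸ g.subgroupOf U) * Nat.card (K j) := by
    rw [card_eq_card_quotient_mul_card_subgroup (g.subgroupOf U), hcg]
  have hle : Nat.card (U ⧸ g.subgroupOf U) ≤ Nat.card F := by
    have h1 := h.idx j
    rw [hcU] at h1
    exact Nat.le_of_mul_le_mul_right h1 Nat.card_pos
  have hbij := hinj.bijective_of_nat_card_le hle
  have hsur : ∀ u ∈ U, ∃ c : F, ∃ a ∈ g, u = L (Pi.single i c) * a := by
    intro u hu
    obtain ⟨c, hc⟩ := hbij.2 (QuotientGroup.mk ⟨u, hu⟩)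
    have h1 := QuotientGroup.eq.1 hc
    rw [mem_subgroupOf] at h1
    exact ⟨c, _, h1, by
      change u = L (Pi.single i c) * ((L (Pi.single i c))⁻¹ * u)
      group⟩
  have hfull : ∀ y : ι → F, y i = 0 → (∀ l, l ≠ i → y l ≠ 0) → L y ∈ g := by
    intro y hy hyl
    obtain ⟨c, a, ha, he⟩ := hsur (L y) (hLU y)
    by_cases hc : c = 0
    · rw [he, hc, Pi.single_zero, h.L_zero, one_mul]
      exact ha
    · exfalso
      have h1 : a = L (-Pi.single i c + y) := by rw [h.add, h.L_neg, he]; group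
      refine six (-Pi.single i c + y) (fun l => ?_) (by rw [← h1]; exact ha)
      by_cases hl : l = i
      · rw [hl, Pi.add_apply, Pi.neg_apply, Pi.single_eq_same, hy, add_zero]
        exact neg_ne_zero.2 hc
      · rw [Pi.add_apply, Pi.neg_apply, Pi.single_eq_of_ne hl, neg_zero, zero_add]
        exact hyl l hl
  refine ⟨⟨i, fun y hy => ?_, hi, hsur⟩, ?_⟩
  · choose w hw hwy using fun l => exists_ne hF (y l)
    have h1 : L (Function.update w i 0) ∈ g := by
      refine hfull _ (Function.update_self _ _ _) fun l hl => ?_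
      rw [Function.update_of_ne hl]
      exact hw l
    have h2 : L (Function.update w i 0 + y) ∈ g := by
      refine hfull _ ?_ fun l hl => ?_
      · rw [Pi.add_apply, Function.update_self, hy, add_zero]
      · rw [Pi.add_apply, Function.update_of_ne hl]
        exact hwy l
    rw [h.add] at h2
    exact (mul_mem_cancel_left h1).1 h2
  · rw [hcU]
    congr 1
    exact (Nat.card_eq_of_bijective f hbij).symm

omit [Finite G] in
/-- A root element acts on `r`: `t r t⁻¹ = [r, t] r`. -/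
theorem conj_root {r t y : G} (hy : y ∈ U) (ht : r * t * r⁻¹ * t⁻¹ = y) : t * r * t⁻¹ = y * r := by
  have h2 : t * r⁻¹ * t⁻¹ = r⁻¹ * y := by rw [← ht]; group
  have h3 : t * r * t⁻¹ = (t * r⁻¹ * t⁻¹)⁻¹ := by group
  rw [h3, h2, mul_inv_rev, inv_inv, h.sq' hy]

/-- **(8)** no edge between `NN i` and `NN i'`. -/
theorem noedge [Fintype ι] [CharP F 2] {x2 x3 : G} (hx3 : x3 ∈ M)
    {j2 j3 i i' : ι} (hne : i ≠ i') (h2 : NN U L i' (cj x2 (K j2))) (h3 : NN U L i (cj x3 (K j3))) :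
    YY M K R (cj x2 (K j2)) ≤ cj x3 (K j3) := by
  set g2 := cj x2 (K j2) with hg2
  set g3 := cj x3 (K j3) with hg3
  by_contra hcon
  obtain ⟨l, x, hx, he, y, hy, hyg⟩ := exists_not_le hcon
  have hyU : y ∈ U := h.cjKU hx l (cj_mono x (h.RK l l) hy)
  have hLU : ∀ v, L v ∈ U := fun v => h.KU i (h.LK v i)
  obtain ⟨c, a, ha, hya⟩ := h3.2.2 y hyU
  have hc : c ≠ 0 := by
    rintro rfl
    apply hyg
    rw [hya, Pi.single_zero, h.L_zero, one_mul]
    exact ha
  obtain ⟨t, ht, hty⟩ := h.full' hx (hLU (Pi.single i' 1)) (by rw [he]; exact h2.2.1 1 one_ne_zero) hy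
  have htM := h.NM' hx ht
  -- the full vector
  set v : ι → F := Function.update (fun _ => 1) i c with hv
  have hvf : ∀ l, v l ≠ 0 := by
    intro l
    by_cases hl : l = i
    · rw [hv, hl, Function.update_self]; exact hc
    · rw [hv, Function.update_of_ne hl]; exact one_ne_zero
  have hfixL : ∀ w : ι → F, w i' = 0 → t * L w * t⁻¹ = L w := by
    intro w hw
    have h1 : L w ∈ cj x (K l) := by rw [he]; exact h2.1 w hw
    have h4 := h.cent' h1 ht
    rw [← h4]; group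
  have htv : t * L v * t⁻¹ = y * L v := by
    have e1 : v = Pi.single i' 1 + (v - Pi.single i' 1) := by abel
    have h4 : (v - Pi.single i' (1 : F) : ι → F) i' = 0 := by
      rw [Pi.sub_apply, Pi.single_eq_same, hv, Function.update_of_ne hne.symm, sub_self]
    have h5 := hfixL _ h4
    have h6 := h.conj_root hyU hty
    calc t * L v * t⁻¹ = (t * L (Pi.single i' 1) * t⁻¹) * (t * L (v - Pi.single i' 1) * t⁻¹) := by
          rw [e1, h.add, ← e1]; group
      _ = y * (L (Pi.single i' 1) * L (v - Pi.single i' 1)) := by rw [h5, h6, mul_assoc]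
      _ = y * L v := by rw [← h.add, ← e1]
  have htg : t * L v * t⁻¹ ∈ g3 := by
    rw [htv, hya, h.ab _ (hLU _) a (h.cjKU hx3 j3 ha), mul_assoc, ← h.add]
    refine mul_mem ha (h3.1 _ ?_)
    rw [Pi.add_apply, Pi.single_eq_same, hv, Function.update_self]
    exact CharTwo.add_self_eq_zero c
  -- the axis `g3 ^ (t⁻¹)`
  have hmem : L v ∈ cj (t⁻¹ * x3) (K j3) := by
    rw [← cj_cj, ← hg3, mem_cj, inv_inv]
    exact htg
  have hx' : t⁻¹ * x3 ∈ M := mul_mem (inv_mem htM) hx3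
  have h5 : L (Pi.single i 1) ∈ cj (t⁻¹ * x3) (K j3) := by
    by_contra hZ
    exact h.six hx' hZ hvf hmem
  rw [← cj_cj, ← hg3, mem_cj, inv_inv] at h5
  have h6 : (Pi.single i (1 : F) : ι → F) i' = 0 := Pi.single_eq_of_ne hne.symm _
  rw [hfixL _ h6] at h5
  exact h3.2.1 1 one_ne_zero h5

/-- `NN i` is not empty. -/
theorem exists_NN [Fintype ι] [Finite F] (hF : 2 < Nat.card F) (i : ι) :
    ∃ x ∈ M, ∃ j, NN U L i (cj x (K j)) := by
  obtain ⟨x, hx, j, w, hw⟩ := h.ex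
  obtain ⟨m, hm⟩ := (h.seven hF hx hw).1
  obtain ⟨s, hs, hsK, hsZ, d, hd⟩ := h.trans m i
  refine ⟨s * x, mul_mem hs hx, j, ?_⟩
  obtain ⟨w', hw'⟩ := hsZ w
  have hZ' : L w' ∉ cj (s * x) (K j) := by
    intro hle
    apply hw
    rw [← hw', ← cj_cj, mem_cj] at hle
    have e : s⁻¹ * (s * L w * s⁻¹) * s = L w := by group
    rwa [e] at hle
  obtain ⟨m', hm'⟩ := (h.seven hF (mul_mem hs hx) hZ').1
  by_cases hmi : m' = i
  · rw [hmi] at hm'
    exact hm'
  · exfalso
    have h1 : L (Pi.single i d) ∈ cj (s * x) (K j) := hm'.1 _ (Pi.single_eq_of_ne hmi _)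
    rw [← hd, ← cj_cj, mem_cj] at h1
    have e : s⁻¹ * (s * L (Pi.single m 1) * s⁻¹) * s = L (Pi.single m 1) := by group
    rw [e] at h1
    exact hm.2.1 1 one_ne_zero h1

/-- **(9)** the centre of `g ∈ NN i` is contained in `K l`, `l ≠ i`. -/
theorem claim [Fintype ι] [Finite F] [CharP F 2] (hF : 2 < Nat.card F) {x : G} (hx : x ∈ M) {i j l : ι}
    (hn : NN U L i (cj x (K j))) (hl : l ≠ i) : YY M K R (cj x (K j)) ≤ K l := by
  set g := cj x (K j) with hg
  by_contra hcon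
  obtain ⟨x2, hx2, j2, h2⟩ := h.exists_NN hF l
  set g2 := cj x2 (K j2) with hg2
  -- `g2` and `K l` are adjacent
  have h3 : ¬ YY M K R g2 ≤ K l := by
    intro hle
    have h4 : YY M K R (cj 1 (K l)) ≤ g2 := h.symm hx2 (one_mem M) (by rwa [cj_one])
    rw [cj_one] at h4
    have h5 : cj 1 (R l) ≤ YY M K R (K l) := le_YY (one_mem M) (cj_one _)
    rw [cj_one] at h5
    exact h2.2.1 1 one_ne_zero (h4 (h5 (h.L_mem_R l 1)))
  obtain ⟨m, x', hx', he, w, hw, hwK⟩ := exists_not_le h3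
  obtain ⟨z, hz, hzg⟩ : ∃ z, L (Pi.single l (1 : F)) = z ∧ z ∉ g2 := ⟨_, rfl, h2.2.1 1 one_ne_zero⟩
  have hzU : z ∈ U := by rw [← hz]; exact h.KU l (h.LK _ l)
  have hzK : z ∈ K l := by rw [← hz]; exact h.LK _ l
  obtain ⟨t, ht, htw⟩ := h.full' hx' hzU (by rw [he]; exact hzg) hw
  have htM := h.NM' hx' ht
  -- `K l ^ (t⁻¹) ∈ NN l`
  have h4 : z ∉ cj t⁻¹ (K l) := by
    intro h5
    rw [mem_cj, inv_inv] at h5
    apply hwK
    have e : w = z * (t * z * t⁻¹)⁻¹ := by rw [← htw]; group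
    rw [e]
    exact mul_mem hzK (inv_mem h5)
  have h5 : L (Pi.single l (1 : F)) ∉ cj t⁻¹ (K l) := fun hle => h4 (by rwa [hz] at hle)
  obtain ⟨m', hm'⟩ := (h.seven hF (inv_mem htM) h5).1
  have hml : m' = l := by
    by_contra hne
    have h6 : L (Pi.single m' (1 : F)) ∈ cj x' (K m) := by
      rw [he]
      exact h2.1 _ (Pi.single_eq_of_ne (Ne.symm hne) _)
    have h7 := h.cent' h6 ht
    apply hm'.2.1 1 one_ne_zero
    rw [mem_cj, inv_inv, ← h7]
    have e : L (Pi.single m' (1 : F)) * t * t⁻¹ = L (Pi.single m' 1) := by group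
    rw [e]
    exact h.LK _ _
  rw [hml] at hm'
  -- `t` normalises `g`
  have h6 : YY M K R g2 ≤ g := h.noedge hx hl.symm h2 hn
  have h7 : cj t⁻¹ g = g := by
    refine cj_eq (h.cjKU hx j) fun u hu => h6 (le_YY hx' he (h.comm' hx' hu (inv_mem ht)))
  have h8 : YY M K R g ≤ cj t⁻¹ (K l) := h.noedge (inv_mem htM) hl hn hm'
  have h9 : cj t⁻¹ (YY M K R g) ≤ YY M K R g := by
    have := cj_YY_le (A := K) (Yc := R) (inv_mem htM) g
    rwa [h7] at this
  apply hcon
  intro y hy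
  have h10 : t⁻¹ * y * t ∈ YY M K R g := h9 (by
    rw [mem_cj, inv_inv]
    have e : t * (t⁻¹ * y * t) * t⁻¹ = y := by group
    rwa [e])
  have h11 := h8 h10
  rw [mem_cj, inv_inv] at h11
  have e : t * (t⁻¹ * y * t) * t⁻¹ = y := by group
  rwa [e] at h11

/-- **THEOREM EXACT**, abstract form. -/
theorem exact [Fintype ι] [Finite F] [CharP F 2] (hF : 2 < Nat.card F) (i : ι) :
    (∀ u ∈ U, ∃ y ∈ U, (∀ l, l ≠ i → y ∈ K l) ∧ y⁻¹ * u ∈ K i) ∧ Nat.card U = Nat.card F * Nat.card (K i) := by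
  obtain ⟨x, hx, j, hn⟩ := h.exists_NN hF i
  set g := cj x (K j) with hg
  have h3 : ¬ YY M K R g ≤ K i := by
    intro hle
    have h4 : YY M K R (cj 1 (K i)) ≤ g := h.symm hx (one_mem M) (by rwa [cj_one])
    rw [cj_one] at h4
    have h5 : cj 1 (R i) ≤ YY M K R (K i) := le_YY (one_mem M) (cj_one _)
    rw [cj_one] at h5
    exact hn.2.1 1 one_ne_zero (h4 (h5 (h.L_mem_R i 1)))
  obtain ⟨m, x', hx', he, w, hw, hwK⟩ := exists_not_le h3
  -- the axis `K i` with respect to the conjugate under `x'`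
  rw [mem_cj] at hw
  obtain ⟨c, hc⟩ := (h.memR m _).1 hw
  have hw' : L (Pi.single m c) ∉ cj x'⁻¹ (K i) := by
    intro h5
    rw [mem_cj, inv_inv, hc] at h5
    have e : x' * (x'⁻¹ * w * x') * x'⁻¹ = w := by group
    rw [e] at h5
    exact hwK h5
  obtain ⟨⟨m', hm'⟩, hcard⟩ := h.seven hF (inv_mem hx') hw'
  have hmm : m' = m := by
    by_contra hne
    exact hw' (hm'.1 _ (Pi.single_eq_of_ne hne _))
  rw [hmm] at hm'
  refine ⟨fun u hu => ?_, hcard⟩
  obtain ⟨d, a, ha, he2⟩ := hm'.2.2 _ (h.cjU hx' hu)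
  have hyR : x' * L (Pi.single m d) * x'⁻¹ ∈ cj x' (R m) := by
    rw [mem_cj]
    have e : x'⁻¹ * (x' * L (Pi.single m d) * x'⁻¹) * x' = L (Pi.single m d) := by group
    rw [e]
    exact h.L_mem_R m d
  have hyY := le_YY hx' he hyR
  refine ⟨x' * L (Pi.single m d) * x'⁻¹, h.MU x' hx' _ (h.KU i (h.LK _ i)), fun l hl => h.claim hF hx hn hl hyY, ?_⟩
  rw [mem_cj, inv_inv] at ha
  have e : (x' * L (Pi.single m d) * x'⁻¹)⁻¹ * u = x' * a * x'⁻¹ := by
    have e3 : u = x' * (x'⁻¹ * u * x') * x'⁻¹ := by group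
    rw [e3, he2]
    group
  rw [e]
  exact ha

end AxR

end Cfsg.Agent.Omega.NOThreeL.RBig.AxR

end

-- merged: Cfsg.Agent.Mrg.Omega.NOThreeL.RBig.AxRInst
section

/-!
# NO-3L, box R, (A), `q > 2`, `V_P` split: `U_H` induces all upper unitriangular matrices (#19602 (4))

`M : NatK F S P (zl S P) D k`, `V = zl S P = V₀ × D`, `V₀` normal in `P` (`D = C_Z(P)`, `DP`), `H` long,
`[V, U_H] ≠ 1`, `V ≤ O₂(C_G(z))` for all `1 ≠ z ∈ Z ∩ V₀` (`hO`, = (3) of #19602).

* `Spl.axR` : the family `C_U(N_i)`, `lin i`, `N_i = fac i`, `vec` is an `AxR`;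
* **`Spl.ind`** : for all `b` some `u ∈ U_H` acts as `up (b i)`;
* **`Spl.off`** : `U_H` offends on `V_P`.
-/

set_option autoImplicit false
set_option Elab.async false

namespace Cfsg.Agent.Omega.NOThreeL.RBig.AxRInst

open Subgroup Cfsg Cfsg.Agent.Omega.MinPar Cfsg.Agent.Omega.Frame Cfsg.Agent.Omega.FrameNOFF
open Cfsg.Agent.ZN (zl zc o2)
open Cfsg.Agent.ZN.ChoiceBase hiding mem_zc
open Cfsg.Agent.Omega.Node.NO3L Cfsg.Agent.Omega.NOThreeL.Basic
open Cfsg.Agent.Omega.FFThm (Off NatK ActsSL)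
open Cfsg.Agent.Omega.NatPair (ap ap_mul ap_one ap_inv_ap exists_ap)
open Cfsg.Agent.Lib.SL2Mat
open Cfsg.Agent.MinSimple.VModule (zl_le le_normalizer_zl zc_le_zl zc_le mem_zc)
open Cfsg.Agent.Omega.NOThreeL.Pair (zl_abel)
open Cfsg.Agent.Omega.IId (cj_mem cj_mem')
open Cfsg.Agent.Omega.NOThreeL.RStr (e_one e_inv sg sg_spec e_conj_line)
open Cfsg.Agent.Omega.NOThreeL.RBig.AxR (AxR)
open scoped Pointwise

universe u

variable {G : Type u} [Group G] {k : ℕ} {F : Type} [Field F]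

/-! ### upper unitriangular action modulo `D` -/

section up

variable {S P D : Subgroup G} (M : NatK F S P (zl S P) D k)

/-- `u` acts as `up (b i)` on `V / D`. -/
def Up (u : G) (b : Fin k → F) : Prop :=
  ∀ v ∈ zl S P, ∀ i, M.e (u * v * u⁻¹) i = ap (up (b i)) (M.e v i)

variable {M}

theorem Up.mul {u u' : G} {b b' : Fin k → F} (hu' : u' ∈ P) (h : Up M u b) (h' : Up M u' b') :
    Up M (u * u') (b + b') := by
  intro v hv i
  have e : u * u' * v * (u * u')⁻¹ = u * (u' * v * u'⁻¹) * u⁻¹ := by group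
  rw [e, h _ (cj_mem hu' hv) i, h' v hv i, ← ap_mul, up_mul]
  rfl

theorem Up.inv {u : G} {b : Fin k → F} (hu : u ∈ P) (h : Up M u b) : Up M u⁻¹ (-b) := by
  intro v hv i
  have h2 := h _ (cj_mem (inv_mem hu) hv) i
  have e : u * (u⁻¹ * v * u⁻¹⁻¹) * u⁻¹ = v := by group
  rw [e] at h2
  rw [h2]
  change _ = ap (up (-b i)) _
  rw [← up_inv, ap_inv_ap]

theorem Up.cm {u : G} {b : Fin k → F} (hu : u ∈ P) (h : Up M u b) {v : G} (hv : v ∈ zl S P) (i : Fin k) :
    M.e (u * v * u⁻¹ * v⁻¹) i = ![b i * M.e v i 1, 0] := by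
  rw [M.mul _ (cj_mem hu hv) _ (inv_mem hv), Pi.add_apply, h v hv i, e_inv M hv, Pi.neg_apply]
  apply NatPair.ext2
  · rw [Pi.add_apply, NatPair.ap_zero']
    simp only [up_00, up_01, Pi.neg_apply]
    change _ = b i * M.e v i 1
    ring
  · rw [Pi.add_apply, NatPair.ap_one']
    simp only [up_10, up_11, Pi.neg_apply]
    change _ = (0 : F)
    ring

end up

variable [Finite G] {S : Sylow 2 G} {P H D V₀ : Subgroup G}

/-- The split situation, with (3) of #19602 (`hO`). -/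
structure Spl (S : Sylow 2 G) (P H D V₀ : Subgroup G)
    (M : NatK F (S : Subgroup G) P (zl (S : Subgroup G) P) D k) : Prop where
  hc : IsCharacteristicTwoType G
  data : DataLow (S : Subgroup G)
  pair : PairA (S : Subgroup G) P H
  pos : 0 < k
  V₀V : V₀ ≤ zl (S : Subgroup G) P
  nV : P ≤ normalizer (V₀ : Set G)
  inf : V₀ ⊓ D = ⊥
  sup : zl (S : Subgroup G) P ≤ V₀ ⊔ D
  DV : D ≤ zl (S : Subgroup G) P
  hO : ∀ z ∈ zc (S : Subgroup G), z ∈ V₀ → z ≠ 1 → zl (S : Subgroup G) P ≤ o2 (centralizer ({z} : Set G))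

namespace Spl

variable {M : NatK F (S : Subgroup G) P (zl (S : Subgroup G) P) D k} (h : Spl S P H D V₀ M)
include h

theorem SP : (S : Subgroup G) ≤ P := h.pair.par.le

theorem SH : (S : Subgroup G) ≤ H := h.pair.long.loc.le

theorem US : zl (S : Subgroup G) H ≤ (S : Subgroup G) := IsLong.zl_le_S h.hc h.pair.long

theorem UP : zl (S : Subgroup G) H ≤ P := h.US.trans h.SP

theorem VS : zl (S : Subgroup G) P ≤ (S : Subgroup G) := IsParS.zl_le_S h.hc h.pair.par

theorem VH : zl (S : Subgroup G) P ≤ H := h.VS.trans h.SH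

theorem ab : ∀ u ∈ zl (S : Subgroup G) H, ∀ v ∈ zl (S : Subgroup G) H, u * v = v * u := fun u hu v hv =>
  mem_centralizer_iff.1 ((zl_abel h.hc S h.pair.long.loc).1 hv) u hu

theorem sq : ∀ u ∈ zl (S : Subgroup G) H, u * u = 1 := by
  intro u hu
  rw [← pow_two]
  exact (zl_abel h.hc S h.pair.long.loc).2 u hu

theorem abV : ∀ v ∈ zl (S : Subgroup G) P, ∀ w ∈ zl (S : Subgroup G) P, v * w = w * v := fun v hv w hw =>
  mem_centralizer_iff.1 ((zl_abel h.hc S h.pair.par.isLoc).1 hw) v hv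

theorem sqV : ∀ v ∈ zl (S : Subgroup G) P, v * v = 1 := by
  intro v hv
  rw [← pow_two]
  exact (zl_abel h.hc S h.pair.par.isLoc).2 v hv

theorem nrm : ∀ x ∈ H, ∀ u ∈ zl (S : Subgroup G) H, x * u * x⁻¹ ∈ zl (S : Subgroup G) H :=
  fun x hx u hu => (mem_normalizer_iff.1 (le_normalizer_zl _ _ hx) u).1 hu

theorem quad : AFour.Quad (S : Subgroup G) P (zl (S : Subgroup G) H) where
  SP := h.SP
  VS := h.VS
  US := h.US
  SU := h.SH.trans (le_normalizer_zl _ _)
  ab := h.ab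
  sq := h.sq

/-! ### the complement `V₀` -/

theorem cj₀ {x v : G} (hx : x ∈ P) (hv : v ∈ V₀) : x * v * x⁻¹ ∈ V₀ := (mem_normalizer_iff.1 (h.nV hx) v).1 hv

theorem inj₀ {v w : G} (hv : v ∈ V₀) (hw : w ∈ V₀) (he : M.e v = M.e w) : v = w := by
  have hm := mul_mem hv (inv_mem hw)
  have h1 : v * w⁻¹ ∈ D := by
    rw [← M.ker _ (h.V₀V hm), M.mul _ (h.V₀V hv) _ (inv_mem (h.V₀V hw)), e_inv M (h.V₀V hw), he, add_neg_cancel]
  have h2 : v * w⁻¹ ∈ V₀ ⊓ D := ⟨hm, h1⟩
  rw [h.inf, mem_bot] at h2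
  exact mul_inv_eq_one.1 h2

theorem exists_mul {v : G} (hv : v ∈ zl (S : Subgroup G) P) : ∃ a ∈ V₀, ∃ d ∈ D, v = a * d := by
  have h2 : D ≤ normalizer (V₀ : Set G) := ((h.DV.trans h.VS).trans h.SP).trans h.nV
  have h3 : v ∈ ((V₀ : Set G) * (D : Set G)) := by
    rw [← coe_mul_of_right_le_normalizer_left _ _ h2]
    exact h.sup hv
  obtain ⟨x, hx, ε, hε, rfl⟩ := Set.mem_mul.1 h3
  exact ⟨x, hx, ε, hε, rfl⟩

theorem surj₀ (x : Fin k → Fin 2 → F) : ∃ v ∈ V₀, M.e v = x := by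
  obtain ⟨v, hv, he⟩ := M.surj x
  obtain ⟨a, ha, d, hd, rfl⟩ := h.exists_mul hv
  refine ⟨a, ha, ?_⟩
  rw [← he, M.mul _ (h.V₀V ha) _ (h.DV hd), (M.ker d (h.DV hd)).2 hd, add_zero]

/-- `D ≤ C(P)`. -/
theorem DP : D ≤ centralizer (P : Set G) := by
  -- the `D`-parts of the elements of `Z`
  have hPD : P ≤ normalizer (D : Set G) := by
    intro g hg
    have ker' : ∀ g ∈ P, ∀ v ∈ zl (S : Subgroup G) P, M.e v = 0 → M.e (g * v * g⁻¹) = 0 := by
      intro g hg v hv h0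
      obtain ⟨σ, hσ⟩ := M.perm g hg
      funext i
      obtain ⟨j, rfl⟩ := σ.surjective i
      exact (hσ v hv j).2 (congrFun h0 j)
    have key : ∀ g ∈ P, ∀ v ∈ D, g * v * g⁻¹ ∈ D := fun g hg v hv =>
      (M.ker _ (cj_mem hg (h.DV hv))).1 (ker' g hg v (h.DV hv) ((M.ker v (h.DV hv)).2 hv))
    rw [mem_normalizer_iff]
    intro v
    refine ⟨key g hg v, fun hv => ?_⟩
    have h1 := key g⁻¹ (inv_mem hg) _ hv
    have e : g⁻¹ * (g * v * g⁻¹) * g⁻¹⁻¹ = v := by group
    rwa [e] at h1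
  have hZ : ∀ a ∈ V₀, ∀ d ∈ D, a * d ∈ zc (S : Subgroup G) → d ∈ centralizer (P : Set G) := by
    intro a ha d hd hz
    have h1 : P ≤ centralizer ({d} : Set G) := by
      refine M.gen _ (fun s hs => ?_) fun g _ A hA => mem_centralizer_singleton_iff.2 (hA.2 d hd)
      have h2 : s * (a * d) * s⁻¹ = a * d := by
        rw [(mem_zc.1 hz).2.1 s hs, mul_inv_cancel_right]
      have h3 : a⁻¹ * (s * a * s⁻¹) ∈ V₀ ⊓ D := by
        refine mem_inf.2 ⟨V₀.mul_mem (V₀.inv_mem ha) (h.cj₀ (h.SP hs) ha), ?_⟩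
        have e : a⁻¹ * (s * a * s⁻¹) = a⁻¹ * (s * (a * d) * s⁻¹) * (s * d * s⁻¹)⁻¹ := by group
        rw [e, h2, inv_mul_cancel_left]
        exact D.mul_mem hd (D.inv_mem ((mem_normalizer_iff.1 (hPD (h.SP hs)) d).1 hd))
      rw [h.inf, mem_bot] at h3
      have h4 : s * a * s⁻¹ = a := (inv_mul_eq_one.1 h3).symm
      have h5 : s * d * s⁻¹ = d := by
        have e : s * (a * d) * s⁻¹ = (s * a * s⁻¹) * (s * d * s⁻¹) := by group
        rw [e, h4] at h2
        exact mul_left_cancel h2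
      exact mem_centralizer_singleton_iff.2 (mul_inv_eq_iff_eq_mul.1 h5)
    rw [mem_centralizer_iff]
    intro p hp
    exact mem_centralizer_singleton_iff.1 (h1 hp)
  -- `V ≤ V₀ C_D(P)`
  have hn1 : P ≤ normalizer ((D ⊓ centralizer (P : Set G) : Subgroup G) : Set G) := by
    intro g hg
    rw [mem_normalizer_iff]
    intro x
    constructor
    · intro hx
      have e : g * x * g⁻¹ = x := by
        rw [mem_centralizer_iff.1 hx.2 g hg, mul_inv_cancel_right]
      rw [e]; exact hx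
    · intro hx
      have h1 := mem_centralizer_iff.1 hx.2 g hg
      have e : x = g * x * g⁻¹ := by
        have h2 : g * x = g * x * g⁻¹ * g := by group
        rw [← h1] at h2
        exact (mul_left_cancel h2)
      rw [e]; exact hx
  have hV : zl (S : Subgroup G) P ≤ V₀ ⊔ (D ⊓ centralizer (P : Set G)) := by
    refine zl_le (fun z hz => ?_) ?_
    · obtain ⟨a, ha, d, hd, rfl⟩ := h.exists_mul (zc_le_zl _ _ hz)
      exact mul_mem ((le_sup_left : V₀ ≤ _) ha)
        ((le_sup_right : D ⊓ centralizer (P : Set G) ≤ _) ⟨hd, hZ a ha d hd hz⟩)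
    · exact RTools.le_normalizer_sup h.nV hn1
  intro d hd
  have h2 : (D ⊓ centralizer (P : Set G) : Subgroup G) ≤ normalizer (V₀ : Set G) :=
    (inf_le_left.trans ((h.DV.trans h.VS).trans h.SP)).trans h.nV
  have h3 : d ∈ ((V₀ : Set G) * ((D ⊓ centralizer (P : Set G) : Subgroup G) : Set G)) := by
    rw [← coe_mul_of_right_le_normalizer_left _ _ h2]
    exact hV (h.DV hd)
  obtain ⟨x, hx, ε, hε, he⟩ := Set.mem_mul.1 h3
  have h4 : x ∈ V₀ ⊓ D := by
    refine ⟨hx, ?_⟩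
    have e : x = d * ε⁻¹ := by rw [← he]; group
    rw [e]
    exact D.mul_mem hd (D.inv_mem hε.1)
  rw [h.inf, mem_bot] at h4
  rw [← he, h4, one_mul]
  exact hε.2

theorem UD : zl (S : Subgroup G) H ≤ centralizer (D : Set G) := by
  rw [le_centralizer_iff]
  exact h.DP.trans (centralizer_le h.UP)

omit h in
/-- The `i`-th factor of `V₀`. -/
def fac (V₀ : Subgroup G) (M : NatK F (S : Subgroup G) P (zl (S : Subgroup G) P) D k) (i : Fin k) : Subgroup G where
  carrier := {v | (v ∈ V₀ ∧ v ∈ zl (S : Subgroup G) P) ∧ ∀ j, j ≠ i → M.e v j = 0}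
  one_mem' := ⟨⟨one_mem _, one_mem _⟩, fun i _ => by rw [e_one M]; rfl⟩
  mul_mem' := by
    rintro a b ⟨ha, ha'⟩ ⟨hb, hb'⟩
    exact ⟨⟨mul_mem ha.1 hb.1, mul_mem ha.2 hb.2⟩, fun i hi => by
      rw [M.mul a ha.2 b hb.2, Pi.add_apply, ha' i hi, hb' i hi, add_zero]⟩
  inv_mem' := by
    rintro a ⟨ha, ha'⟩
    exact ⟨⟨inv_mem ha.1, inv_mem ha.2⟩, fun i hi => by rw [e_inv M ha.2, Pi.neg_apply, ha' i hi, neg_zero]⟩

omit h in
/-- The line of the `i`-th factor of `V₀`. -/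
def lin (V₀ : Subgroup G) (M : NatK F (S : Subgroup G) P (zl (S : Subgroup G) P) D k) (i : Fin k) : Subgroup G where
  carrier := {v | v ∈ fac V₀ M i ∧ M.e v i 1 = 0}
  one_mem' := ⟨one_mem _, by rw [e_one M]; rfl⟩
  mul_mem' := by
    rintro a b ⟨ha, ha'⟩ ⟨hb, hb'⟩
    exact ⟨mul_mem ha hb, by
      rw [M.mul a ha.1.2 b hb.1.2, Pi.add_apply, Pi.add_apply, ha', hb', add_zero]⟩
  inv_mem' := by
    rintro a ⟨ha, ha'⟩
    exact ⟨inv_mem ha, by rw [e_inv M ha.1.2, Pi.neg_apply, Pi.neg_apply, ha', neg_zero]⟩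

theorem exists_fac (i : Fin k) (x : Fin 2 → F) : ∃ v ∈ fac V₀ M i, M.e v i = x := by
  classical
  obtain ⟨v, hv, he⟩ := h.surj₀ (Pi.single i x)
  exact ⟨v, ⟨⟨hv, h.V₀V hv⟩, fun j hj => by rw [he, Pi.single_eq_of_ne hj]⟩, by rw [he, Pi.single_eq_same]⟩

/-- The element of `V₀` with coordinates `![x i, 0]`. -/
noncomputable def vec (x : Fin k → F) : G := (h.surj₀ fun i => ![x i, 0]).choose

theorem vec_mem (x : Fin k → F) : h.vec x ∈ V₀ := (h.surj₀ fun i => ![x i, 0]).choose_spec.1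

theorem e_vec (x : Fin k → F) (i : Fin k) : M.e (h.vec x) i = ![x i, 0] :=
  congrFun (h.surj₀ fun i => ![x i, 0]).choose_spec.2 i

theorem vec_add (x y : Fin k → F) : h.vec (x + y) = h.vec x * h.vec y := by
  refine h.inj₀ (h.vec_mem _) (mul_mem (h.vec_mem x) (h.vec_mem y)) (funext fun i => ?_)
  rw [M.mul _ (h.V₀V (h.vec_mem x)) _ (h.V₀V (h.vec_mem y)), Pi.add_apply, e_vec, e_vec, e_vec]
  apply NatPair.ext2 <;> simp

theorem vec_inj : Function.Injective h.vec := by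
  intro x y hxy
  funext i
  have h1 := h.e_vec x i
  rw [hxy, e_vec] at h1
  exact (congrFun h1 0).symm

theorem vec_single_mem (i : Fin k) (c : F) : h.vec (Pi.single i c) ∈ lin V₀ M i := by
  refine ⟨⟨⟨h.vec_mem _, h.V₀V (h.vec_mem _)⟩, fun j hj => ?_⟩, ?_⟩
  · rw [e_vec, Pi.single_eq_of_ne hj]
    apply NatPair.ext2 <;> simp
  · rw [e_vec]; rfl

theorem mem_lin_iff (i : Fin k) (g : G) : g ∈ lin V₀ M i ↔ ∃ c : F, h.vec (Pi.single i c) = g := by
  constructor
  · intro hg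
    refine ⟨M.e g i 0, h.inj₀ (h.vec_mem _) hg.1.1.1 (funext fun j => ?_)⟩
    by_cases hj : j = i
    · subst hj
      rw [e_vec, Pi.single_eq_same]
      apply NatPair.ext2
      · rfl
      · exact hg.2.symm
    · rw [e_vec, Pi.single_eq_of_ne hj, hg.1.2 j hj]
      apply NatPair.ext2 <;> simp
  · rintro ⟨c, rfl⟩
    exact h.vec_single_mem i c

theorem eq_vec {v : G} (hv : v ∈ V₀) (h1 : ∀ i, M.e v i 1 = 0) : h.vec (fun i => M.e v i 0) = v := by
  refine h.inj₀ (h.vec_mem _) hv (funext fun i => ?_)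
  rw [e_vec]
  apply NatPair.ext2
  · rfl
  · exact (h1 i).symm

theorem cj_fac {s : G} (hs : s ∈ P) (i : Fin k) : cj s (fac V₀ M i) = fac V₀ M (sg M hs i) := by
  have key : ∀ {t : G} (ht : t ∈ P) (i : Fin k), ∀ v ∈ fac V₀ M i, t * v * t⁻¹ ∈ fac V₀ M (sg M ht i) := by
    intro t ht i v hv
    refine ⟨⟨h.cj₀ ht hv.1.1, cj_mem ht hv.1.2⟩, fun j hj => ?_⟩
    obtain ⟨l, rfl⟩ := (sg M ht).surjective j
    exact (sg_spec M ht hv.1.2 l).2 (hv.2 l fun h0 => hj (by rw [h0]))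
  ext v
  rw [mem_cj]
  constructor
  · intro hv
    have h1 := key hs i _ hv
    have e : s * (s⁻¹ * v * s) * s⁻¹ = v := by group
    rwa [e] at h1
  · intro hv
    have hv' : s⁻¹ * v * s ∈ V₀ := by
      have := h.cj₀ (inv_mem hs) hv.1.1
      rwa [inv_inv] at this
    refine ⟨⟨hv', h.V₀V hv'⟩, fun j hj => ?_⟩
    have h1 := (sg_spec M hs (h.V₀V hv') j)
    have e : s * (s⁻¹ * v * s) * s⁻¹ = v := by group
    rw [e] at h1
    exact h1.1 (hv.2 _ fun h0 => hj ((sg M hs).injective h0))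

/-- `S` is transitive on the factors -/
theorem exists_trans (i j : Fin k) : ∃ t ∈ (S : Subgroup G), ∃ ht : t ∈ P, sg M ht i = j := by
  obtain ⟨t, ht, h1⟩ := M.trans i j
  refine ⟨t, ht, h.SP ht, ?_⟩
  by_contra hne
  -- a vector of the factor `i`
  obtain ⟨v, hv, he⟩ := h.exists_fac i ![1, 0]
  obtain ⟨l, hl⟩ := (sg M (h.SP ht)).surjective j
  have hli : l ≠ i := by
    rintro rfl
    exact hne hl
  have h2 := (sg_spec M (h.SP ht) hv.1.2 l).2 (hv.2 l hli)
  rw [hl] at h2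
  have h3 := (h1 v hv.1.2).1 h2
  rw [he] at h3
  have := congrFun h3 0
  simp at this

variable [CharP F 2]

theorem exists_b {u : G} (hu : u ∈ zl (S : Subgroup G) H) : ∃ b : Fin k → F, Up M u b :=
  RStr.exists_up h.quad M hu

omit [CharP F 2] in
theorem cm₀ {u v : G} (hu : u ∈ P) (hv : v ∈ V₀) : u * v * u⁻¹ * v⁻¹ ∈ V₀ := mul_mem (h.cj₀ hu hv) (inv_mem hv)

omit [CharP F 2] in
theorem b_zero_iff {u : G} (hu : u ∈ P) {b : Fin k → F} (hb : Up M u b) (i : Fin k) :
    b i = 0 ↔ u ∈ centralizer (fac V₀ M i : Set G) := by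
  constructor
  · intro h0
    rw [mem_centralizer_iff]
    intro v hv
    have h1 : u * v * u⁻¹ * v⁻¹ = 1 := by
      refine h.inj₀ (h.cm₀ hu hv.1.1) (one_mem _) (funext fun j => ?_)
      rw [hb.cm hu hv.1.2 j, e_one M]
      by_cases hj : j = i
      · rw [hj, h0, zero_mul]
        apply NatPair.ext2 <;> rfl
      · rw [hv.2 j hj]
        apply NatPair.ext2 <;> simp
    calc v * u = 1 * (v * u) := by rw [one_mul]
      _ = u * v * u⁻¹ * v⁻¹ * (v * u) := by rw [h1]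
      _ = u * v := by group
  · intro hc
    obtain ⟨v, hv, he⟩ := h.exists_fac i ![0, 1]
    have h1 := mem_centralizer_iff.1 hc v hv
    have h2 : u * v * u⁻¹ * v⁻¹ = 1 := by rw [← h1]; group
    have h3 := hb.cm hu hv.1.2 i
    rw [h2, e_one M, he] at h3
    have := congrFun h3 0
    simpa using this.symm

omit [CharP F 2] in
/-- trivial action and `[u, D] = 1` -/
theorem cent_of {u : G} (hu : u ∈ zl (S : Subgroup G) H) {b : Fin k → F} (hb : Up M u b) (h0 : b = 0) :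
    u ∈ centralizer (zl (S : Subgroup G) P : Set G) := by
  have huP := h.UP hu
  rw [mem_centralizer_iff]
  intro v hv
  obtain ⟨a, ha, d, hd, rfl⟩ := h.exists_mul hv
  have h1 : u * a * u⁻¹ * a⁻¹ = 1 := by
    refine h.inj₀ (h.cm₀ huP ha) (one_mem _) (funext fun j => ?_)
    rw [hb.cm huP (h.V₀V ha) j, e_one M, h0, Pi.zero_apply, zero_mul]
    apply NatPair.ext2 <;> rfl
  have h2 : a * u = u * a := by
    calc a * u = 1 * (a * u) := by rw [one_mul]
      _ = u * a * u⁻¹ * a⁻¹ * (a * u) := by rw [h1]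
      _ = u * a := by group
  have h3 := mem_centralizer_iff.1 (h.UD hu) d hd
  calc a * d * u = a * (d * u) := by group
    _ = (a * u) * d := by rw [h3]; group
    _ = u * (a * d) := by rw [h2]; group

/-- `U_H` does not centralise a factor. -/
theorem not_cent (i : Fin k) : ¬ zl (S : Subgroup G) H ≤ centralizer (fac V₀ M i : Set G) := by
  intro hle
  refine h.pair.ne' fun u hu => ?_
  obtain ⟨b, hb⟩ := h.exists_b hu
  refine h.cent_of hu hb (funext fun j => ?_)
  obtain ⟨t, htS, ht, htj⟩ := h.exists_trans i j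
  rw [Pi.zero_apply, h.b_zero_iff (h.UP hu) hb j, ← htj, ← h.cj_fac ht i, ← cj_centralizer, mem_cj]
  refine hle ?_
  have := h.nrm t⁻¹ (inv_mem (h.SH htS)) u hu
  rwa [inv_inv] at this

theorem exists_u (i : Fin k) : ∃ u ∈ zl (S : Subgroup G) H, ∃ b, Up M u b ∧ b i ≠ 0 := by
  obtain ⟨u, hu, hn⟩ := SetLike.not_le_iff_exists.1 (h.not_cent i)
  obtain ⟨b, hb⟩ := h.exists_b hu
  exact ⟨u, hu, b, hb, fun h0 => hn ((h.b_zero_iff (h.UP hu) hb i).1 h0)⟩

/-- the commutator with an element of the factor `i` -/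
theorem cm_eq {u v : G} (hu : u ∈ zl (S : Subgroup G) H) {b : Fin k → F} (hb : Up M u b) {i : Fin k}
    (hv : v ∈ fac V₀ M i) : u * v * u⁻¹ * v⁻¹ = h.vec (Pi.single i (b i * M.e v i 1)) := by
  refine h.inj₀ (h.cm₀ (h.UP hu) hv.1.1) (h.vec_mem _) (funext fun j => ?_)
  rw [hb.cm (h.UP hu) hv.1.2 j, e_vec]
  by_cases hj : j = i
  · subst hj
    rw [Pi.single_eq_same]
  · rw [Pi.single_eq_of_ne hj, hv.2 j hj]
    apply NatPair.ext2 <;> simp

theorem vec_single (i : Fin k) (c : F) : h.vec (Pi.single i c) ∈ zl (S : Subgroup G) H := by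
  obtain ⟨u, hu, b, hb, hb0⟩ := h.exists_u i
  obtain ⟨v, hv, he⟩ := h.exists_fac i ![0, c / b i]
  have h1 := h.cm_eq hu hb hv
  rw [he] at h1
  have h2 : b i * (![0, c / b i] : Fin 2 → F) 1 = c := by
    change b i * (c / b i) = c
    field_simp
  rw [h2] at h1
  rw [← h1]
  have e : u * v * u⁻¹ * v⁻¹ = u * (v * u⁻¹ * v⁻¹) := by group
  rw [e]
  exact mul_mem hu (h.nrm v (h.VH hv.1.2) _ (inv_mem hu))

theorem vec_mem_U (x : Fin k → F) : h.vec x ∈ zl (S : Subgroup G) H := by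
  have key : ∀ s : Finset (Fin k), h.vec (∑ i ∈ s, Pi.single i (x i)) ∈ zl (S : Subgroup G) H := by
    intro s
    induction s using Finset.induction_on with
    | empty =>
      rw [Finset.sum_empty]
      have h1 : h.vec 0 = 1 := by
        refine h.inj₀ (h.vec_mem _) (one_mem _) (funext fun i => ?_)
        rw [e_vec, e_one M]
        apply NatPair.ext2 <;> rfl
      rw [h1]
      exact one_mem _
    | insert a s ha ih =>
      rw [Finset.sum_insert ha, vec_add]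
      exact mul_mem (h.vec_single a _) ih
  have h1 := key Finset.univ
  rwa [Finset.univ_sum_single] at h1

/-- `|U : C_U(N_i)| ≤ q` -/
theorem idx [Finite F] (i : Fin k) : Nat.card (zl (S : Subgroup G) H) ≤
    Nat.card F * Nat.card (zl (S : Subgroup G) H ⊓ centralizer (fac V₀ M i : Set G) : Subgroup G) := by
  set U := zl (S : Subgroup G) H with hU
  set K := U ⊓ centralizer (fac V₀ M i : Set G) with hK
  have hKU : K ≤ U := inf_le_left
  choose! b hb using fun (u : G) (hu : u ∈ U) => h.exists_b hu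
  let f : (U ⧸ K.subgroupOf U) → F := fun q => b (q.out : U) i
  have hinj : Function.Injective f := by
    intro q q' hqq
    have hq := hb _ q.out.2
    have hq' := hb _ q'.out.2
    have h1 : b (q.out : U) i = b (q'.out : U) i := hqq
    have h2 : ((q.out : U) : G)⁻¹ * (q'.out : U) ∈ K := by
      refine ⟨U.mul_mem (U.inv_mem q.out.2) q'.out.2, ?_⟩
      have h3 := Up.mul (h.UP q'.out.2) (Up.inv (h.UP q.out.2) hq) hq'
      refine (h.b_zero_iff (mul_mem (inv_mem (h.UP q.out.2)) (h.UP q'.out.2)) h3 i).1 ?_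
      rw [Pi.add_apply, Pi.neg_apply, h1, neg_add_cancel]
    have h3 : (QuotientGroup.mk (q.out : U) : U ⧸ K.subgroupOf U) = QuotientGroup.mk (q'.out : U) := by
      rw [QuotientGroup.eq, mem_subgroupOf]
      exact h2
    rwa [QuotientGroup.out_eq', QuotientGroup.out_eq'] at h3
  have h1 := Nat.card_le_card_of_injective f hinj
  have hcg : Nat.card (K.subgroupOf U) = Nat.card K := Nat.card_congr (subgroupOfEquivOfLe hKU).toEquiv
  rw [card_eq_card_quotient_mul_card_subgroup (K.subgroupOf U), hcg]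
  exact Nat.mul_le_mul_right _ h1

/-! ### full vectors -/

omit [CharP F 2] in
/-- `Z ∩ V₀ ≠ 1` -/
theorem exists_z : ∃ z ∈ zc (S : Subgroup G), z ∈ V₀ ∧ z ≠ 1 := by
  have : Fact (Nat.Prime 2) := ⟨Nat.prime_two⟩
  have hp : IsPGroup 2 V₀ := S.isPGroup'.to_le (h.V₀V.trans h.VS)
  have hne : V₀ ≠ ⊥ := by
    intro h0
    obtain ⟨v, hv, he⟩ := h.exists_fac ⟨0, h.pos⟩ ![1, 0]
    have h1 := hv.1.1
    rw [h0, mem_bot] at h1
    rw [h1, e_one M] at he
    have := congrFun he 0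
    simp at this
  have h2 := Cfsg.Agent.PLocal.OffenderStep.inf_centralizer_ne_bot V₀ (S : Subgroup G) hp S.isPGroup'
    (h.SP.trans h.nV) hne
  obtain ⟨x, hx, hx1⟩ : ∃ x ∈ V₀ ⊓ centralizer ((S : Subgroup G) : Set G), x ≠ 1 := by
    by_contra hcon
    push Not at hcon
    exact h2 ((eq_bot_iff_forall _).2 hcon)
  refine ⟨x, mem_zc.2 ⟨h.VS (h.V₀V hx.1), fun b hb => mem_centralizer_iff.1 hx.2 b hb, ?_⟩, hx.1, hx1⟩
  rw [pow_two]
  exact h.sqV x (h.V₀V hx.1)

omit [CharP F 2] in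
/-- all coordinates of `1 ≠ z ∈ Z ∩ V₀` are nonzero -/
theorem ez_ne {z : G} (hz : z ∈ zc (S : Subgroup G)) (hz0 : z ∈ V₀) (hz1 : z ≠ 1) (i : Fin k) : M.e z i ≠ 0 := by
  intro h0
  apply hz1
  refine h.inj₀ hz0 (one_mem _) (funext fun j => ?_)
  obtain ⟨t, ht, h1⟩ := M.trans j i
  have h2 : t * z * t⁻¹ = z := by
    rw [(mem_zc.1 hz).2.1 t ht, mul_inv_cancel_right]
  have h3 := h1 z (h.V₀V hz0)
  rw [h2] at h3
  rw [h3.1 h0, e_one M]
  rfl

omit [CharP F 2] in
/-- a full vector of `V₀` is `P`-conjugate to an element of `Z ∩ V₀` -/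
theorem exists_full {v : G} (hv : v ∈ V₀) (hf : ∀ i, M.e v i ≠ 0) :
    ∃ b ∈ P, ∃ z ∈ zc (S : Subgroup G), z ∈ V₀ ∧ z ≠ 1 ∧ b * z * b⁻¹ = v := by
  obtain ⟨z, hz, hz0, hz1⟩ := h.exists_z
  choose A hA using fun i => exists_ap (h.ez_ne hz hz0 hz1 i) (hf i)
  obtain ⟨b, hb, hbA⟩ := M.lift A
  refine ⟨b, hb, z, hz, hz0, hz1, ?_⟩
  refine h.inj₀ (h.cj₀ hb hz0) hv (funext fun i => ?_)
  rw [hbA.1 z (zc_le_zl _ _ hz) i, hA i]

omit [CharP F 2] in
/-- **An element fixing a full vector of `V₀`**: `V` and `V ^ t` commute. -/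
theorem fix {v t : G} (hv : v ∈ V₀) (hf : ∀ i, M.e v i ≠ 0) (ht : t * v = v * t) :
    ∀ w ∈ zl (S : Subgroup G) P, ∀ w' ∈ zl (S : Subgroup G) P, t * w * t⁻¹ * w' = w' * (t * w * t⁻¹) := by
  obtain ⟨b, hb, z, hz, hz0, hz1, hbz⟩ := h.exists_full hv hf
  -- `n = b⁻¹ t b ∈ C_G(z)`
  have hn : b⁻¹ * t * b ∈ centralizer ({z} : Set G) := by
    refine mem_centralizer_singleton_iff.2 ?_
    have e : z = b⁻¹ * v * b := by rw [← hbz]; group
    rw [e]
    calc b⁻¹ * t * b * (b⁻¹ * v * b) = b⁻¹ * (t * v) * b := by group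
      _ = b⁻¹ * (v * t) * b := by rw [ht]
      _ = b⁻¹ * v * b * (b⁻¹ * t * b) := by group
  set n := b⁻¹ * t * b with hnn
  have hO := h.hO z hz hz0 hz1
  have hSL : (S : Subgroup G) ≤ centralizer ({z} : Set G) := fun s hs =>
    mem_centralizer_singleton_iff.2 ((mem_zc.1 hz).2.1 s hs)
  have hL : IsLoc (S : Subgroup G) (centralizer ({z} : Set G)) :=
    isLoc_centralizer S (mem_zc.1 hz).2.2 hz1 hSL
  have hOS : o2 (centralizer ({z} : Set G)) ≤ (S : Subgroup G) := hL.o2_le S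
  have hOn : MulAut.conj n • o2 (centralizer ({z} : Set G)) = o2 (centralizer ({z} : Set G)) :=
    Pair.conj_eq_of_mem (Cfsg.Agent.MinSimple.VModule.le_normalizer_o2 _ hn)
  have D' := GeoLow.geo h.hc h.data
  have key : MulAut.conj n • zl (S : Subgroup G) P ≤
      centralizer ((MulAut.conj (1 : G) • zl (S : Subgroup G) P : Subgroup G) : Set G) := by
    refine D'.noff' h.pair.par h.pair.par ?_ ?_
    · rw [map_one, one_smul]
      have h1 : MulAut.conj n • zl (S : Subgroup G) P ≤ MulAut.conj n • o2 (centralizer ({z} : Set G)) :=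
        NoFF.Basic.conj_le_iff.2 hO
      rw [hOn] at h1
      exact (h1.trans hOS).trans h.SP
    · rw [map_one, one_smul]
      refine hO.trans ?_
      rw [← hOn]
      exact NoFF.Basic.conj_le_iff.2 (hOS.trans h.SP)
  rw [map_one, one_smul] at key
  intro w hw w' hw'
  have hb1 : b⁻¹ * w * b ∈ zl (S : Subgroup G) P := cj_mem' hb hw
  have hb2 : b⁻¹ * w' * b ∈ zl (S : Subgroup G) P := cj_mem' hb hw'
  have h3 : n * (b⁻¹ * w * b) * n⁻¹ ∈ MulAut.conj n • zl (S : Subgroup G) P := by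
    rw [NoFF.Basic.mem_conj]
    have e : n⁻¹ * (n * (b⁻¹ * w * b) * n⁻¹) * n = b⁻¹ * w * b := by group
    rwa [e]
  have h4 := mem_centralizer_iff.1 (key h3) _ hb2
  have e1 : t * w * t⁻¹ = b * (n * (b⁻¹ * w * b) * n⁻¹) * b⁻¹ := by rw [hnn]; group
  rw [e1]
  calc b * (n * (b⁻¹ * w * b) * n⁻¹) * b⁻¹ * w' =
      b * (n * (b⁻¹ * w * b) * n⁻¹ * (b⁻¹ * w' * b)) * b⁻¹ := by group
    _ = b * (b⁻¹ * w' * b * (n * (b⁻¹ * w * b) * n⁻¹)) * b⁻¹ := by rw [h4]
    _ = w' * (b * (n * (b⁻¹ * w * b) * n⁻¹) * b⁻¹) := by group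

/-- the axes -/
abbrev Kx (V₀ : Subgroup G) (M : NatK F (S : Subgroup G) P (zl (S : Subgroup G) P) D k) (H : Subgroup G)
    (i : Fin k) : Subgroup G := zl (S : Subgroup G) H ⊓ centralizer (fac V₀ M i : Set G)

/-- **Some axis does not contain `R`.** -/
theorem ex : ∃ x ∈ H, ∃ j w, h.vec w ∉ cj x (Kx V₀ M H j) := by
  by_contra hcon
  push Not at hcon
  -- `J = ⟨R^H⟩`
  set J : Subgroup G := closure {y | ∃ x ∈ H, ∃ w, y = x * h.vec w * x⁻¹} with hJ
  have hJK : ∀ j, J ≤ Kx V₀ M H j := by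
    intro j
    rw [hJ, closure_le]
    rintro y ⟨x, hx, w, rfl⟩
    have h1 := hcon x⁻¹ (inv_mem hx) j w
    rw [mem_cj, inv_inv] at h1
    exact h1
  have hJU : J ≤ zl (S : Subgroup G) H := (hJK ⟨0, h.pos⟩).trans inf_le_left
  have hHJ : H ≤ normalizer (J : Set G) := by
    have key : ∀ x ∈ H, ∀ y ∈ J, x * y * x⁻¹ ∈ J := by
      intro x hx y hy
      have h1 : J ≤ cj x⁻¹ J := by
        conv_lhs => rw [hJ]
        rw [closure_le]
        rintro y ⟨x', hx', w, rfl⟩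
        rw [SetLike.mem_coe, mem_cj, inv_inv]
        refine subset_closure ⟨x * x', mul_mem hx hx', w, by group⟩
      have h2 := h1 hy
      rwa [mem_cj, inv_inv] at h2
    intro x hx
    rw [mem_normalizer_iff]
    intro y
    refine ⟨key x hx y, fun hy => ?_⟩
    have h1 := key x⁻¹ (inv_mem hx) _ hy
    have e : x⁻¹ * (x * y * x⁻¹) * x⁻¹⁻¹ = y := by group
    rwa [e] at h1
  -- `J` centralises `V`
  have hJV : ∀ y ∈ J, y ∈ centralizer (zl (S : Subgroup G) P : Set G) := by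
    intro y hy
    obtain ⟨b, hb⟩ := h.exists_b (hJU hy)
    exact h.cent_of (hJU hy) hb (funext fun j => (h.b_zero_iff (h.UP (hJU hy)) hb j).2 (hJK j hy).2)
  -- `V` centralises `U`
  refine h.pair.ne fun v hv => ?_
  obtain ⟨a, ha, d, hd, rfl⟩ := h.exists_mul hv
  refine mul_mem ?_ ?_
  · refine RTransv.le_centralizer S h.SH hJU hHJ h.sq ⟨le_normalizer_zl _ _ (h.VH (h.V₀V ha)), fun u hu => ?_⟩ ?_
    · obtain ⟨b, hb⟩ := h.exists_b hu
      have h1 : u * a * u⁻¹ * a⁻¹ = h.vec fun i => b i * M.e a i 1 := by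
        refine h.inj₀ (h.cm₀ (h.UP hu) ha) (h.vec_mem _) (funext fun j => ?_)
        rw [hb.cm (h.UP hu) (h.V₀V ha) j, e_vec]
      have h2 : h.vec (fun i => b i * M.e a i 1) ∈ J := by
        refine subset_closure ⟨1, one_mem _, fun i => b i * M.e a i 1, ?_⟩
        rw [one_mul, inv_one, mul_one]
      have e : a * u * a⁻¹ * u⁻¹ = (u * a * u⁻¹ * a⁻¹)⁻¹ := by group
      rw [e, h1]
      exact inv_mem h2
    · rw [mem_centralizer_iff]
      intro y hy
      exact (mem_centralizer_iff.1 (hJV y hy) a (h.V₀V ha)).symm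
  · rw [mem_centralizer_iff]
    intro u hu
    exact (mem_centralizer_iff.1 (h.UD hu) d hd).symm

/-- **The family.** -/
theorem axR [Finite F] : AxR H (zl (S : Subgroup G) H) (Kx V₀ M H) (lin V₀ M) (fac V₀ M) h.vec where
  MU := h.nrm
  ab := h.ab
  sq := h.sq
  KU := fun i => inf_le_left
  add := h.vec_add
  inj := h.vec_inj
  LK := fun x i => ⟨h.vec_mem_U x, mem_centralizer_iff.2 fun v hv => h.abV v hv.1.2 _ (h.V₀V (h.vec_mem x))⟩
  memR := h.mem_lin_iff
  NM := fun i v hv => h.VH hv.1.2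
  cent := fun i a ha t ht => (mem_centralizer_iff.1 ha.2 t ht).symm
  comm := by
    intro i u hu t ht
    obtain ⟨b, hb⟩ := h.exists_b hu
    rw [h.cm_eq hu hb ht]
    exact h.vec_single_mem i _
  full := by
    intro i u hu huK y hy
    obtain ⟨b, hb⟩ := h.exists_b hu
    have hbi : b i ≠ 0 := fun h0 => huK ⟨hu, (h.b_zero_iff (h.UP hu) hb i).1 h0⟩
    obtain ⟨c, rfl⟩ := (h.mem_lin_iff i y).1 hy
    obtain ⟨t, ht, hte⟩ := h.exists_fac i ![0, c / b i]
    refine ⟨t, ht, ?_⟩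
    rw [h.cm_eq hu hb ht, hte]
    have h2 : b i * (![0, c / b i] : Fin 2 → F) 1 = c := by
      change b i * (c / b i) = c
      field_simp
    rw [h2]
  idx := h.idx
  trans := by
    intro i j
    obtain ⟨t, htS, ht, htj⟩ := h.exists_trans i j
    refine ⟨t, h.SH htS, ?_, fun w => ?_, ?_⟩
    · rw [Kx, cj_inf, cj_centralizer, h.cj_fac ht i, htj, cj_eq_of_mem_normalizer (le_normalizer_zl _ _ (h.SH htS))]
    · refine ⟨fun l => M.e (t * h.vec w * t⁻¹) l 0, (h.eq_vec (h.cj₀ ht (h.vec_mem w)) fun l => ?_).symm⟩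
      obtain ⟨m, rfl⟩ := (sg M ht).surjective l
      exact (e_conj_line M h.SP htS (h.V₀V (h.vec_mem w)) m).2 (by rw [h.e_vec]; rfl)
    · have h1 : t * h.vec (Pi.single i 1) * t⁻¹ ∈ lin V₀ M j := by
        have h2 : t * h.vec (Pi.single i 1) * t⁻¹ ∈ fac V₀ M j := by
          rw [← htj, ← h.cj_fac ht i, mem_cj]
          have e : t⁻¹ * (t * h.vec (Pi.single i 1) * t⁻¹) * t = h.vec (Pi.single i 1) := by group
          rw [e]
          exact (h.vec_single_mem i 1).1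
        refine ⟨h2, ?_⟩
        rw [← htj]
        exact (e_conj_line M h.SP htS (h.V₀V (h.vec_mem _)) i).2 (by rw [h.e_vec]; rfl)
      obtain ⟨d, hd⟩ := (h.mem_lin_iff j _).1 h1
      exact ⟨d, hd.symm⟩
  ex := h.ex
  fix := by
    intro x hx t ht htx w j
    refine ⟨h.nrm t ht _ (h.vec_mem_U w), mem_centralizer_iff.2 fun v hv => ?_⟩
    have hf : ∀ i, M.e (h.vec x) i ≠ 0 := by
      intro i h0
      rw [e_vec] at h0
      exact hx i (congrFun h0 0)
    exact (h.fix (h.vec_mem x) hf htx _ (h.V₀V (h.vec_mem w)) v hv.1.2).symm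

/-- **THEOREM EXACT with radical**: `U_H` induces all upper unitriangular elements of `SL₂(F)^k` on `V / D`. -/
theorem ind [Finite F] (hF : 2 < Nat.card F) (b₀ : Fin k → F) : ∃ u ∈ zl (S : Subgroup G) H, Up M u b₀ := by
  set U := zl (S : Subgroup G) H with hU
  have hax := h.axR
  -- an element moving only the factor `i`
  have key : ∀ (i : Fin k) (c : F), ∃ u ∈ U, Up M u (Pi.single i c) := by
    intro i c
    obtain ⟨hex, hcard⟩ := hax.exact hF i
    choose! b hb using fun (u : G) (hu : u ∈ U) => h.exists_b hu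
    set K := U ⊓ centralizer (fac V₀ M i : Set G) with hK
    have hKU : K ≤ U := inf_le_left
    let f : (U ⧸ K.subgroupOf U) → F := fun q => b (q.out : U) i
    have hinj : Function.Injective f := by
      intro q q' hqq
      have hq := hb _ q.out.2
      have hq' := hb _ q'.out.2
      have h1 : b (q.out : U) i = b (q'.out : U) i := hqq
      have h2 : ((q.out : U) : G)⁻¹ * (q'.out : U) ∈ K := by
        refine ⟨U.mul_mem (U.inv_mem q.out.2) q'.out.2, ?_⟩
        have h3 := Up.mul (h.UP q'.out.2) (Up.inv (h.UP q.out.2) hq) hq'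
        refine (h.b_zero_iff (mul_mem (inv_mem (h.UP q.out.2)) (h.UP q'.out.2)) h3 i).1 ?_
        rw [Pi.add_apply, Pi.neg_apply, h1, neg_add_cancel]
      have h3 : (QuotientGroup.mk (q.out : U) : U ⧸ K.subgroupOf U) = QuotientGroup.mk (q'.out : U) := by
        rw [QuotientGroup.eq, mem_subgroupOf]
        exact h2
      rwa [QuotientGroup.out_eq', QuotientGroup.out_eq'] at h3
    have hcg : Nat.card (K.subgroupOf U) = Nat.card K := Nat.card_congr (subgroupOfEquivOfLe hKU).toEquiv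
    have hq : Nat.card F ≤ Nat.card (U ⧸ K.subgroupOf U) := by
      rw [card_eq_card_quotient_mul_card_subgroup (K.subgroupOf U), hcg] at hcard
      exact (Nat.eq_of_mul_eq_mul_right Nat.card_pos hcard).ge
    have hbij := hinj.bijective_of_nat_card_le hq
    obtain ⟨q, hq⟩ := hbij.2 c
    obtain ⟨y, hy, hyl, hyi⟩ := hex _ q.out.2
    refine ⟨y, hy, ?_⟩
    have h1 : b y = Pi.single i c := by
      funext l
      by_cases hl : l = i
      · subst hl
        rw [Pi.single_eq_same]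
        have h3 := Up.mul (h.UP q.out.2) (Up.inv (h.UP hy) (hb y hy)) (hb _ q.out.2)
        have h4 := (h.b_zero_iff (mul_mem (inv_mem (h.UP hy)) (h.UP q.out.2)) h3 l).2 hyi.2
        rw [Pi.add_apply, Pi.neg_apply, neg_add_eq_zero] at h4
        rw [h4]
        exact hq
      · rw [Pi.single_eq_of_ne hl]
        exact (h.b_zero_iff (h.UP hy) (hb y hy) l).2 (hyl l hl).2
    rw [← h1]
    exact hb y hy
  have key2 : ∀ s : Finset (Fin k), ∃ u ∈ U, Up M u (∑ i ∈ s, Pi.single i (b₀ i)) := by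
    intro s
    induction s using Finset.induction_on with
    | empty =>
      refine ⟨1, one_mem _, ?_⟩
      rw [Finset.sum_empty]
      intro v hv i
      rw [Pi.zero_apply, up_zero, ap_one, one_mul, inv_one, mul_one]
    | insert a s ha ih =>
      obtain ⟨u, hu, hub⟩ := ih
      obtain ⟨v, hv, hvb⟩ := key a (b₀ a)
      refine ⟨v * u, mul_mem hv hu, ?_⟩
      rw [Finset.sum_insert ha]
      exact Up.mul (h.UP hu) hvb hub
  obtain ⟨u, hu, hub⟩ := key2 Finset.univ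
  rw [Finset.univ_sum_single] at hub
  exact ⟨u, hu, hub⟩

/-- **`U_H` offends on `V_P`.** -/
theorem off [Finite F] (hF : 2 < Nat.card F) : Off (zl (S : Subgroup G) P) (zl (S : Subgroup G) H) := by
  refine ⟨FFThm.elem_zl h.hc S h.pair.long.loc, h.pair.ne', ?_⟩
  rw [FFThm.relIndex_le_iff]
  set U := zl (S : Subgroup G) H with hU
  -- `|V : C_V(U)| ≤ q ^ k`
  have h1 : (centralizer (U : Set G)).relIndex (zl (S : Subgroup G) P) ≤ Nat.card (Fin k → F) := by
    let f : (zl (S : Subgroup G) P ⧸ (centralizer (U : Set G)).subgroupOf (zl (S : Subgroup G) P)) → (Fin k → F) :=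
      fun q i => M.e (q.out : zl (S : Subgroup G) P) i 1
    have hinj : Function.Injective f := by
      intro q q' hqq
      have h1 : ∀ i, M.e (q.out : zl (S : Subgroup G) P) i 1 = M.e (q'.out : zl (S : Subgroup G) P) i 1 :=
        fun i => congrFun hqq i
      have h2 : ((q.out : zl (S : Subgroup G) P) : G)⁻¹ * (q'.out : zl (S : Subgroup G) P) ∈
          centralizer (U : Set G) := by
        have hvV : ((q.out : zl (S : Subgroup G) P) : G)⁻¹ * (q'.out : zl (S : Subgroup G) P) ∈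
          zl (S : Subgroup G) P := (zl (S : Subgroup G) P).mul_mem ((zl (S : Subgroup G) P).inv_mem q.out.2) q'.out.2
        have hv1 : ∀ i, M.e (((q.out : zl (S : Subgroup G) P) : G)⁻¹ * (q'.out : zl (S : Subgroup G) P)) i 1 = 0 := by
          intro i
          rw [M.mul _ ((zl (S : Subgroup G) P).inv_mem q.out.2) _ q'.out.2, Pi.add_apply, Pi.add_apply,
            e_inv M q.out.2, Pi.neg_apply, Pi.neg_apply, h1 i, neg_add_cancel]
        obtain ⟨a, ha, d, hd, hvd⟩ := h.exists_mul hvV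
        rw [hvd] at hv1 ⊢
        refine mem_centralizer_iff.2 fun u hu => ?_
        obtain ⟨b, hb⟩ := h.exists_b hu
        have h3 : u * a * u⁻¹ * a⁻¹ = 1 := by
          refine h.inj₀ (h.cm₀ (h.UP hu) ha) (one_mem _) (funext fun i => ?_)
          have h4 := hv1 i
          rw [M.mul _ (h.V₀V ha) _ (h.DV hd), (M.ker d (h.DV hd)).2 hd, add_zero] at h4
          rw [hb.cm (h.UP hu) (h.V₀V ha) i, h4, mul_zero, e_one M]
          apply NatPair.ext2 <;> rfl
        have h5 := mem_centralizer_iff.1 (h.UD hu) d hd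
        calc u * (a * d) = u * a * u⁻¹ * a⁻¹ * (a * (u * d)) := by group
          _ = a * (u * d) := by rw [h3, one_mul]
          _ = a * d * u := by rw [← h5]; group
      have h3 : (QuotientGroup.mk (q.out : zl (S : Subgroup G) P) :
          zl (S : Subgroup G) P ⧸ (centralizer (U : Set G)).subgroupOf (zl (S : Subgroup G) P)) =
          QuotientGroup.mk (q'.out : zl (S : Subgroup G) P) := by
        rw [QuotientGroup.eq, mem_subgroupOf]
        exact h2
      rwa [QuotientGroup.out_eq', QuotientGroup.out_eq'] at h3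
    exact Nat.card_le_card_of_injective f hinj
  refine h1.trans ?_
  choose u hu hub using h.ind hF
  let f : (Fin k → F) → (U ⧸ (centralizer (zl (S : Subgroup G) P : Set G)).subgroupOf U) :=
    fun b => QuotientGroup.mk ⟨u b, hu b⟩
  have hinj : Function.Injective f := by
    intro b b' hbb
    have h2 := QuotientGroup.eq.1 hbb
    rw [mem_subgroupOf] at h2
    change (u b)⁻¹ * u b' ∈ centralizer (zl (S : Subgroup G) P : Set G) at h2
    have h3 : Up M ((u b)⁻¹ * u b') (-b + b') :=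
      Up.mul (h.UP (hu b')) (Up.inv (h.UP (hu b)) (hub b)) (hub b')
    funext i
    have h4 : (-b + b') i = 0 := by
      refine (h.b_zero_iff (mul_mem (inv_mem (h.UP (hu b))) (h.UP (hu b'))) h3 i).2 ?_
      exact centralizer_le (fun v hv => (hv.1.2 : v ∈ zl (S : Subgroup G) P)) h2
    rw [Pi.add_apply, Pi.neg_apply, neg_add_eq_zero] at h4
    exact h4
  exact Nat.card_le_card_of_injective f hinj

end Spl

end Cfsg.Agent.Omega.NOThreeL.RBig.AxRInst

end

private theorem dce_69737950e1a1 : _root_.True := by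
  try have : _root_.True := by simp only [_root_.Cfsg.Agent.Omega.NOThreeL.RBig.AxRInst.Spl.vec.congr_simp]
  try have : _root_.True := by simp only [_root_.Cfsg.Agent.Omega.NOThreeL.RBig.AxRInst.Spl.Kx.eq_1]
  exact _root_.True.intro
end

-- part: Mrg/Omega/NOThreeL/RLow/RC/Star
section
prune_inst 0x30000d00112200000018050020003c0292000102002800000040010204c1cd00a0408121aa20111010102a44003000601318004040000000000000000119048110281400b0480008a00010000004000000000000000000000000000000000000200000000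
set_option linter.all false
open scoped Cfsg.Agent.FastGrp


/-!
# [R-low] (#21762), RC: the module half (#22231 (B), helper535)

`N : NatKM K S P U D k`, `U = ⟨Z^P⟩`, `D` not necessarily centralised by `S` (nonsplit modules, field automorphisms):

* `Pre.uni` (UNI) : `g ∈ P` trivial on `U / D` and on `D` centralises `U`;
* `Pre.root` : the root elements of `S` centralise the root lines `{u | e u i 1 = 0}`;
* `StarA` (`Star` for `U = zl S P`, `D = cv S P`, `Z = zc S`) : `R* ≤ U`, an `S`-invariant complement of `D` in the root lines; `Z = (Z ∩ D) × (Z ∩ R*)`; the vectors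
  `d r`, `d ∈ Z ∩ D`, `r ∈ R*` of full support, lie in points `Z^g`, `g ∈ P`;
* `Pre.exists_star`, `exists_star`.
-/

set_option autoImplicit false
set_option linter.unusedSectionVars false

namespace Cfsg.Agent.Omega.NOThreeL.RLow.Star

open Subgroup Cfsg Cfsg.Agent.ZN
open Cfsg.Agent.ZN.ChoiceSit (Syl exists_syl syl_conj)
open Cfsg.Agent.ZN.ChoiceBase (cj mem_cj card_cj isPGroup_cj cj_mono)
open Cfsg.Agent.Omega.FFThm (NatKM ActsSL)
open Cfsg.Agent.Omega.NatPair (ap ap_mul ap_one ap_inv_ap ap_zero' ap_one' ap_inj ext2)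
open Cfsg.Agent.Lib.SL2Mat
open scoped Pointwise

universe u

variable {G : Type u} [Group G] {K : Type} [Field K] {k : ℕ}

/-- The hypotheses: `S` Sylow in `P`, `U = ⟨Z^P⟩` elementary abelian, `Z = C_U(S)`, `D ≤ U` invariant under `P`. -/
structure Pre (S P U D Z : Subgroup G) : Prop where
  syl : Syl S P
  US : U ≤ S
  nU : P ≤ normalizer (U : Set G)
  nD : P ≤ normalizer (D : Set G)
  DU : D ≤ U
  ab : ∀ u ∈ U, ∀ v ∈ U, u * v = v * u
  sq : ∀ u ∈ U, u * u = 1
  ZU : Z ≤ U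
  Zc : ∀ t ∈ S, ∀ z ∈ Z, t * z = z * t
  Zm : ∀ u ∈ U, (∀ t ∈ S, t * u = u * t) → u ∈ Z
  gen : ∀ W : Subgroup G, Z ≤ W → P ≤ normalizer (W : Set G) → U ≤ W

variable {S P U D Z : Subgroup G}

namespace Pre

variable (h : Pre S P U D Z)

include h

theorem SP : S ≤ P := h.syl.1

theorem cU {g v : G} (hg : g ∈ P) (hv : v ∈ U) : g * v * g⁻¹ ∈ U := (mem_normalizer_iff.1 (h.nU hg) v).1 hv

theorem cU' {g v : G} (hg : g ∈ P) (hv : v ∈ U) : g⁻¹ * v * g ∈ U := by
  have h1 := h.cU (P.inv_mem hg) hv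
  rwa [inv_inv] at h1

theorem cD {g v : G} (hg : g ∈ P) (hv : v ∈ D) : g * v * g⁻¹ ∈ D := (mem_normalizer_iff.1 (h.nD hg) v).1 hv

theorem inv_eq {u : G} (hu : u ∈ U) : u⁻¹ = u := inv_eq_of_mul_eq_one_left (h.sq u hu)

variable (N : NatKM K S P U D k)

theorem e_one : N.e 1 = 0 := (N.ker 1 U.one_mem).2 D.one_mem

theorem e_inv {u : G} (hu : u ∈ U) : N.e u⁻¹ = -N.e u := by
  have h1 := N.mul u hu u⁻¹ (U.inv_mem hu)
  rw [mul_inv_cancel, h.e_one N] at h1
  exact (neg_eq_of_add_eq_zero_right h1.symm).symm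

/-- two elements of `U` with the same coordinates differ by an element of `D` -/
theorem e_eq_iff {u v : G} (hu : u ∈ U) (hv : v ∈ U) : N.e u = N.e v ↔ u * v⁻¹ ∈ D := by
  rw [← N.ker _ (U.mul_mem hu (U.inv_mem hv)), N.mul u hu _ (U.inv_mem hv), h.e_inv N hv, add_neg_eq_zero]

end Pre

/-! ### (UNI) -/

/-- The elements of `P` which are trivial on `U / D` and on `D`. -/
def Un (N : NatKM K S P U D k) (g : G) : Prop :=
  g ∈ P ∧ (∀ v ∈ U, N.e (g * v * g⁻¹) = N.e v) ∧ ∀ d ∈ D, g * d = d * g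

namespace Pre

variable (h : Pre S P U D Z) (N : NatKM K S P U D k)

include h

theorem un_mul {g g' : G} (hg : Un N g) (hg' : Un N g') : Un N (g * g') := by
  refine ⟨P.mul_mem hg.1 hg'.1, fun v hv => ?_, fun d hd => ?_⟩
  · have e1 : g * g' * v * (g * g')⁻¹ = g * (g' * v * g'⁻¹) * g⁻¹ := by group
    rw [e1, hg.2.1 _ (h.cU hg'.1 hv), hg'.2.1 v hv]
  · rw [mul_assoc, hg'.2.2 d hd, ← mul_assoc, hg.2.2 d hd, mul_assoc]

theorem un_inv {g : G} (hg : Un N g) : Un N g⁻¹ := by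
  refine ⟨P.inv_mem hg.1, fun v hv => ?_, fun d hd => ?_⟩
  · have h1 := hg.2.1 _ (h.cU (P.inv_mem hg.1) hv)
    have e1 : g * (g⁻¹ * v * g⁻¹⁻¹) * g⁻¹ = v := by group
    rw [e1] at h1
    exact h1.symm
  · have h1 := hg.2.2 d hd
    calc g⁻¹ * d = g⁻¹ * (d * g) * g⁻¹ := by group
      _ = g⁻¹ * (g * d) * g⁻¹ := by rw [h1]
      _ = d * g⁻¹ := by group

theorem un_one : Un N (1 : G) := ⟨P.one_mem, fun v _ => by simp, fun d _ => by simp⟩

/-- the subgroup of all these elements -/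
def unS : Subgroup G where
  carrier := {g | Un N g}
  mul_mem' := fun ha hb => h.un_mul N ha hb
  one_mem' := h.un_one N
  inv_mem' := fun ha => h.un_inv N ha

theorem unS_le : h.unS N ≤ P := fun _ hg => hg.1

theorem un_conj {p g : G} (hp : p ∈ P) (hg : Un N g) : Un N (p * g * p⁻¹) := by
  refine ⟨P.mul_mem (P.mul_mem hp hg.1) (P.inv_mem hp), fun v hv => ?_, fun d hd => ?_⟩
  · have hv' := h.cU' hp hv
    have h1 : g * (p⁻¹ * v * p) * g⁻¹ * (p⁻¹ * v * p)⁻¹ ∈ D :=
      (h.e_eq_iff N (h.cU hg.1 hv') hv').1 (hg.2.1 _ hv')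
    have h2 := h.cD hp h1
    have e1 : p * (g * (p⁻¹ * v * p) * g⁻¹ * (p⁻¹ * v * p)⁻¹) * p⁻¹ =
        p * g * p⁻¹ * v * (p * g * p⁻¹)⁻¹ * v⁻¹ := by group
    rw [e1] at h2
    exact (h.e_eq_iff N (h.cU (P.mul_mem (P.mul_mem hp hg.1) (P.inv_mem hp)) hv) hv).2 h2
  · have h1 := hg.2.2 _ (h.cD (P.inv_mem hp) hd)
    rw [inv_inv] at h1
    calc p * g * p⁻¹ * d = p * (g * (p⁻¹ * d * p)) * p⁻¹ := by group
      _ = p * (p⁻¹ * d * p * g) * p⁻¹ := by rw [h1]
      _ = d * (p * g * p⁻¹) := by group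

/-- the commutator lies in `D` -/
theorem un_comm {g v : G} (hg : Un N g) (hv : v ∈ U) : g * v * g⁻¹ * v⁻¹ ∈ D :=
  (h.e_eq_iff N (h.cU hg.1 hv) hv).1 (hg.2.1 v hv)

/-- `g²` is trivial on `U` -/
theorem un_sq {g v : G} (hg : Un N g) (hv : v ∈ U) : g * g * v = v * (g * g) := by
  set d := g * v * g⁻¹ * v⁻¹ with hd
  have hdD : d ∈ D := h.un_comm N hg hv
  have e1 : g * v * g⁻¹ = d * v := by rw [hd]; group
  have e2 : g * g * v * (g * g)⁻¹ = v := by
    calc g * g * v * (g * g)⁻¹ = g * (g * v * g⁻¹) * g⁻¹ := by group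
      _ = g * (d * v) * g⁻¹ := by rw [e1]
      _ = g * d * (v * g⁻¹) := by group
      _ = d * g * (v * g⁻¹) := by rw [hg.2.2 d hdD]
      _ = d * (g * v * g⁻¹) := by group
      _ = d * (d * v) := by rw [e1]
      _ = d * d * v := by group
      _ = v := by rw [h.sq d (h.DU hdD), one_mul]
  calc g * g * v = g * g * v * (g * g)⁻¹ * (g * g) := by group
    _ = v * (g * g) := by rw [e2]

/-- conjugates under `Un` act in the same way -/
theorem un_conj_act {p g v : G} (hp : Un N p) (hg : Un N g) (hv : v ∈ U) :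
    p * g * p⁻¹ * v * (p * g * p⁻¹)⁻¹ = g * v * g⁻¹ := by
  set a := p⁻¹ * v * p⁻¹⁻¹ * v⁻¹ with ha
  have haD : a ∈ D := h.un_comm N (h.un_inv N hp) hv
  set d := g * v * g⁻¹ * v⁻¹ with hd
  have hdD : d ∈ D := h.un_comm N hg hv
  have e1 : p⁻¹ * v * p = a * v := by rw [ha]; group
  have e2 : g * v * g⁻¹ = d * v := by rw [hd]; group
  have e3 : p * (a * v) * p⁻¹ = v := by rw [← e1]; group
  calc p * g * p⁻¹ * v * (p * g * p⁻¹)⁻¹ = p * (g * (p⁻¹ * v * p) * g⁻¹) * p⁻¹ := by group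
    _ = p * (g * (a * v) * g⁻¹) * p⁻¹ := by rw [e1]
    _ = p * (g * a * (v * g⁻¹)) * p⁻¹ := by group
    _ = p * (a * g * (v * g⁻¹)) * p⁻¹ := by rw [hg.2.2 a haD]
    _ = p * (a * (g * v * g⁻¹)) * p⁻¹ := by group
    _ = p * (a * (d * v)) * p⁻¹ := by rw [e2]
    _ = p * (a * d * v) * p⁻¹ := by group
    _ = p * (d * a * v) * p⁻¹ := by rw [h.ab a (h.DU haD) d (h.DU hdD)]
    _ = p * d * (a * v * p⁻¹) := by group
    _ = d * p * (a * v * p⁻¹) := by rw [hp.2.2 d hdD]
    _ = d * (p * (a * v) * p⁻¹) := by group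
    _ = g * v * g⁻¹ := by rw [e3, e2]

variable [Finite G]

/-- the 2-elements of `Un` centralise `Z` -/
theorem un_two {g : G} (hg : Un N g) (h2 : IsPGroup 2 (zpowers g)) : ∀ z ∈ Z, g * z * g⁻¹ = z := by
  have hgz : zpowers g ≤ h.unS N := zpowers_le.2 hg
  obtain ⟨T₁, hT₁, hg1⟩ := exists_syl h2 hgz
  have hQ2 : IsPGroup 2 ↥(S ⊓ h.unS N) := h.syl.2.1.to_le inf_le_left
  obtain ⟨T₄, hT₄, hQ4⟩ := exists_syl hQ2 (X := h.unS N) inf_le_right
  -- a conjugate of `T₁` is in `S`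
  obtain ⟨T₂, hT₂, h12⟩ := exists_syl hT₁.2.1 (hT₁.1.trans (h.unS_le N))
  obtain ⟨p, hp, hps⟩ := syl_conj hT₂ h.syl
  have h3 : cj p T₁ ≤ S ⊓ h.unS N := by
    refine le_inf ((cj_mono p h12).trans hps.le) fun x hx => ?_
    have h4 : p⁻¹ * x * p ∈ T₁ := mem_cj.1 hx
    have h5 := h.un_conj N hp (hT₁.1 h4)
    have e1 : p * (p⁻¹ * x * p) * p⁻¹ = x := by group
    rwa [e1] at h5
  obtain ⟨u, hu, hu1⟩ := syl_conj hT₁ hT₄
  have hc : Nat.card T₄ = Nat.card T₁ := by rw [← hu1, card_cj]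
  have hQ : S ⊓ h.unS N = T₄ := by
    refine Subgroup.eq_of_le_of_card_ge hQ4 ?_
    rw [hc, ← card_cj p T₁]
    exact Subgroup.card_le_of_le h3
  have hgu : u * g * u⁻¹ ∈ S := by
    have h6 : u * g * u⁻¹ ∈ T₄ := by
      rw [← hu1, mem_cj]
      have e1 : u⁻¹ * (u * g * u⁻¹) * u = g := by group
      rw [e1]
      exact hg1 (mem_zpowers g)
    rw [← hQ] at h6
    exact h6.1
  intro z hz
  rw [← h.un_conj_act N hu hg (h.ZU hz), h.Zc _ hgu z hz]
  group

/-- all elements of `Un` centralise `Z` -/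
theorem un_Z {g : G} (hg : Un N g) : ∀ z ∈ Z, g * z = z * g := by
  -- `g^m` is a 2-element and acts as `g` for a suitable odd `m`
  intro z hz
  obtain ⟨a, m, hm, ho⟩ : ∃ a m : ℕ, Odd m ∧ orderOf g = 2 ^ a * m := by
    obtain ⟨a, m, hm, ho⟩ := Nat.exists_eq_two_pow_mul_odd (orderOf_pos g).ne'
    exact ⟨a, m, hm, ho⟩
  have h1 : Un N (g ^ m) := (h.unS N).pow_mem hg m
  have h2 : IsPGroup 2 (zpowers (g ^ m)) := by
    refine IsPGroup.of_card (n := a) ?_
    rw [Nat.card_zpowers, orderOf_pow' g (Nat.pos_of_ne_zero (by rintro rfl; simp at hm)).ne', ho,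
      Nat.gcd_eq_right (Dvd.intro_left _ rfl), Nat.mul_div_cancel _ (Nat.pos_of_ne_zero (by rintro rfl; simp at hm))]
  have h3 := h.un_two N h1 h2 z hz
  obtain ⟨j, rfl⟩ := hm
  have h4 : ∀ j : ℕ, ∀ v ∈ U, (g * g) ^ j * v = v * (g * g) ^ j := by
    intro j
    induction j with
    | zero => intro v _; simp
    | succ j ih =>
      intro v hv
      rw [pow_succ, mul_assoc, h.un_sq N hg hv, ← mul_assoc, ih v hv, mul_assoc]
  have e1 : g ^ (2 * j + 1) = g * (g * g) ^ j := by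
    rw [pow_succ', pow_mul, pow_two]
  have e2 : g * z * g⁻¹ = z := by
    calc g * z * g⁻¹ = g * (z * (g * g) ^ j) * ((g * g) ^ j)⁻¹ * g⁻¹ := by group
      _ = g * ((g * g) ^ j * z) * ((g * g) ^ j)⁻¹ * g⁻¹ := by rw [h4 j z (h.ZU hz)]
      _ = g ^ (2 * j + 1) * z * (g ^ (2 * j + 1))⁻¹ := by rw [e1]; group
      _ = z := h3
  calc g * z = g * z * g⁻¹ * g := by group
    _ = z * g := by rw [e2]

/-- **(UNI)** -/
theorem uni {g : G} (hg : Un N g) : ∀ u ∈ U, g * u = u * g := by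
  let W : Subgroup G := U ⊓ centralizer (h.unS N : Set G)
  have h1 : Z ≤ W := by
    refine le_inf h.ZU fun z hz => mem_centralizer_iff.2 fun x hx => ?_
    exact h.un_Z N hx z hz
  have h2 : P ≤ normalizer (W : Set G) := by
    intro p hp
    have key : ∀ p ∈ P, ∀ w ∈ W, p * w * p⁻¹ ∈ W := by
      intro p hp w hw
      refine ⟨h.cU hp hw.1, mem_centralizer_iff.2 fun x hx => ?_⟩
      have h3 : p⁻¹ * x * p ∈ h.unS N := by
        have h4 := h.un_conj N (P.inv_mem hp) hx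
        rwa [inv_inv] at h4
      have h5 := (mem_centralizer_iff.1 hw.2) _ h3
      calc x * (p * w * p⁻¹) = p * (p⁻¹ * x * p * w) * p⁻¹ := by group
        _ = p * (w * (p⁻¹ * x * p)) * p⁻¹ := by rw [h5]
        _ = p * w * p⁻¹ * x := by group
    rw [mem_normalizer_iff]
    intro w
    refine ⟨fun hw => key p hp w hw, fun hw => ?_⟩
    have h6 := key p⁻¹ (P.inv_mem hp) _ hw
    have e1 : p⁻¹ * (p * w * p⁻¹) * p⁻¹⁻¹ = w := by group
    rwa [e1] at h6
  intro u hu
  exact (mem_centralizer_iff.1 (h.gen W h1 h2 hu).2) g hg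

/-- two elements of `P` with the same action on `U / D` and on `D` act in the same way on `U` -/
theorem uni₂ {g g' : G} (hg : g ∈ P) (hg' : g' ∈ P) (h1 : ∀ v ∈ U, N.e (g * v * g⁻¹) = N.e (g' * v * g'⁻¹))
    (h2 : ∀ d ∈ D, g * d = d * g) (h3 : ∀ d ∈ D, g' * d = d * g') : ∀ v ∈ U, g * v * g⁻¹ = g' * v * g'⁻¹ := by
  have h4 : Un N (g'⁻¹ * g) := by
    refine ⟨P.mul_mem (P.inv_mem hg') hg, fun v hv => ?_, fun d hd => ?_⟩
    · have h5 := (h.e_eq_iff N (h.cU hg hv) (h.cU hg' hv)).1 (h1 v hv)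
      have h6 := h.cD (P.inv_mem hg') h5
      have e1 : g'⁻¹ * (g * v * g⁻¹ * (g' * v * g'⁻¹)⁻¹) * g'⁻¹⁻¹ = g'⁻¹ * g * v * (g'⁻¹ * g)⁻¹ * v⁻¹ := by group
      rw [e1] at h6
      exact (h.e_eq_iff N (h.cU (P.mul_mem (P.inv_mem hg') hg) hv) hv).2 h6
    · have h7 := h3 d hd
      calc g'⁻¹ * g * d = g'⁻¹ * (g * d) := by group
        _ = g'⁻¹ * (d * g) := by rw [h2 d hd]
        _ = g'⁻¹ * (d * g') * (g'⁻¹ * g) := by group
        _ = g'⁻¹ * (g' * d) * (g'⁻¹ * g) := by rw [h7]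
        _ = d * (g'⁻¹ * g) := by group
  intro v hv
  have h5 := h.uni N h4 v hv
  calc g * v * g⁻¹ = g' * (g'⁻¹ * g * v) * g⁻¹ := by group
    _ = g' * (v * (g'⁻¹ * g)) * g⁻¹ := by rw [h5]
    _ = g' * v * g'⁻¹ := by group

end Pre

/-! ### The root lines and (ROOT) -/

/-- `A B = up c · (B A)` for upper triangular `A`, `B`. -/
theorem exists_up_comm (A B : Matrix.SpecialLinearGroup (Fin 2) K) (hA : ent A 1 0 = 0) (hB : ent B 1 0 = 0) :
    ∃ c, A * B = up c * (B * A) := by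
  have dA := det_eq A
  have dB := det_eq B
  rw [hA, mul_zero, sub_zero] at dA
  rw [hB, mul_zero, sub_zero] at dB
  refine ⟨(ent A 0 0 * ent B 0 1 + ent A 0 1 * ent B 1 1 - ent B 0 0 * ent A 0 1 - ent B 0 1 * ent A 1 1) *
    (ent A 0 0 * ent B 0 0), ?_⟩
  apply ext_ent
  · simp only [ent_mul, up_00, up_01, hA, hB]; ring
  · simp only [ent_mul, up_00, up_01, hB]
    linear_combination (ent A 0 0 * ent B 0 1 + ent A 0 1 * ent B 1 1 - ent B 0 0 * ent A 0 1 - ent B 0 1 * ent A 1 1) *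
      (-(ent B 0 0 * ent B 1 1) * dA - dB)
  · simp only [ent_mul, up_10, up_11, hA, hB]; ring
  · simp only [ent_mul, up_10, up_11, hA, hB]; ring

namespace Pre

variable (h : Pre S P U D Z) (N : NatKM K S P U D k)

include h

theorem acts_mul {g g' : G} {A B : Fin k → Matrix.SpecialLinearGroup (Fin 2) K} (hg' : g' ∈ P)
    (h1 : ActsSL N.e U D g A) (h2 : ActsSL N.e U D g' B) : ActsSL N.e U D (g * g') (A * B) := by
  refine ⟨fun v hv i => ?_, fun d hd => ?_⟩
  · have e1 : g * g' * v * (g * g')⁻¹ = g * (g' * v * g'⁻¹) * g⁻¹ := by group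
    rw [e1, h1.1 _ (h.cU hg' hv), h2.1 v hv, Pi.mul_apply, ap_mul]
  · rw [mul_assoc, h2.2 d hd, ← mul_assoc, h1.2 d hd, mul_assoc]

theorem acts_inv {g : G} {A : Fin k → Matrix.SpecialLinearGroup (Fin 2) K} (hg : g ∈ P)
    (h1 : ActsSL N.e U D g A) : ActsSL N.e U D g⁻¹ A⁻¹ := by
  refine ⟨fun v hv i => ?_, fun d hd => ?_⟩
  · have h2 := h1.1 _ (h.cU (P.inv_mem hg) hv) i
    have e1 : g * (g⁻¹ * v * g⁻¹⁻¹) * g⁻¹ = v := by group
    rw [e1] at h2
    rw [h2, Pi.inv_apply, ap_inv_ap]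
  · have h2 := h1.2 d hd
    calc g⁻¹ * d = g⁻¹ * (d * g) * g⁻¹ := by group
      _ = g⁻¹ * (g * d) * g⁻¹ := by rw [h2]
      _ = d * g⁻¹ := by group

theorem acts_eq [Finite G] {g g' : G} {A : Fin k → Matrix.SpecialLinearGroup (Fin 2) K} (hg : g ∈ P) (hg' : g' ∈ P)
    (h1 : ActsSL N.e U D g A) (h2 : ActsSL N.e U D g' A) : ∀ v ∈ U, g * v * g⁻¹ = g' * v * g'⁻¹ := by
  refine h.uni₂ N hg hg' (fun v hv => ?_) h1.2 h2.2
  funext i
  rw [h1.1 v hv, h2.1 v hv]

theorem Z_line {z : G} (hz : z ∈ Z) (i : Fin k) : N.e z i 1 = 0 := by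
  obtain ⟨t, ht, h1⟩ := N.unip fun _ => 1
  have h2 := congrFun (h1.1 z (h.ZU hz) i) 0
  have e1 : t * z * t⁻¹ = z := by rw [h.Zc t ht z hz]; group
  rw [e1, ap_zero', up_00, up_01, one_mul, one_mul] at h2
  exact left_eq_add.1 h2

/-- a full vector of `Z` -/
theorem exists_full (hk : 0 < k) : ∃ z ∈ Z, ∀ i, N.e z i 0 ≠ 0 := by
  obtain ⟨z, hz, hzD⟩ : ∃ z ∈ Z, z ∉ D := by
    by_contra hno
    push Not at hno
    have h1 := h.gen D hno h.nD
    obtain ⟨v, hv, he⟩ := N.surj fun _ _ => 1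
    have h2 := congrFun (congrFun ((N.ker v hv).2 (h1 hv)) ⟨0, hk⟩) 0
    rw [he] at h2
    exact one_ne_zero h2
  refine ⟨z, hz, fun i hi => hzD ?_⟩
  have h3 : N.e z i = 0 := ext2 hi (h.Z_line N hz i)
  rw [← N.ker z (h.ZU hz)]
  funext j
  obtain ⟨t, ht, h4⟩ := N.trans i j
  have e1 : t * z * t⁻¹ = z := by rw [h.Zc t ht z hz]; group
  have h5 := (h4 z (h.ZU hz)).2 h3
  rwa [e1] at h5

/-- the root lines (with `D`) -/
def rl : Subgroup G where
  carrier := {u | u ∈ U ∧ ∀ i, N.e u i 1 = 0}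
  mul_mem' := by
    rintro a b ⟨ha, ha1⟩ ⟨hb, hb1⟩
    refine ⟨U.mul_mem ha hb, fun i => ?_⟩
    rw [N.mul a ha b hb, Pi.add_apply, Pi.add_apply, ha1, hb1, add_zero]
  one_mem' := ⟨U.one_mem, fun i => by rw [h.e_one N]; rfl⟩
  inv_mem' := by
    rintro a ⟨ha, ha1⟩
    refine ⟨U.inv_mem ha, fun i => ?_⟩
    rw [h.e_inv N ha, Pi.neg_apply, Pi.neg_apply, ha1, neg_zero]

theorem rl_le : h.rl N ≤ U := fun _ hu => hu.1

theorem rl_conj {t u : G} (ht : t ∈ S) (hu : u ∈ h.rl N) : t * u * t⁻¹ ∈ h.rl N := by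
  obtain ⟨σ, h1⟩ := N.line t ht
  refine ⟨h.cU (h.SP ht) hu.1, fun j => ?_⟩
  obtain ⟨i, rfl⟩ := σ.surjective j
  exact (h1 u hu.1 i).2 (hu.2 i)

variable [Finite G]

/-- **(ROOT)**, full vectors -/
theorem root_full {t r z : G} {b : Fin k → K} (htS : t ∈ S) (ht : ActsSL N.e U D t fun i => up (b i))
    (hr : r ∈ h.rl N) (hz : z ∈ Z) (hz0 : ∀ i, N.e z i 0 ≠ 0) (hr0 : ∀ i, N.e r i 0 ≠ 0) : t * r = r * t := by
  have hl0 : ∀ i, N.e r i 0 / N.e z i 0 ≠ 0 := fun i => div_ne_zero (hr0 i) (hz0 i)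
  obtain ⟨g, hg, hgA⟩ := N.lift fun i => dg (N.e r i 0 / N.e z i 0) (hl0 i)
  have hzU := h.ZU hz
  -- `g z g⁻¹` and `r` have the same coordinates
  have h1 : N.e (g * z * g⁻¹) = N.e r := by
    funext i
    rw [hgA.1 z hzU i]
    apply ext2
    · rw [ap_zero', dg_00, dg_01, zero_mul, add_zero, div_mul_cancel₀ _ (hz0 i)]
    · rw [ap_one', dg_10, dg_11, zero_mul, zero_add, h.Z_line N hz i, mul_zero, hr.2 i]
  have h2 : r * (g * z * g⁻¹)⁻¹ ∈ D := (h.e_eq_iff N hr.1 (h.cU hg hzU)).1 h1.symm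
  -- `g⁻¹ t g` acts as a root element
  obtain ⟨s, hs, hsA⟩ := N.unip fun i => (N.e r i 0 / N.e z i 0)⁻¹ ^ 2 * b i
  have h3 : ActsSL N.e U D (g⁻¹ * t * g) fun i => up ((N.e r i 0 / N.e z i 0)⁻¹ ^ 2 * b i) := by
    have h4 := h.acts_mul N hg (h.acts_mul N (h.SP htS) (h.acts_inv N hg hgA) ht) hgA
    have h5 : ((fun i => dg (N.e r i 0 / N.e z i 0) (hl0 i))⁻¹ * (fun i => up (b i)) *
        fun i => dg (N.e r i 0 / N.e z i 0) (hl0 i)) = fun i => up ((N.e r i 0 / N.e z i 0)⁻¹ ^ 2 * b i) := by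
      funext i
      rw [Pi.mul_apply, Pi.mul_apply, Pi.inv_apply, mul_assoc, inv_mul_eq_iff_eq_mul, dg_up]
      congr 2
      have hl0i := hl0 i
      have hzi := hz0 i
      have hri := hr0 i
      field_simp
    rwa [h5] at h4
  have h6 := h.acts_eq N (P.mul_mem (P.mul_mem (P.inv_mem hg) (h.SP htS)) hg) (h.SP hs) h3 hsA z hzU
  have e2 : s * z * s⁻¹ = z := by rw [h.Zc s hs z hz]; group
  rw [e2] at h6
  have h7 : t * (g * z * g⁻¹) = g * z * g⁻¹ * t := by
    have e3 : g * (g⁻¹ * t * g * z * (g⁻¹ * t * g)⁻¹) * g⁻¹ = t * (g * z * g⁻¹) * t⁻¹ := by group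
    rw [h6] at e3
    calc t * (g * z * g⁻¹) = t * (g * z * g⁻¹) * t⁻¹ * t := by group
      _ = g * z * g⁻¹ * t := by rw [← e3]
  have h8 := ht.2 _ h2
  calc t * r = t * (r * (g * z * g⁻¹)⁻¹) * (g * z * g⁻¹) := by group
    _ = r * (g * z * g⁻¹)⁻¹ * (t * (g * z * g⁻¹)) := by rw [h8]; group
    _ = r * t := by rw [h7]; group

/-- **(ROOT)** -/
theorem root (hk : 0 < k) (hq : ∀ a : K, ∃ x, x ≠ 0 ∧ x ≠ a) {t r : G} {b : Fin k → K} (htS : t ∈ S)
    (ht : ActsSL N.e U D t fun i => up (b i)) (hr : r ∈ h.rl N) : t * r = r * t := by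
  obtain ⟨z, hz, hz0⟩ := h.exists_full N hk
  choose x hx0 hx using fun i => hq (N.e r i 0)
  obtain ⟨r₁, hr₁, he⟩ := N.surj fun i => ![x i, 0]
  have h1 : r₁ ∈ h.rl N := ⟨hr₁, fun i => by rw [he]; rfl⟩
  have h2 : r₁⁻¹ * r ∈ h.rl N := (h.rl N).mul_mem ((h.rl N).inv_mem h1) hr
  have h3 : ∀ i, N.e r₁ i 0 ≠ 0 := fun i => by rw [he]; exact hx0 i
  have h4 : ∀ i, N.e (r₁⁻¹ * r) i 0 ≠ 0 := by
    intro i h5
    rw [N.mul _ (U.inv_mem hr₁) r hr.1, h.e_inv N hr₁, he, Pi.add_apply, Pi.add_apply, Pi.neg_apply,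
      Pi.neg_apply] at h5
    exact hx i (neg_add_eq_zero.1 h5)
  have h5 := h.root_full N htS ht h1 hz hz0 h3
  have h6 := h.root_full N htS ht h2 hz hz0 h4
  calc t * r = t * r₁ * (r₁⁻¹ * r) := by group
    _ = r₁ * (t * (r₁⁻¹ * r)) := by rw [h5]; group
    _ = r * t := by rw [h6]; group

end Pre

/-! ### The Borel elements -/

/-- `g ∈ P` acts on `U / D` as upper triangular matrices `A` and trivially on `D`. -/
structure Bo (N : NatKM K S P U D k) (g : G) (A : Fin k → Matrix.SpecialLinearGroup (Fin 2) K) : Prop where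
  mem : g ∈ P
  act : ActsSL N.e U D g A
  tri : ∀ i, ent (A i) 1 0 = 0

namespace Pre

variable (h : Pre S P U D Z) (N : NatKM K S P U D k)

include h

theorem bo_rl {g r : G} {A : Fin k → Matrix.SpecialLinearGroup (Fin 2) K} (hg : Bo N g A) (hr : r ∈ h.rl N) :
    g * r * g⁻¹ ∈ h.rl N := by
  refine ⟨h.cU hg.mem hr.1, fun i => ?_⟩
  rw [hg.act.1 r hr.1 i, ap_one', hg.tri i, hr.2 i, zero_mul, mul_zero, add_zero]

theorem bo_e {g r : G} {A : Fin k → Matrix.SpecialLinearGroup (Fin 2) K} (hg : Bo N g A) (hr : r ∈ h.rl N)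
    (i : Fin k) : N.e (g * r * g⁻¹) i 0 = ent (A i) 0 0 * N.e r i 0 := by
  rw [hg.act.1 r hr.1 i, ap_zero', hr.2 i, mul_zero, add_zero]

theorem bo_mul {g g' : G} {A B : Fin k → Matrix.SpecialLinearGroup (Fin 2) K} (hg : Bo N g A) (hg' : Bo N g' B) :
    Bo N (g * g') (A * B) := by
  refine ⟨P.mul_mem hg.mem hg'.mem, h.acts_mul N hg'.mem hg.act hg'.act, fun i => ?_⟩
  rw [Pi.mul_apply, ent_mul, hg.tri i, hg'.tri i, zero_mul, mul_zero, add_zero]

theorem bo_conj {t g : G} {A : Fin k → Matrix.SpecialLinearGroup (Fin 2) K} (ht : t ∈ S) (hg : Bo N g A) :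
    ∃ B, Bo N (t * g * t⁻¹) B := by
  have htP := h.SP ht
  obtain ⟨B, hB⟩ := N.norm t htP g hg.mem A hg.act.1
  refine ⟨B, P.mul_mem (P.mul_mem htP hg.mem) (P.inv_mem htP), ⟨hB, fun d hd => ?_⟩, fun i => ?_⟩
  · have h1 := hg.act.2 _ (h.cD (P.inv_mem htP) hd)
    rw [inv_inv] at h1
    calc t * g * t⁻¹ * d = t * (g * (t⁻¹ * d * t)) * t⁻¹ := by group
      _ = t * (t⁻¹ * d * t * g) * t⁻¹ := by rw [h1]
      _ = d * (t * g * t⁻¹) := by group
  · obtain ⟨v, hv, he⟩ := N.surj fun _ => ![1, 0]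
    have h2 : v ∈ h.rl N := ⟨hv, fun i => by rw [he]; rfl⟩
    have h3 : t * g * t⁻¹ * v * (t * g * t⁻¹)⁻¹ ∈ h.rl N := by
      have h4 := h.rl_conj N ht (h.bo_rl N hg (h.rl_conj N (S.inv_mem ht) h2))
      have e1 : t * (g * (t⁻¹ * v * t⁻¹⁻¹) * g⁻¹) * t⁻¹ = t * g * t⁻¹ * v * (t * g * t⁻¹)⁻¹ := by group
      rwa [e1] at h4
    have h5 := h3.2 i
    rw [hB v hv i, ap_one', he] at h5
    simpa using h5

variable [Finite G]

/-- **(ABEL)** : Borel elements commute on the root lines -/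
theorem bo_comm (hk : 0 < k) (hq : ∀ a : K, ∃ x, x ≠ 0 ∧ x ≠ a) {g g' r : G}
    {A B : Fin k → Matrix.SpecialLinearGroup (Fin 2) K} (hg : Bo N g A) (hg' : Bo N g' B) (hr : r ∈ h.rl N) :
    g * g' * r * (g * g')⁻¹ = g' * g * r * (g' * g)⁻¹ := by
  choose c hc using fun i => exists_up_comm (A i) (B i) (hg.tri i) (hg'.tri i)
  obtain ⟨t, ht, htA⟩ := N.unip c
  have h1 := h.bo_mul N hg hg'
  have h2 := h.bo_mul N hg' hg
  have h3 : ActsSL N.e U D (t * (g' * g)) (A * B) := by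
    have h4 := h.acts_mul N h2.mem htA h2.act
    have h5 : ((fun i => up (c i)) * (B * A)) = A * B := by
      funext i
      rw [Pi.mul_apply, Pi.mul_apply, Pi.mul_apply, hc i]
    rwa [h5] at h4
  have h6 := h.acts_eq N h1.mem (P.mul_mem (h.SP ht) h2.mem) h1.act h3 r hr.1
  have h7 := h.root N hk hq ht htA (h.bo_rl N h2 hr)
  calc g * g' * r * (g * g')⁻¹ = t * (g' * g) * r * (t * (g' * g))⁻¹ := h6
    _ = t * (g' * g * r * (g' * g)⁻¹) * t⁻¹ := by group
    _ = g' * g * r * (g' * g)⁻¹ * t * t⁻¹ := by rw [h7]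
    _ = g' * g * r * (g' * g)⁻¹ := by group

/-! ### The complement -/

/-- the commutators `[r, c]`, `r` in the root lines -/
def rs {c : G} {A : Fin k → Matrix.SpecialLinearGroup (Fin 2) K} (hc : Bo N c A) : Subgroup G where
  carrier := {x | ∃ r ∈ h.rl N, x = c * r * c⁻¹ * r⁻¹}
  mul_mem' := by
    rintro _ _ ⟨r, hr, rfl⟩ ⟨s, hs, rfl⟩
    refine ⟨r * s, (h.rl N).mul_mem hr hs, ?_⟩
    have h1 : r⁻¹ * (c * s * c⁻¹ * s⁻¹) = c * s * c⁻¹ * s⁻¹ * r⁻¹ :=
      h.ab _ (U.inv_mem hr.1) _ (U.mul_mem (h.cU hc.mem hs.1) (U.inv_mem hs.1))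
    calc c * r * c⁻¹ * r⁻¹ * (c * s * c⁻¹ * s⁻¹) = c * r * c⁻¹ * (r⁻¹ * (c * s * c⁻¹ * s⁻¹)) := by group
      _ = c * (r * s) * c⁻¹ * (r * s)⁻¹ := by rw [h1]; group
  one_mem' := ⟨1, (h.rl N).one_mem, by group⟩
  inv_mem' := by
    rintro _ ⟨r, hr, rfl⟩
    refine ⟨r⁻¹, (h.rl N).inv_mem hr, ?_⟩
    have h1 : r * (c * r⁻¹ * c⁻¹) = c * r⁻¹ * c⁻¹ * r := h.ab _ hr.1 _ (h.cU hc.mem (U.inv_mem hr.1))
    calc (c * r * c⁻¹ * r⁻¹)⁻¹ = r * (c * r⁻¹ * c⁻¹) := by group
      _ = c * r⁻¹ * c⁻¹ * r⁻¹⁻¹ := by rw [h1, inv_inv]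

theorem rs_le {c : G} {A : Fin k → Matrix.SpecialLinearGroup (Fin 2) K} (hc : Bo N c A) : h.rs N hc ≤ h.rl N := by
  rintro _ ⟨r, hr, rfl⟩
  exact (h.rl N).mul_mem (h.bo_rl N hc hr) ((h.rl N).inv_mem hr)

theorem rs_e {c r : G} {A : Fin k → Matrix.SpecialLinearGroup (Fin 2) K} (hc : Bo N c A) (hr : r ∈ h.rl N)
    (i : Fin k) : N.e (c * r * c⁻¹ * r⁻¹) i 0 = (ent (A i) 0 0 - 1) * N.e r i 0 := by
  rw [N.mul _ (h.bo_rl N hc hr).1 _ (U.inv_mem hr.1), h.e_inv N hr.1, Pi.add_apply, Pi.add_apply, Pi.neg_apply,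
    Pi.neg_apply, h.bo_e N hc hr]
  ring

/-- elements of the root lines with the same `0`-coordinates differ by an element of `D` -/
theorem rl_div {r s : G} (hr : r ∈ h.rl N) (hs : s ∈ h.rl N) (he : ∀ i, N.e r i 0 = N.e s i 0) : r * s⁻¹ ∈ D := by
  refine (h.e_eq_iff N hr.1 hs.1).1 ?_
  funext i
  exact ext2 (he i) (by rw [hr.2 i, hs.2 i])

variable {c : G} {A : Fin k → Matrix.SpecialLinearGroup (Fin 2) K} (hc : Bo N c A)

theorem rs_inf (hA : ∀ i, ent (A i) 0 0 ≠ 1) : h.rs N hc ⊓ D = ⊥ := by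
  rw [eq_bot_iff]
  rintro _ ⟨⟨r, hr, rfl⟩, hx⟩
  have h1 : N.e (c * r * c⁻¹ * r⁻¹) = 0 := (N.ker _ (h.DU hx)).2 hx
  have h2 : ∀ i, N.e r i 0 = 0 := by
    intro i
    have h3 := h.rs_e N hc hr i
    rw [h1] at h3
    exact (mul_eq_zero.1 h3.symm).resolve_left (sub_ne_zero.2 (hA i))
  have h4 : r ∈ D := by
    rw [← N.ker r hr.1]
    funext i
    exact ext2 (h2 i) (hr.2 i)
  rw [mem_bot, hc.act.2 r h4]
  group

theorem rs_surj (hA : ∀ i, ent (A i) 0 0 ≠ 1) (x : Fin k → K) : ∃ r ∈ h.rs N hc, ∀ i, N.e r i 0 = x i := by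
  obtain ⟨r, hr, he⟩ := N.surj fun i => ![(ent (A i) 0 0 - 1)⁻¹ * x i, 0]
  have h1 : r ∈ h.rl N := ⟨hr, fun i => by rw [he]; rfl⟩
  refine ⟨c * r * c⁻¹ * r⁻¹, ⟨r, h1, rfl⟩, fun i => ?_⟩
  have h2 : N.e r i 0 = (ent (A i) 0 0 - 1)⁻¹ * x i := by rw [he]; rfl
  rw [h.rs_e N hc h1 i, h2, ← mul_assoc, mul_inv_cancel₀ (sub_ne_zero.2 (hA i)), one_mul]

/-- the root lines are `D × R` -/
theorem rs_dec (hA : ∀ i, ent (A i) 0 0 ≠ 1) {r : G} (hr : r ∈ h.rl N) : ∃ d ∈ D, ∃ s ∈ h.rs N hc, r = d * s := by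
  obtain ⟨s, hs, he⟩ := h.rs_surj N hc hA fun i => N.e r i 0
  refine ⟨r * s⁻¹, h.rl_div N hr (h.rs_le N hc hs) fun i => (he i).symm, s, hs, by group⟩

theorem rs_ext (hA : ∀ i, ent (A i) 0 0 ≠ 1) {r s : G} (hr : r ∈ h.rs N hc) (hs : s ∈ h.rs N hc)
    (he : ∀ i, N.e r i 0 = N.e s i 0) : r = s := by
  have h1 : r * s⁻¹ ∈ h.rs N hc ⊓ D :=
    ⟨(h.rs N hc).mul_mem hr ((h.rs N hc).inv_mem hs), h.rl_div N (h.rs_le N hc hr) (h.rs_le N hc hs) he⟩
  rw [h.rs_inf N hc hA, mem_bot] at h1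
  exact mul_inv_eq_one.1 h1

/-- Borel elements normalise `R` -/
theorem rs_bo (hk : 0 < k) (hq : ∀ a : K, ∃ x, x ≠ 0 ∧ x ≠ a) {g s : G}
    {B : Fin k → Matrix.SpecialLinearGroup (Fin 2) K} (hg : Bo N g B) (hs : s ∈ h.rs N hc) :
    g * s * g⁻¹ ∈ h.rs N hc := by
  obtain ⟨r, hr, rfl⟩ := hs
  refine ⟨g * r * g⁻¹, h.bo_rl N hg hr, ?_⟩
  have h1 := h.bo_comm N hk hq hg hc hr
  calc g * (c * r * c⁻¹ * r⁻¹) * g⁻¹ = g * c * r * (g * c)⁻¹ * (g * r * g⁻¹)⁻¹ := by group
    _ = c * g * r * (c * g)⁻¹ * (g * r * g⁻¹)⁻¹ := by rw [h1]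
    _ = c * (g * r * g⁻¹) * c⁻¹ * (g * r * g⁻¹)⁻¹ := by group

/-- `[r, g] ∈ R` for every Borel element `g` -/
theorem rs_comm (hA : ∀ i, ent (A i) 0 0 ≠ 1) (hk : 0 < k) (hq : ∀ a : K, ∃ x, x ≠ 0 ∧ x ≠ a) {g r : G}
    {B : Fin k → Matrix.SpecialLinearGroup (Fin 2) K} (hg : Bo N g B) (hr : r ∈ h.rl N) :
    g * r * g⁻¹ * r⁻¹ ∈ h.rs N hc := by
  obtain ⟨d, hd, s, hs, rfl⟩ := h.rs_dec N hc hA hr
  have h1 := hg.act.2 d hd
  have h2 := h.rs_bo N hc hk hq hg hs
  have h3 : d * (g * s * g⁻¹ * s⁻¹) = g * s * g⁻¹ * s⁻¹ * d :=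
    h.ab _ (h.DU hd) _ (h.rs_le N hc ((h.rs N hc).mul_mem h2 ((h.rs N hc).inv_mem hs))).1
  have h4 : g * (d * s) * g⁻¹ * (d * s)⁻¹ = g * s * g⁻¹ * s⁻¹ := by
    calc g * (d * s) * g⁻¹ * (d * s)⁻¹ = g * d * (s * g⁻¹ * s⁻¹ * d⁻¹) := by group
      _ = d * (g * s * g⁻¹ * s⁻¹) * d⁻¹ := by rw [h1]; group
      _ = g * s * g⁻¹ * s⁻¹ := by rw [h3]; group
  rw [h4]
  exact (h.rs N hc).mul_mem h2 ((h.rs N hc).inv_mem hs)

theorem rs_S (hA : ∀ i, ent (A i) 0 0 ≠ 1) (hk : 0 < k) (hq : ∀ a : K, ∃ x, x ≠ 0 ∧ x ≠ a) {t s : G} (ht : t ∈ S)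
    (hs : s ∈ h.rs N hc) : t * s * t⁻¹ ∈ h.rs N hc := by
  obtain ⟨r, hr, rfl⟩ := hs
  obtain ⟨B, hB⟩ := h.bo_conj N ht hc
  have h1 := h.rs_comm N hc hA hk hq hB (h.rl_conj N ht hr)
  have e1 : t * c * t⁻¹ * (t * r * t⁻¹) * (t * c * t⁻¹)⁻¹ * (t * r * t⁻¹)⁻¹ = t * (c * r * c⁻¹ * r⁻¹) * t⁻¹ := by group
  rwa [e1] at h1

end Pre

/-- `R` is an `S`-invariant complement of `D` in the root lines; `Z = (Z ∩ D)(Z ∩ R)`; the full vectors of `R` lie in
points, with any `d ∈ Z ∩ D`. -/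
structure StarA (S P U D Z : Subgroup G) (N : NatKM K S P U D k) (R : Subgroup G) : Prop where
  le : R ≤ U
  line : ∀ r ∈ R, ∀ i, N.e r i 1 = 0
  surj : ∀ x : Fin k → K, ∃ r ∈ R, ∀ i, N.e r i 0 = x i
  inf : R ⊓ D = ⊥
  nor : S ≤ normalizer (R : Set G)
  dec : ∀ z ∈ Z, ∃ d ∈ Z ⊓ D, ∃ r ∈ Z ⊓ R, z = d * r
  pt : ∀ r ∈ R, (∀ i, N.e r i 0 ≠ 0) → ∀ d ∈ Z ⊓ D, ∃ g ∈ P, d * r ∈ MulAut.conj g • Z

theorem Pre.exists_star [Finite G] (h : Pre S P U D Z) (N : NatKM K S P U D k) (hk : 0 < k)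
    (hq : ∀ a : K, ∃ x, x ≠ 0 ∧ x ≠ a) : ∃ R, StarA S P U D Z N R := by
  obtain ⟨l, hl0, hl1⟩ := hq 1
  obtain ⟨c, hcP, hcA⟩ := N.lift fun _ => dg l hl0
  have hc : Bo N c fun _ => dg l hl0 := ⟨hcP, hcA, fun _ => rfl⟩
  have hA : ∀ i : Fin k, ent ((fun _ : Fin k => dg l hl0) i) 0 0 ≠ 1 := fun _ => hl1
  have hS := fun {t s : G} (ht : t ∈ S) (hs : s ∈ h.rs N hc) => h.rs_S N hc hA hk hq ht hs
  have hdec : ∀ z ∈ Z, ∃ d ∈ Z ⊓ D, ∃ r ∈ Z ⊓ h.rs N hc, z = d * r := by
    intro z hz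
    obtain ⟨d, hd, s, hs, rfl⟩ := h.rs_dec N hc hA ⟨h.ZU hz, h.Z_line N hz⟩
    have h1 : ∀ t ∈ S, t * s * t⁻¹ = s := by
      intro t ht
      have h2 : t * (d * s) * t⁻¹ = d * s := by rw [h.Zc t ht _ hz]; group
      have h3 : t * s * t⁻¹ * s⁻¹ ∈ h.rs N hc ⊓ D := by
        refine ⟨(h.rs N hc).mul_mem (hS ht hs) ((h.rs N hc).inv_mem hs), ?_⟩
        have h4 := D.mul_mem (D.inv_mem (h.cD (h.SP ht) hd)) hd
        have e1 : (t * d * t⁻¹)⁻¹ * d = t * s * t⁻¹ * s⁻¹ := by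
          calc (t * d * t⁻¹)⁻¹ * d = (t * d * t⁻¹)⁻¹ * (d * s) * s⁻¹ := by group
            _ = (t * d * t⁻¹)⁻¹ * (t * (d * s) * t⁻¹) * s⁻¹ := by rw [h2]
            _ = t * s * t⁻¹ * s⁻¹ := by group
        rwa [e1] at h4
      rw [h.rs_inf N hc hA, mem_bot] at h3
      exact mul_inv_eq_one.1 h3
    have hsZ : s ∈ Z := by
      refine h.Zm s (h.rs_le N hc hs).1 fun t ht => ?_
      calc t * s = t * s * t⁻¹ * t := by group
        _ = s * t := by rw [h1 t ht]
    have hdZ : d ∈ Z := by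
      have h5 := Z.mul_mem hz (Z.inv_mem hsZ)
      rwa [mul_inv_cancel_right] at h5
    exact ⟨d, ⟨hdZ, hd⟩, s, ⟨hsZ, hs⟩, rfl⟩
  refine ⟨h.rs N hc, (h.rs_le N hc).trans (h.rl_le N), fun r hr i => (h.rs_le N hc hr).2 i, h.rs_surj N hc hA,
    h.rs_inf N hc hA, fun t ht => ?_, hdec, fun r hr hr0 d hd => ?_⟩
  · rw [mem_normalizer_iff]
    intro s
    refine ⟨fun hs => hS ht hs, fun hs => ?_⟩
    have h1 := hS (S.inv_mem ht) hs
    have e1 : t⁻¹ * (t * s * t⁻¹) * t⁻¹⁻¹ = s := by group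
    rwa [e1] at h1
  · obtain ⟨z, hz, hz0⟩ := h.exists_full N hk
    obtain ⟨d₀, hd₀, s, hs, hzs⟩ := hdec z hz
    have hs0 : ∀ i, N.e s i 0 ≠ 0 := by
      intro i
      have h1 : N.e z = N.e s := by
        rw [hzs, N.mul _ (h.DU hd₀.2) _ (h.ZU hs.1), (N.ker _ (h.DU hd₀.2)).2 hd₀.2, zero_add]
      rw [← h1]
      exact hz0 i
    obtain ⟨g, hg, hgA⟩ := N.lift fun i => dg (N.e r i 0 / N.e s i 0) (div_ne_zero (hr0 i) (hs0 i))
    have hgB : Bo N g fun i => dg (N.e r i 0 / N.e s i 0) (div_ne_zero (hr0 i) (hs0 i)) := ⟨hg, hgA, fun _ => rfl⟩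
    have h2 := h.rs_bo N hc hk hq hgB hs.2
    have h3 : g * s * g⁻¹ = r := by
      refine h.rs_ext N hc hA h2 hr fun i => ?_
      rw [h.bo_e N hgB (h.rs_le N hc hs.2) i, dg_00, div_mul_cancel₀ _ (hs0 i)]
    refine ⟨g, hg, ?_⟩
    rw [mem_pointwise_smul_iff_inv_smul_mem, ← map_inv, MulAut.smul_def, MulAut.conj_apply, inv_inv]
    have h4 : g⁻¹ * (d * r) * g = d * s := by
      rw [← h3]
      have h5 := hgA.2 d hd.2
      calc g⁻¹ * (d * (g * s * g⁻¹)) * g = g⁻¹ * (d * g) * s := by group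
        _ = d * s := by rw [← h5]; group
    rw [h4]
    exact Z.mul_mem hd.1 hs.1

/-! ### The instance -/

section inst

open Cfsg.Agent.Omega.MinPar
open Cfsg.Agent.Omega.FrameFF (cv)
open Cfsg.Agent.Omega.All.HOne (zl_sq' zl_comm' conjZ conjD)
open Cfsg.Agent.MinSimple.VModule (le_normalizer_zl zc_le_zl zl_le)

/-- `StarA` for `U = zl S P`, `D = cv S P`, `Z = zc S`. -/
structure Star (S P : Subgroup G) (N : NatKM K S P (zl S P) (cv S P) k) (R : Subgroup G) : Prop where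
  le : R ≤ zl S P
  line : ∀ r ∈ R, ∀ i, N.e r i 1 = 0
  surj : ∀ x : Fin k → K, ∃ r ∈ R, ∀ i, N.e r i 0 = x i
  inf : R ⊓ cv S P = ⊥
  nor : S ≤ normalizer (R : Set G)
  dec : ∀ z ∈ zc S, ∃ d ∈ zc S ⊓ cv S P, ∃ r ∈ zc S ⊓ R, z = d * r
  pt : ∀ r ∈ R, (∀ i, N.e r i 0 ≠ 0) → ∀ d ∈ zc S ⊓ cv S P, ∃ g ∈ P, d * r ∈ MulAut.conj g • zc S

theorem exists_ne_of_card (hK : 2 < Nat.card K) (a : K) : ∃ x, x ≠ 0 ∧ x ≠ a := by
  by_contra hno
  push Not at hno
  have h1 : Function.Surjective fun b : Bool => if b then a else (0 : K) := by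
    intro x
    by_cases hx : x = 0
    · exact ⟨false, by rw [hx]; rfl⟩
    · exact ⟨true, by rw [hno x hx]; rfl⟩
  have h2 := Nat.card_le_card_of_surjective _ h1
  rw [Nat.card_eq_fintype_card (α := Bool), Fintype.card_bool] at h2
  omega

/-- the hypotheses hold for `U = zl S P`, `D = cv S P`, `Z = zc S` -/
theorem pre [Finite G] (hG : IsCharacteristicTwoType G) {S : Sylow 2 G} {P : Subgroup G}
    (hP : IsParS (S : Subgroup G) P) :
    Pre (S : Subgroup G) P (zl (S : Subgroup G) P) (cv (S : Subgroup G) P) (zc (S : Subgroup G)) where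
  syl := ⟨hP.le, S.isPGroup', fun Q _ hQ hSQ => S.is_maximal' hQ hSQ⟩
  US := Cfsg.Agent.Omega.NOThreeL.Basic.IsParS.zl_le_S hG hP
  nU := le_normalizer_zl _ _
  nD g hg := mem_normalizer_iff.2 fun v => ⟨fun hv => conjD hg hv, fun hv => by
    have h1 := conjD (inv_mem hg) hv
    have e : g⁻¹ * (g * v * g⁻¹) * g⁻¹⁻¹ = v := by group
    rwa [e] at h1⟩
  DU := inf_le_left
  ab _ hu _ hv := zl_comm' hG S hP hu hv
  sq _ hu := zl_sq' hG S hP hu
  ZU := zc_le_zl _ _
  Zc t ht z hz := (Cfsg.Agent.MinSimple.VModule.mem_zc.1 hz).2.1 t ht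
  Zm u hu hc := by
    refine Cfsg.Agent.MinSimple.VModule.mem_zc.2 ⟨Cfsg.Agent.Omega.NOThreeL.Basic.IsParS.zl_le_S hG hP hu, hc, ?_⟩
    rw [pow_two]
    exact zl_sq' hG S hP hu
  gen W hW hPW := zl_le hW hPW

theorem exists_star [Finite G] (hG : IsCharacteristicTwoType G) {S : Sylow 2 G} {P : Subgroup G}
    (hP : IsParS (S : Subgroup G) P)
    (N : NatKM K (S : Subgroup G) P (zl (S : Subgroup G) P) (cv (S : Subgroup G) P) k) (hk : 0 < k)
    (hK : 2 < Nat.card K) : ∃ R, Star (S : Subgroup G) P N R := by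
  obtain ⟨R, hR⟩ := (pre hG hP).exists_star N hk (exists_ne_of_card hK)
  exact ⟨R, hR.le, hR.line, hR.surj, hR.inf, hR.nor, hR.dec, hR.pt⟩

end inst

end Cfsg.Agent.Omega.NOThreeL.RLow.Star
end
end
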